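import Mathlib
import Cfsg.Agent.Base
import Cfsg.Agent.Lib.H98.EigenDim

/-!
# Regular nilpotent operators and uniserial modules (helper90)
-/

set_option autoImplicit false
set_option linter.unusedSectionVars false

namespace H90.MX

open Module LinearMap Polynomial

variable {k : Type*} [Field k] {V : Type*} [AddCommGroup V] [Module k V] {N Y : End k V}

/-- a nilpotent operator with at most one Jordan block -/
def Reg (N : End k V) : Prop := IsNilpotent N ∧ finrank k (ker N) ≤ 1

/-- `t` acts trivially on the section `N^j V / N^(j+2) V` -/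
def Tv (N : End k V) (j : ℕ) (t : End k V) : Prop := ∀ v ∈ range (N ^ j), (t - 1) v ∈ range (N ^ (j + 2))

/-- `T` stabilises the flag of the regular element `s`, and all two-step centralisers but the last coincide -/
structure Uni {G : Type*} [Group G] (ρ : G →* End k V) (T : Subgroup G) (s : G) (p : ℕ) : Prop where
  mem : s ∈ T
  pow : s ^ p = 1
  reg : Reg (ρ s - 1)
  step : ∀ t ∈ T, ∀ j, ∀ v ∈ range ((ρ s - 1) ^ j), (ρ t - 1) v ∈ range ((ρ s - 1) ^ (j + 1))
  two : ∀ t ∈ T, ∀ i j, i + 3 ≤ finrank k V → j + 3 ≤ finrank k V → Tv (ρ s - 1) i (ρ t) → Tv (ρ s - 1) j (ρ t)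

theorem range_pow_anti (N : End k V) {i j : ℕ} (h : i ≤ j) : range (N ^ j) ≤ range (N ^ i) := by
  obtain ⟨c, rfl⟩ := Nat.exists_eq_add_of_le h
  rw [pow_add]
  exact range_comp_le_range _ _

theorem range_pow_succ (N : End k V) (j : ℕ) : range (N ^ (j + 1)) = (range (N ^ j)).map N := by
  rw [pow_succ', End.mul_eq_comp, range_comp]

theorem isUnit_aeval (h : IsNilpotent N) {f : k[X]} (hf : f.coeff 0 ≠ 0) : IsUnit (aeval N f) := by
  rw [← X_mul_divX_add f, map_add, aeval_C, map_mul, aeval_X]
  refine IsNilpotent.isUnit_add_right_of_commute ?_ ((Ne.isUnit hf).map _) (Algebra.commute_algebraMap_right _ _)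
  have : Commute (aeval N X) (aeval N f.divX) := (Commute.all _ _).map _
  rw [aeval_X] at this
  exact this.isNilpotent_mul_right h

theorem commute_aeval (N : End k V) (f g : k[X]) : Commute (aeval N f) (aeval N g) := (Commute.all _ _).map _

theorem range_mul_unit {A B : End k V} (h : IsUnit B) : range (A * B) = range A := by
  rw [End.mul_eq_comp, range_comp, range_eq_top.2 ((End.isUnit_iff B).1 h).2, Submodule.map_top]

theorem ker_unit_mul {A B : End k V} (h : IsUnit B) : ker (B * A) = ker A := by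
  rw [End.mul_eq_comp, ker_comp, ker_eq_bot.2 ((End.isUnit_iff B).1 h).1, Submodule.comap_bot]

theorem range_aeval (h : IsNilpotent N) {f : k[X]} (hf : f.coeff 0 ≠ 0) (m : ℕ) :
    range (aeval N (X ^ m * f)) = range (N ^ m) := by
  rw [map_mul, map_pow, aeval_X, range_mul_unit (isUnit_aeval h hf)]

theorem ker_aeval (h : IsNilpotent N) {f : k[X]} (hf : f.coeff 0 ≠ 0) (m : ℕ) :
    ker (aeval N (X ^ m * f)) = ker (N ^ m) := by
  rw [mul_comm, map_mul, map_pow, aeval_X, ker_unit_mul (isUnit_aeval h hf)]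

theorem exists_X_pow_mul {f : k[X]} (hf : f ≠ 0) : ∃ m u, f = X ^ m * u ∧ u.coeff 0 ≠ 0 := by
  obtain ⟨u, h1, h2⟩ := exists_eq_pow_rootMultiplicity_mul_and_not_dvd f hf 0
  exact ⟨_, u, by simpa using h1, fun e => h2 (by simpa using X_dvd_iff.2 e)⟩

variable [Module.Finite k V]

theorem inv_lt (h : IsNilpotent N) {U : Submodule k V} (hU : U ≠ ⊥) (hi : ∀ u ∈ U, N u ∈ U) :
    finrank k (U.map N) < finrank k U := by
  refine Submodule.finrank_lt_finrank_of_lt (lt_of_le_of_ne (Submodule.map_le_iff_le_comap.2 hi) fun e => hU ?_)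
  obtain ⟨n, hn⟩ := h
  have : ∀ j, U.map (N ^ j) = U := fun j => by
    induction j with
    | zero => rw [pow_zero, End.one_eq_id, Submodule.map_id]
    | succ j ih => rw [pow_succ', End.mul_eq_comp, Submodule.map_comp, ih, e]
  rw [← this n, hn, Submodule.map_zero]

namespace Reg

variable (h : Reg N)
include h

theorem finrank_map {U : Submodule k V} (hi : ∀ u ∈ U, N u ∈ U) : finrank k (U.map N) = finrank k U - 1 := by
  have h1 := H98.finrank_map_add_finrank_inf_ker N U
  have h2 : finrank k ↥(U ⊓ ker N) ≤ finrank k (ker N) := Submodule.finrank_mono inf_le_right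
  have h3 := h.2
  by_cases hU : U = ⊥
  · subst hU; simp
  · have := inv_lt h.1 hU hi
    omega

theorem finrank_range_pow (j : ℕ) : finrank k (range (N ^ j)) = finrank k V - j := by
  induction j with
  | zero => rw [pow_zero, End.one_eq_id, range_id, finrank_top, Nat.sub_zero]
  | succ j ih =>
    rw [range_pow_succ, h.finrank_map, ih, Nat.sub_sub]
    exact fun u hu => range_pow_anti N (Nat.le_succ j) (range_pow_succ N j ▸ Submodule.mem_map_of_mem hu)

theorem pow_eq_zero_iff {j : ℕ} : N ^ j = 0 ↔ finrank k V ≤ j := by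
  rw [← range_eq_bot, ← Submodule.finrank_eq_zero, h.finrank_range_pow, Nat.sub_eq_zero_iff_le]

theorem not_range_le {j : ℕ} (hj : j < finrank k V) : ¬ range (N ^ j) ≤ range (N ^ (j + 1)) := fun e => by
  have := Submodule.finrank_mono e
  rw [h.finrank_range_pow, h.finrank_range_pow] at this
  omega

theorem ker_pow {i j : ℕ} (e : i + j = finrank k V) : ker (N ^ i) = range (N ^ j) := by
  refine (Submodule.eq_of_le_of_finrank_eq ?_ ?_).symm
  · rw [range_le_ker_iff, ← End.mul_eq_comp, ← pow_add, h.pow_eq_zero_iff, e]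
  · have := (N ^ i).finrank_range_add_finrank_ker
    rw [h.finrank_range_pow] at this ⊢
    omega

/-- the invariant subspaces are the members of the flag -/
theorem eq_range_of_inv {U : Submodule k V} (hi : ∀ u ∈ U, N u ∈ U) : U = range (N ^ (finrank k V - finrank k U)) := by
  have hle := Submodule.finrank_le U
  have key : ∀ j, finrank k (U.map (N ^ j)) = finrank k U - j := fun j => by
    induction j with
    | zero => rw [pow_zero, End.one_eq_id, Submodule.map_id, Nat.sub_zero]
    | succ j ih =>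
      rw [pow_succ', End.mul_eq_comp, Submodule.map_comp, h.finrank_map, ih, Nat.sub_sub]
      rintro _ ⟨u, hu, rfl⟩
      exact ⟨N u, hi u hu, by rw [← End.mul_apply, ← End.mul_apply, ← pow_succ, ← pow_succ']⟩
  refine Submodule.eq_of_le_of_finrank_eq ?_ (by rw [h.finrank_range_pow]; omega)
  rw [← h.ker_pow (i := finrank k U) (by omega), le_ker_iff_map, ← Submodule.finrank_eq_zero, key, Nat.sub_self]

/-- a vector generating a section of the flag -/
theorem exists_smul {j : ℕ} {w : V} (hw : w ∈ range (N ^ j)) (hw' : w ∉ range (N ^ (j + 1))) {v : V}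
    (hv : v ∈ range (N ^ j)) : ∃ c : k, v - c • w ∈ range (N ^ (j + 1)) := by
  have h1 : range (N ^ (j + 1)) < range (N ^ (j + 1)) ⊔ k ∙ w :=
    lt_of_le_of_ne le_sup_left fun e => hw' (e.ge (Submodule.mem_sup_right (Submodule.mem_span_singleton_self w)))
  have h2 := Submodule.finrank_lt_finrank_of_lt h1
  have h3 : range (N ^ (j + 1)) ⊔ k ∙ w = range (N ^ j) := Submodule.eq_of_le_of_finrank_le
    (sup_le (range_pow_anti N j.le_succ) ((Submodule.span_singleton_le_iff_mem _ _).2 hw)) (by
      rw [h.finrank_range_pow] at h2 ⊢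
      omega)
  obtain ⟨a, ha, b, hb, rfl⟩ := Submodule.mem_sup.1 (h3.ge hv)
  obtain ⟨c, rfl⟩ := Submodule.mem_span_singleton.1 hb
  exact ⟨c, by simpa using ha⟩

theorem cyclic {w : V} (hw : w ∉ range N) (v : V) : ∃ f : k[X], v = aeval N f w := by
  let U : Submodule k V := range ((LinearMap.applyₗ w).comp (aeval N).toLinearMap)
  have hi : ∀ u ∈ U, N u ∈ U := by
    rintro _ ⟨f, rfl⟩
    exact ⟨X * f, by simp⟩
  have e := h.eq_range_of_inv hi
  rcases Nat.eq_zero_or_pos (finrank k V - finrank k U) with h0 | h0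
  · rw [h0, pow_zero, End.one_eq_id, range_id] at e
    obtain ⟨f, hf⟩ := e.ge (Submodule.mem_top (x := v))
    exact ⟨f, hf.symm⟩
  · exact (hw (by simpa using range_pow_anti N h0 (e.le ⟨1, by simp⟩))).elim

/-- the commutant of a regular nilpotent operator consists of the polynomials in it -/
theorem exists_aeval (c : Commute Y N) : ∃ f : k[X], Y = aeval N f := by
  by_cases h0 : range N = ⊤
  · have : finrank k V ≤ 0 := by
      have := h.finrank_range_pow 1
      rw [pow_one, h0, finrank_top] at this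
      omega
    haveI : Subsingleton V := finrank_zero_iff.1 (Nat.le_zero.1 this)
    exact ⟨0, Subsingleton.elim _ _⟩
  obtain ⟨w, -, hw⟩ := SetLike.exists_of_lt (lt_top_iff_ne_top.2 h0)
  obtain ⟨f, hf⟩ := h.cyclic hw (Y w)
  refine ⟨f, LinearMap.ext fun v => ?_⟩
  obtain ⟨g, rfl⟩ := h.cyclic hw v
  have : Commute Y (aeval N g) := by
    rw [aeval_eq_sum_range]
    exact Commute.sum_right _ _ _ fun i _ => (c.pow_right i).smul_right _
  rw [← End.mul_apply, this.eq, End.mul_apply, hf, ← End.mul_apply, (commute_aeval N g f).eq, End.mul_apply]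

theorem commute_of_commute {Y' : End k V} (c : Commute Y N) (c' : Commute Y' N) : Commute Y Y' := by
  obtain ⟨f, rfl⟩ := h.exists_aeval c
  obtain ⟨g, rfl⟩ := h.exists_aeval c'
  exact commute_aeval N f g

theorem restrict {U : Submodule k V} (hi : ∀ u ∈ U, N u ∈ U) : Reg (N.restrict hi) := by
  refine ⟨Module.End.isNilpotent.restrict hi h.1, le_trans ?_ h.2⟩
  rw [ker_restrict, ← Submodule.finrank_map_subtype_eq]
  exact Submodule.finrank_mono (by rintro _ ⟨v, hv, rfl⟩; exact hv)

theorem mapQ {U : Submodule k V} (hi : U ≤ U.comap N) : Reg (U.mapQ U N hi) := by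
  refine ⟨Module.End.IsNilpotent.mapQ hi h.1, ?_⟩
  have h1 := (U.mapQ U N hi).finrank_range_add_finrank_ker
  have h2 := H98.finrank_map_add_finrank_inf_ker U.mkQ (range N)
  have h3 : range (U.mapQ U N hi) = (range N).map U.mkQ := by
    rw [← range_comp, ← Submodule.mapQ_mkQ (h := hi), range_comp, Submodule.range_mkQ, Submodule.map_top]
  have h4 : finrank k ↥(range N ⊓ ker U.mkQ) ≤ finrank k U := Submodule.finrank_mono (by simp)
  have h5 := U.finrank_quotient_add_finrank
  have h6 := N.finrank_range_add_finrank_ker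
  have h7 := h.2
  rw [h3] at h1
  omega

theorem mul_unit {f : k[X]} (hf : f.coeff 0 ≠ 0) : Reg (aeval N (X * f)) := by
  refine ⟨?_, ?_⟩
  · rw [map_mul]
    exact (commute_aeval N X f).isNilpotent_mul_right (by simpa using h.1)
  · have := ker_aeval h.1 hf 1
    rw [pow_one, pow_one] at this
    rw [this]
    exact h.2

omit [Module.Finite k V] in
theorem conj {A B : End k V} (h1 : A * B = 1) (h2 : B * A = 1) : Reg (A * N * B) := by
  have hA : IsUnit A := ⟨⟨A, B, h1, h2⟩, rfl⟩
  have hB : IsUnit B := ⟨⟨B, A, h2, h1⟩, rfl⟩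
  refine ⟨?_, ?_⟩
  · obtain ⟨n, hn⟩ := h.1
    refine ⟨n, ?_⟩
    have := Units.conj_pow (⟨A, B, h1, h2⟩ : (End k V)ˣ) N n
    simpa [hn] using this
  · rw [mul_assoc, ker_unit_mul hA, End.mul_eq_comp, ker_comp]
    exact (Submodule.comap_equiv_eq_map_symm (LinearEquiv.ofBijective B ((End.isUnit_iff B).1 hB)) (ker N) ▸
      (LinearEquiv.finrank_map_eq _ _).le).trans h.2

end Reg

theorem sub_one_pow_char {p : ℕ} [Fact p.Prime] [CharP k p] {A : End k V} {e : ℕ} (h : A ^ p ^ e = 1) :
    (A - 1) ^ p ^ e = 0 := by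
  rcases subsingleton_or_nontrivial V with hV | hV
  · exact Subsingleton.elim _ _
  haveI : CharP (End k V) p := charP_of_injective_algebraMap (algebraMap k (End k V)).injective p
  rw [sub_pow_char_pow_of_commute _ _ (Commute.one_right _), h, one_pow, sub_self]

theorem pow_char_of_nil {p : ℕ} [Fact p.Prime] [CharP k p] {A : End k V} {e : ℕ} (h : (A - 1) ^ p ^ e = 0) :
    A ^ p ^ e = 1 := by
  rcases subsingleton_or_nontrivial V with hV | hV
  · exact Subsingleton.elim _ _
  haveI : CharP (End k V) p := charP_of_injective_algebraMap (algebraMap k (End k V)).injective p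
  rwa [sub_pow_char_pow_of_commute _ _ (Commute.one_right _), one_pow, sub_eq_zero] at h

theorem Uni.le {G : Type*} [Group G] {ρ : G →* End k V} {T : Subgroup G} {s : G} {p : ℕ} [Fact p.Prime] [CharP k p]
    (h : Uni ρ T s p) : finrank k V ≤ p :=
  h.reg.pow_eq_zero_iff.1 (by simpa using sub_one_pow_char (e := 1) (by rw [pow_one, ← map_pow, h.pow, map_one]))

omit [Module.Finite k V] in
theorem eqns_defs : True := by
  have := @Reg.eq_1.{0, 0}
  have := @Tv.eq_1.{0, 0}
  trivial

end H90.MX
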