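import Mathlib
import Cfsg.Agent.Base
import Cfsg.Agent.Lib.MX.Defs
import Cfsg.Agent.Lib.Functor.SPE2
import Cfsg.Agent.Lib.Thompson.Quadratic
import Cfsg.Agent.Lib.Dim3.Dick

/-!
# Two quadratic elements: the central involution of `SL₂` (helper90)
-/

set_option autoImplicit false

namespace H90.MX

open Module LinearMap Cfsg Subgroup

namespace Q2

open H24 Polynomial
open scoped MatrixGroups

theorem ring_aux {A : Type*} [Ring A] {α β : A} (a2 : α * α = 0) (b2 : β * β = 0)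
    (br : (1 + α) * (1 + β) * (1 + α) = (1 + β) * (1 + α) * (1 + β)) :
    ((1 + α) * (1 + β) * (1 + α)) ^ 2 = 1 + 2 * (α * β + β * α) + 6 * (α + α * β * α) ∧
      ((1 + α) * (1 + β) * (1 + α)) ^ 4 = 1 + 12 * (α + α * β * α) ∧ (α + α * β * α) * (α + α * β * α) = 0 := by
  have R : α * (β * α) = β + β * (α * β) - α := by linear_combination (norm := noncomm_ring) br - a2 + b2
  have a3 : ∀ x, α * (α * x) = 0 := fun x => by rw [← mul_assoc, a2, zero_mul]
  have b3 : ∀ x, β * (β * x) = 0 := fun x => by rw [← mul_assoc, b2, zero_mul]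
  have E1 : α * (β * (α * β)) = -(α * β) := by linear_combination (norm := noncomm_ring) a2 * (β * α + 1) - α * R
  have E2 : β * (α * (β * α)) = -(β * α) := by linear_combination (norm := noncomm_ring) β * R + b2 * (α * β + 1)
  have h2 : ((1 + α) * (1 + β) * (1 + α)) ^ 2 = 1 + 2 * (α * β + β * α) + 6 * (α + α * β * α) := by
    simp only [sq, mul_add, add_mul, mul_assoc, one_mul, mul_one, a2, b2, a3, b3, E1, E2, mul_zero, mul_neg]
    linear_combination (norm := noncomm_ring) (-2 : A) * R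
  refine ⟨h2, ?_, ?_⟩
  · rw [show 4 = 2 * 2 from rfl, pow_mul, h2, show (1 : A) + 2 * (α * β + β * α) + 6 * (α + α * β * α) =
      1 + 2 • (α * β + β * α) + 6 • (α + α * β * α) by noncomm_ring]
    simp only [sq, mul_add, add_mul, mul_assoc, one_mul, mul_one, a2, a3, b3, E1, E2, mul_zero, mul_neg,
      smul_mul_assoc, mul_smul_comm, smul_add]
    noncomm_ring
  · simp only [mul_add, add_mul, mul_assoc, a2, a3, mul_zero, add_zero]

variable {p : ℕ} [hp : Fact p.Prime] {K : Type} [Field K] [Finite K] [CharP K p]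

theorem cast_ne (h5 : 5 ≤ p) {m : ℕ} (hm : ¬ p ∣ m) {F : Type} [Field F] [CharP F p] : ((12 * m : ℕ) : F) ≠ 0 := fun e => by
  rcases (Nat.Prime.dvd_mul hp.out).1 ((CharP.cast_eq_zero_iff F p _).1 e) with h | h
  · have := Nat.le_of_dvd (by omega) h
    have := hp.out
    interval_cases p <;> first | omega | contradiction
  · exact hm h

omit hp in
theorem lo_mem (h5 : 5 ≤ p) {M : Subgroup SL(2, K)} {c : K} (hc : c ≠ 0) (h1 : upT c ∈ M) (h2 : loT 1 ∈ M) :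
    loT (-c⁻¹) ∈ M := by
  let w : SL(2, K) := H64.SL2.mk 0 1 (-1) 0 (by ring)
  have e : ∀ t : K, MulAut.conj w (H98.D3.up t) = loT (-t) := fun t => by
    rw [MulAut.conj_apply, mul_inv_eq_iff_eq_mul]
    exact Subtype.ext (by
      change !![0, 1; -1, 0] * !![1, t; 0, 1] = !![1, 0; -t, 1] * !![0, 1; -1, 0]
      simp)
  have e' : ∀ t : K, MulAut.conj w (H98.D3.lo t) = upT (-t) := fun t => by
    rw [MulAut.conj_apply, mul_inv_eq_iff_eq_mul]
    exact Subtype.ext (by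
      change !![0, 1; -1, 0] * !![1, 0; t, 1] = !![1, -t; 0, 1] * !![0, 1; -1, 0]
      simp)
  have n : ∀ q : ℕ, q ≠ 0 → q < 5 → (q : K) ≠ 0 := fun q h0 h4 k =>
    absurd (Nat.le_of_dvd (by omega) ((CharP.cast_eq_zero_iff K p q).1 k)) (by omega)
  obtain ⟨k, -⟩ | ⟨k, -, k1, -, k2 | ⟨k2, -⟩⟩ := H98.D3.lemD (M.comap (MulAut.conj w).toMonoidHom) (neg_ne_zero.2 hc)
    (show MulAut.conj w _ ∈ M by
      rw [e, show loT (-1 : K) = (loT 1)⁻¹ from eq_inv_of_mul_eq_one_left (by rw [← loT_add, neg_add_cancel, loT_zero])]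
      exact inv_mem h2) (show MulAut.conj w _ ∈ M by rwa [e', neg_neg])
  · exact (n 2 (by omega) (by omega) (by exact_mod_cast k)).elim
  · exact e c⁻¹ ▸ (k1 _).2 (inv_mem (neg_mem_iff.1 k2))
  · exact (n 3 (by omega) (by omega) (by exact_mod_cast k2)).elim

omit [Finite K] in
theorem braid {c : K} (hc : c ≠ 0) : upT c * loT (-c⁻¹) * upT c = loT (-c⁻¹) * upT c * loT (-c⁻¹) ∧
    (upT c * loT (-c⁻¹) * upT c) ^ 4 = 1 := by
  have e : upT c * loT (-c⁻¹) * upT c = H64.SL2.mk 0 c (-c⁻¹) 0 (by field_simp; ring) :=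
    Subtype.ext (by
      change !![1, c; 0, 1] * !![1, 0; -c⁻¹, 1] * !![1, c; 0, 1] = !![0, c; -c⁻¹, 0]
      simp [hc])
  rw [e]
  refine ⟨Subtype.ext ?_, Subtype.ext ?_⟩
  · change !![0, c; -c⁻¹, 0] = !![1, 0; -c⁻¹, 1] * !![1, c; 0, 1] * !![1, 0; -c⁻¹, 1]
    simp [hc]
  · change !![0, c; -c⁻¹, 0] ^ 4 = 1
    simp [pow_succ, hc, Matrix.one_fin_two]

variable {H : Type*} [Group H] {x y : H}

omit hp in
/-- a conjugate of `x` that maps to the opposite transvection -/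
theorem exists_conj (h5 : 5 ≤ p) {ψ : H →* SL(2, K)} {c : K} (hc : c ≠ 0) (hx : ψ x = upT c) (hy : ψ y = loT 1) :
    ∃ r, ψ (r * x * r⁻¹) = loT (-c⁻¹) := by
  obtain ⟨l, hl⟩ := lo_mem h5 (M := ψ.range) hc ⟨x, hx⟩ ⟨y, hy⟩
  exact ⟨x * l, by rw [map_mul, map_inv, mul_inv_eq_iff_eq_mul, map_mul, map_mul, hx, hl, (braid hc).1, mul_assoc]⟩

variable {W : Type*} [AddCommGroup W] [Module K W] [Module.Finite K W] {n : ℕ}

omit [Finite K] in
theorem pelt (ρ : H →* End K W) (inj : Function.Injective ρ) (hH : closure ({x, y} : Set H) = ⊤) (hn : n ≠ 0)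
    (hxy : (x * y) ^ n = 1) (hs : (X ^ n - 1 : K[X]).Splits) (qx : (ρ x - 1) ^ 2 = 0) (qy : (ρ y - 1) ^ 2 = 0) {g : H}
    (hg : ∀ (c : K) (φ : H →* SL(2, K)), c ≠ 0 → φ x = upT c → φ y = loT 1 → φ g = 1) : ∃ e, g ^ p ^ e = 1 := by
  have q : ∀ {f : End K W}, (f - 1) ^ 2 = 0 → ∀ v, f (f v - v) = f v - v := fun h v =>
    sub_eq_zero.1 (by simpa [sq] using LinearMap.congr_fun h v)
  obtain ⟨e, he⟩ := exists_pow_eq_one_of_isNilpotent (K := K) p
    (isNilpotent_of_quadratic x y hH hn hxy hs g hg ρ (q qx) (q qy))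
  exact ⟨e, inj (by rw [map_pow, he, map_one])⟩

theorem eq_one_of_pow {g : H} {e m : ℕ} (h1 : g ^ p ^ e = 1) (h2 : g ^ m = 1) (hm : ¬ p ∣ m) : g = 1 := by
  have := pow_gcd_eq_one.2 ⟨h1, h2⟩
  rwa [(hp.out.coprime_iff_not_dvd.2 hm).pow_left e, pow_one] at this

omit hp in
theorem quad_conj {A : Type*} [Ring A] (ρ : H →* A) (qx : (ρ x - 1) ^ 2 = 0) (r : H) : (ρ (r * x * r⁻¹) - 1) ^ 2 = 0 := by
  have e : ρ (r * x * r⁻¹) - 1 = ρ r * (ρ x - 1) * ρ r⁻¹ := by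
    rw [mul_sub, sub_mul, mul_one, ← map_mul, ← map_mul, ← map_mul, mul_inv_cancel, map_one]
  rw [e, sq, mul_assoc, ← mul_assoc (ρ r⁻¹), ← mul_assoc (ρ r⁻¹), ← map_mul, inv_mul_cancel, map_one, one_mul,
    ← mul_assoc, mul_assoc (ρ r), ← sq, qx, mul_zero, zero_mul]

variable [Finite H]

/-- a quadratic element centralises a normal `p'`-subgroup -/
theorem comm_of_ker (h5 : 5 ≤ p) (ρ : H →* End K W) (inj : Function.Injective ρ)
    (hs : (X ^ Nat.card H - 1 : K[X]).Splits) (qx : (ρ x - 1) ^ 2 = 0) {H' : Type*} [Group H'] (φ : H →* H')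
    (hφ : ¬ p ∣ Nat.card φ.ker) {g : H} (hg : φ g = 1) : g * x * g⁻¹ = x := by
  have k : ∀ t, φ t = 1 → t ^ Nat.card φ.ker = 1 := fun t ht => congrArg Subtype.val (pow_card_eq_one' (x := (⟨t, ht⟩ : φ.ker)))
  have a1 : x ∈ closure ({x, g * x * g⁻¹} : Set H) := subset_closure (by simp)
  have a2 : g * x * g⁻¹ ∈ closure ({x, g * x * g⁻¹} : Set H) := subset_closure (by simp)
  have a3 : closure ({x, g * x * g⁻¹} : Set H) ≤ (centralizer {φ x}).comap φ := (closure_le _).2 (by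
    rintro _ (rfl | rfl) <;> simp [mem_centralizer_singleton_iff, hg])
  obtain ⟨e, he⟩ := pelt (ρ.comp (Subgroup.subtype _)) (inj.comp (subtype_injective _))
    (closure_pair_subtype_eq_top rfl a1 a2) Nat.card_pos.ne' (Subtype.ext (pow_card_eq_one' (G := H))) hs qx
    (quad_conj ρ qx g) (g := ⟨_, a2⟩ * (⟨x, a1⟩)⁻¹) fun c ψ hc hx hy => by
      exfalso
      obtain ⟨r, hr⟩ := exists_conj h5 hc hx hy
      have b1 : φ (r * x * (r : H)⁻¹) = φ x := by
        rw [map_mul, map_mul, map_inv, mem_centralizer_singleton_iff.1 (a3 r.2), mul_inv_cancel_right]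
      have b2 := congrArg ψ (Subtype.ext (k (x ^ 12 * ((x * (r * x * (r : H)⁻¹) * x) ^ 4)⁻¹) (by
        rw [map_mul, map_inv, map_pow, map_pow, map_mul, map_mul φ x, b1, ← sq, ← pow_succ, ← pow_mul,
          mul_inv_cancel])) : ((⟨x, a1⟩ ^ 12 * ((⟨x, a1⟩ * (r * ⟨x, a1⟩ * r⁻¹) * ⟨x, a1⟩) ^ 4)⁻¹) ^ Nat.card φ.ker :
          closure ({x, g * x * g⁻¹} : Set H)) = 1)
      rw [map_pow, map_mul, map_inv, map_pow, map_pow, map_mul, map_mul ψ ⟨x, a1⟩, hr, hx, (braid hc).2, inv_one,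
        mul_one, ← pow_mul, upT_pow, map_one] at b2
      exact upT_ne_one (mul_ne_zero (cast_ne h5 hφ) hc) b2
  exact mul_inv_eq_one.1 (eq_one_of_pow (congrArg Subtype.val he) (k _ (by simp [hg])) hφ)

/-- the braid relation -/
theorem exists_braid (h5 : 5 ≤ p) (ρ : H →* End K W) (inj : Function.Injective ρ) (hH : closure ({x, y} : Set H) = ⊤)
    (hs : (X ^ Nat.card H - 1 : K[X]).Splits) (qx : (ρ x - 1) ^ 2 = 0) (qy : (ρ y - 1) ^ 2 = 0) {M : Subgroup H}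
    (hM : IsStronglyPEmbedded p M) (px : x ^ p = 1) (x1 : x ≠ 1) :
    ∃ r m, ¬ p ∣ m ∧ x * (r * x * r⁻¹) * x = r * x * r⁻¹ * x * (r * x * r⁻¹) ∧ ((x * (r * x * r⁻¹) * x) ^ 4) ^ m = 1 := by
  obtain ⟨N, ⟨hN, hd⟩, hmin⟩ := exists_minimal_of_wellFoundedLT (fun N : Subgroup H => N.Normal ∧ p ∣ Nat.card N)
    ⟨⊤, inferInstance, by rw [card_top, ← orderOf_eq_prime px x1]; exact orderOf_dvd_natCard x⟩
  obtain ⟨c, φ, hc, hx, hy, hφ⟩ : ∃ (c : K) (φ : H →* SL(2, K)), c ≠ 0 ∧ φ x = upT c ∧ φ y = loT 1 ∧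
      ¬ p ∣ Nat.card φ.ker := by
    by_contra hc
    push Not at hc
    rw [H68.spe_normal_pSubgroup_eq_bot hM (N := N) fun g => (pelt ρ inj hH Nat.card_pos.ne' pow_card_eq_one' hs qx qy
      fun c φ h1 h2 h3 => (hmin ⟨inferInstance, H59.spe_dvd_card_inf hM hd (hc c φ h1 h2 h3)⟩ inf_le_left g.2).2).imp
        fun e he => Subtype.ext he, card_bot, Nat.dvd_one] at hd
    exact hp.out.ne_one hd
  have k : ∀ t, φ t = 1 → t ^ Nat.card φ.ker = 1 := fun t ht => congrArg Subtype.val (pow_card_eq_one' (x := (⟨t, ht⟩ : φ.ker)))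
  obtain ⟨r, hr⟩ := exists_conj h5 hc hx hy
  refine ⟨r, _, hφ, ?_, k _ (by rw [map_pow, map_mul, map_mul φ x, hr, hx, (braid hc).2])⟩
  have pb : (r * x * r⁻¹) ^ p = 1 := by rw [conj_pow, px, mul_one, mul_inv_cancel]
  have qb := quad_conj ρ qx r
  generalize r * x * r⁻¹ = b at *
  have e : φ (x * b * x * (x * b)⁻¹ * b⁻¹) = 1 := by
    simp only [map_mul, map_inv, hr, hx]
    rw [(braid hc).1]
    group
  have e1 := comm_of_ker h5 ρ inj hs qb φ hφ e
  have e2 : (x * b * x * (x * b)⁻¹ * b⁻¹) ^ p ^ 1 = 1 := by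
    rw [pow_one, ← mul_right_cancel_iff (a := b ^ p), ← Commute.mul_pow (mul_inv_eq_iff_eq_mul.1 e1),
      inv_mul_cancel_right, conj_pow, px, pb, mul_one, mul_inv_cancel, mul_one]
  rw [← mul_inv_eq_one, ← eq_one_of_pow e2 (k _ e) hφ]
  group

omit [Finite H] hp in
theorem exists_bc {F V : Type*} (L : Type) [Field F] [Field L] [Algebra F L] [AddCommGroup V] [Module F V]
    (ρ : H →* End F V) (inj : Function.Injective ρ) : ∃ ρ' : H →* End L (TensorProduct F L V),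
      Function.Injective ρ' ∧ ∀ g, (ρ g - 1) ^ 2 = 0 → (ρ' g - 1) ^ 2 = 0 := by
  let bc := Module.End.baseChangeHom F L V
  have hbc : Function.Injective bc := LinearMap.baseChangeHom_injective F V L
  exact ⟨(bc : _ →* _).comp ρ, hbc.comp inj, fun g e => show (bc (ρ g) - 1) ^ 2 = 0 by
    simpa only [map_pow, map_sub, map_one, map_zero] using congrArg bc e⟩

theorem braid_of_spe (h5 : 5 ≤ p) {V : Type*} [AddCommGroup V] [Module (ZMod p) V] [Finite V]
    (ρ : H →* End (ZMod p) V) (inj : Function.Injective ρ) (hH : closure ({x, y} : Set H) = ⊤)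
    (qx : (ρ x - 1) ^ 2 = 0) (qy : (ρ y - 1) ^ 2 = 0) {M : Subgroup H}
    (hM : IsStronglyPEmbedded p M) (px : x ^ p = 1) (x1 : x ≠ 1) :
    ∃ r m, ¬ p ∣ m ∧ x * (r * x * r⁻¹) * x = r * x * r⁻¹ * x * (r * x * r⁻¹) ∧ ((x * (r * x * r⁻¹) * x) ^ 4) ^ m = 1 := by
  obtain ⟨K, _, _, _, hs⟩ := H24.exists_finite_field_splits p (Nat.card H)
  letI := ZMod.algebra K p
  obtain ⟨ρ', h1, h2⟩ := exists_bc K ρ inj
  exact exists_braid h5 ρ' h1 hH hs (h2 _ qx) (h2 _ qy) hM px x1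

omit [Finite H] in
theorem fin (h5 : 5 ≤ p) {V : Type*} [AddCommGroup V] [Module (ZMod p) V] (ρ : H →* End (ZMod p) V)
    (inj : Function.Injective ρ) {a c : H} {m : ℕ} (hm : ¬ p ∣ m) (qa : (ρ a - 1) ^ 2 = 0) (qc : (ρ c - 1) ^ 2 = 0)
    (e3 : a * c * a = c * a * c) (e4 : ((a * c * a) ^ 4) ^ m = 1) :
    ∃ h : H, h ^ 2 = 1 ∧ Commute h a ∧ ρ h * (ρ a - 1) = -(ρ a - 1) ∧
      ∀ v, (ρ a - 1) v = 0 → ρ h v - v ∈ range (ρ a - 1) := by
  obtain ⟨α, hα⟩ : ∃ α, ρ a = 1 + α := ⟨ρ a - 1, by abel⟩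
  obtain ⟨β, hβ⟩ : ∃ β, ρ c = 1 + β := ⟨ρ c - 1, by abel⟩
  rw [hα, add_sub_cancel_left, sq] at qa
  rw [hβ, add_sub_cancel_left, sq] at qc
  obtain ⟨f1, f2, f3⟩ := ring_aux qa qc (by simpa only [map_mul, hα, hβ] using congrArg ρ e3)
  have f4 : ∀ j : ℕ, (1 + 12 * (α + α * β * α)) ^ j = 1 + ((12 * j : ℕ) : ZMod p) • (α + α * β * α) := fun j => by
    generalize α + α * β * α = N at f3
    rw [Nat.cast_smul_eq_nsmul, show 12 * N = 12 • N by simp]
    induction j with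
    | zero => simp
    | succ j ih => rw [pow_succ, ih, add_mul, mul_add, mul_add, smul_mul_smul_comm, f3, smul_zero, mul_add, add_smul]; simp; abel
  have f5 : α + α * β * α = 0 := by
    have := congrArg ρ e4
    rw [map_pow, map_pow, map_mul, map_mul, hα, hβ, f2, f4, map_one, add_eq_left] at this
    exact (smul_eq_zero.1 this).resolve_left (cast_ne h5 hm)
  have f6 : ρ ((a * c * a) ^ 2) = 1 + 2 * (α * β + β * α) := by
    rw [map_pow, map_mul, map_mul, hα, hβ, f1, f5, mul_zero, add_zero]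
  have f7 : (1 + 2 * (α * β + β * α)) * α = -α := by
    linear_combination (norm := noncomm_ring) 2 * f5 + 2 * β * qa
  refine ⟨(a * c * a) ^ 2, inj ?_, inj ?_, by rw [f6, hα, add_sub_cancel_left, f7], fun v hv => ⟨(2 * β) v, ?_⟩⟩
  · rw [← pow_mul, map_pow, map_mul, map_mul, hα, hβ, f2, f5, mul_zero, add_zero, map_one]
  · rw [map_mul, map_mul _ a, f6, hα, mul_add, f7]
    linear_combination (norm := noncomm_ring) (-2 : End (ZMod p) V) * f5 - 2 * qa * β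
  · rw [hα, add_sub_cancel_left] at hv ⊢
    simp [f6, hv, two_mul]

end Q2

open Q2 in
/-- two quadratic elements in different conjugates of a strongly embedded subgroup: the central involution of `SL₂(q)` -/
theorem exists_inv {p : ℕ} [Fact p.Prime] (h5 : 5 ≤ p) {G V : Type*} [Group G] [Finite G] [AddCommGroup V]
    [Module (ZMod p) V] [Finite V] (ρ : G →* End (ZMod p) V) (inj : Function.Injective ρ) {M : Subgroup G}
    (hM : IsStronglyPEmbedded p M) {a b : G} (ha : a ∈ M) (hb : b ∉ M) (a1 : a ≠ 1)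
    (qa : (ρ a - 1) ^ 2 = 0) (qb : (ρ b - 1) ^ 2 = 0) :
    ∃ h : G, h ^ 2 = 1 ∧ Commute h a ∧ ρ h * (ρ a - 1) = -(ρ a - 1) ∧
      ∀ v, (ρ a - 1) v = 0 → ρ h v - v ∈ range (ρ a - 1) := by
  have pa : a ^ p = 1 := inj (by
    simpa using pow_char_of_nil (p := p) (e := 1) (pow_eq_zero_of_le (by rw [pow_one]; omega) qa))
  have m1 : a ∈ closure ({a, b} : Set G) := subset_closure (by simp)
  have m2 : b ∈ closure ({a, b} : Set G) := subset_closure (by simp)
  obtain ⟨r, m, hm, e1, e2⟩ := braid_of_spe h5 (ρ.comp (Subgroup.subtype _)) (inj.comp (subtype_injective _))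
    (H24.closure_pair_subtype_eq_top rfl m1 m2) qa qb (H68.spe_subgroupOf hM (fun k => hb (k m2)) (by
      rw [← orderOf_eq_prime pa a1]
      exact (closure {a, b} ⊓ M).orderOf_dvd_natCard ⟨m1, ha⟩)) (Subtype.ext pa) fun k => a1 (congrArg Subtype.val k)
  exact fin h5 ρ inj hm qa (quad_conj ρ qa r) (congrArg Subtype.val e1) (congrArg Subtype.val e2)

end H90.MX
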