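import Mathlib
import Cfsg.Agent.Base
import Cfsg.Agent.Lib.MX.Q2

/-!
# Two quadratic elements: the partner and the torus of `SL₂(p)` (helper40, plan by helper90)
-/

set_option autoImplicit false
set_option linter.unusedSectionVars false

namespace H90.MX

open Module LinearMap Subgroup Cfsg

namespace B1

open H24 Polynomial Q2
open scoped MatrixGroups

variable {p : ℕ} [hp : Fact p.Prime] {K : Type} [Field K] [Finite K] [CharP K p]
  {H : Type*} [Group H] [Finite H] {x y : H}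
  {W : Type*} [AddCommGroup W] [Module K W] [Module.Finite K W]

/-- the braid relation with a partner that commutes with `y` -/
theorem braid1 (h5 : 5 ≤ p) (ρ : H →* End K W) (inj : Function.Injective ρ) (hH : closure ({x, y} : Set H) = ⊤)
    (hs : (X ^ Nat.card H - 1 : K[X]).Splits) (qx : (ρ x - 1) ^ 2 = 0) (qy : (ρ y - 1) ^ 2 = 0) {M : Subgroup H}
    (hM : IsStronglyPEmbedded p M) (px : x ^ p = 1) (x1 : x ≠ 1) :
    ∃ r m, ¬ p ∣ m ∧ x * (r * x * r⁻¹) * x = r * x * r⁻¹ * x * (r * x * r⁻¹) ∧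
      ((x * (r * x * r⁻¹) * x) ^ 4) ^ m = 1 ∧ y * (r * x * r⁻¹) = r * x * r⁻¹ * y := by
  obtain ⟨N, ⟨hN, hd⟩, hmin⟩ := exists_minimal_of_wellFoundedLT (fun N : Subgroup H => N.Normal ∧ p ∣ Nat.card N)
    ⟨⊤, inferInstance, by rw [card_top, ← orderOf_eq_prime px x1]; exact orderOf_dvd_natCard x⟩
  obtain ⟨c, φ, hc, hx, hy, hφ⟩ : ∃ (c : K) (φ : H →* SL(2, K)), c ≠ 0 ∧ φ x = upT c ∧ φ y = loT 1 ∧
      ¬ p ∣ Nat.card φ.ker := by
    by_contra hc
    push Not at hc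
    rw [H68.spe_normal_pSubgroup_eq_bot hM (N := N) fun g => (pelt ρ inj hH Nat.card_pos.ne' pow_card_eq_one' hs qx qy
      fun c φ h1 h2 h3 => (hmin ⟨inferInstance, H59.spe_dvd_card_inf hM hd (hc c φ h1 h2 h3)⟩ inf_le_left g.2).2).imp
        fun e he => Subtype.ext he, card_bot, Nat.dvd_one] at hd
    exact hp.out.ne_one hd
  have k : ∀ t, φ t = 1 → t ^ Nat.card φ.ker = 1 := fun t ht =>
    congrArg Subtype.val (pow_card_eq_one' (x := (⟨t, ht⟩ : φ.ker)))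
  obtain ⟨r, hr⟩ := exists_conj h5 hc hx hy
  have pb : (r * x * r⁻¹) ^ p = 1 := by rw [conj_pow, px, mul_one, mul_inv_cancel]
  have qb := quad_conj ρ qx r
  have key : ∀ g z, z ^ p = 1 → φ (g * z * g⁻¹ * (r * x * r⁻¹)⁻¹) = 1 → g * z * g⁻¹ = r * x * r⁻¹ :=
    fun g z hz e => by
      generalize r * x * r⁻¹ = b at *
      have e1 := comm_of_ker h5 ρ inj hs qb φ hφ e
      have e2 : (g * z * g⁻¹ * b⁻¹) ^ p ^ 1 = 1 := by
        rw [pow_one, ← mul_right_cancel_iff (a := b ^ p), ← Commute.mul_pow (mul_inv_eq_iff_eq_mul.1 e1),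
          inv_mul_cancel_right, conj_pow, hz, pb, mul_one, mul_inv_cancel, mul_one]
      exact mul_inv_eq_one.1 (eq_one_of_pow e2 (k _ e) hφ)
  refine ⟨r, _, hφ, ?_, k _ (by rw [map_pow, map_mul, map_mul φ x, hr, hx, (braid hc).2]), ?_⟩
  · have := key (x * (r * x * r⁻¹)) x px (by
      generalize r * x * r⁻¹ = b at *
      simp only [map_mul, map_inv, hr, hx]
      rw [(braid hc).1]
      group)
    exact (mul_inv_eq_iff_eq_mul.1 this).trans (mul_assoc _ _ _).symm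
  · exact mul_inv_eq_iff_eq_mul.1 (key y _ pb (by
      generalize r * x * r⁻¹ = b at *
      simp only [map_mul, map_inv, hr, hy]
      rw [← loT_add, add_comm, loT_add]
      group))

theorem braid2 (h5 : 5 ≤ p) {V : Type*} [AddCommGroup V] [Module (ZMod p) V] [Finite V]
    (ρ : H →* End (ZMod p) V) (inj : Function.Injective ρ) (hH : closure ({x, y} : Set H) = ⊤)
    (qx : (ρ x - 1) ^ 2 = 0) (qy : (ρ y - 1) ^ 2 = 0) {M : Subgroup H}
    (hM : IsStronglyPEmbedded p M) (px : x ^ p = 1) (x1 : x ≠ 1) :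
    ∃ r m, ¬ p ∣ m ∧ x * (r * x * r⁻¹) * x = r * x * r⁻¹ * x * (r * x * r⁻¹) ∧
      ((x * (r * x * r⁻¹) * x) ^ 4) ^ m = 1 ∧ y * (r * x * r⁻¹) = r * x * r⁻¹ * y := by
  obtain ⟨K, _, _, _, hs⟩ := H24.exists_finite_field_splits p (Nat.card H)
  letI := ZMod.algebra K p
  obtain ⟨ρ', h1, h2⟩ := exists_bc K ρ inj
  exact braid1 h5 ρ' h1 hH hs (h2 _ qx) (h2 _ qy) hM px x1

theorem aba (h5 : 5 ≤ p) {V : Type*} [AddCommGroup V] [Module (ZMod p) V] (ρ : H →* End (ZMod p) V)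
    {a c : H} {m : ℕ} (hm : ¬ p ∣ m) (qa : (ρ a - 1) ^ 2 = 0) (qc : (ρ c - 1) ^ 2 = 0)
    (e3 : a * c * a = c * a * c) (e4 : ((a * c * a) ^ 4) ^ m = 1) :
    (ρ a - 1) * (ρ c - 1) * (ρ a - 1) = -(ρ a - 1) := by
  obtain ⟨α, hα⟩ : ∃ α, ρ a = 1 + α := ⟨ρ a - 1, by abel⟩
  obtain ⟨β, hβ⟩ : ∃ β, ρ c = 1 + β := ⟨ρ c - 1, by abel⟩
  rw [hα, add_sub_cancel_left, sq] at qa
  rw [hβ, add_sub_cancel_left, sq] at qc
  obtain ⟨-, f2, f3⟩ := ring_aux qa qc (by simpa only [map_mul, hα, hβ] using congrArg ρ e3)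
  have f4 : ∀ j : ℕ, (1 + 12 * (α + α * β * α)) ^ j = 1 + ((12 * j : ℕ) : ZMod p) • (α + α * β * α) := fun j => by
    generalize α + α * β * α = N at f3
    rw [Nat.cast_smul_eq_nsmul, show 12 * N = 12 • N by simp]
    induction j with
    | zero => simp
    | succ j ih =>
      rw [pow_succ, ih, add_mul, mul_add, mul_add, smul_mul_smul_comm, f3, smul_zero, mul_add, add_smul]; simp; abel
  have := congrArg ρ e4
  rw [map_pow, map_pow, map_mul, map_mul, hα, hβ, f2, f4, map_one, add_eq_left] at this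
  rw [hα, hβ, add_sub_cancel_left, add_sub_cancel_left]
  exact eq_neg_of_add_eq_zero_right ((smul_eq_zero.1 this).resolve_left (cast_ne h5 hm))

section
variable {F A : Type*} [Field F] [Ring A] [Algebra F A] {α β : A}

theorem pw (qa : α * α = 0) (j : ℕ) : (1 + α) ^ j = 1 + (j : F) • α := by
  induction j with
  | zero => simp
  | succ j ih =>
    rw [pow_succ, ih, add_mul, mul_add, mul_add, smul_mul_assoc, smul_mul_assoc, qa, smul_zero, Nat.cast_succ,
      add_smul, one_smul, one_mul, one_mul, mul_one]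
    abel

theorem weyl (qa : α * α = 0) (e1 : α * β * α = -α) {κ : F} (h : κ ≠ 0) :
    (1 + κ • α) * (1 + κ⁻¹ • β) * (1 + κ • α) = 1 + α * β + β * α + κ • α + κ⁻¹ • β := by
  simp only [mul_add, add_mul, one_mul, mul_one, smul_mul_assoc, mul_smul_comm, qa, e1, smul_zero]
  match_scalars <;> field_simp <;> ring

theorem tor (qa : α * α = 0) (qc : β * β = 0) (e1 : α * β * α = -α) (e2 : β * α * β = -β) (κ μ : F) :
    (1 + α * β + β * α + κ • α + μ • β) * (1 + α * β + β * α + (-1 : F) • α + (-1 : F)⁻¹ • β) =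
      1 + (κ - 1) • (-(α * β)) + (μ - 1) • (-(β * α)) := by
  have a3 : ∀ x, x * α * α = 0 := fun x => by rw [mul_assoc, qa, mul_zero]
  have b3 : ∀ x, x * β * β = 0 := fun x => by rw [mul_assoc, qc, mul_zero]
  simp only [inv_neg, inv_one, mul_add, add_mul, one_mul, mul_one, smul_mul_assoc, mul_smul_comm, ← mul_assoc, qa, qc,
    e1, e2, a3, b3, smul_zero, zero_mul, neg_mul]
  module

end

end B1

variable {p : ℕ} [hp : Fact p.Prime] {H V : Type*} [Group H] [Finite H] [AddCommGroup V] [Module (ZMod p) V] [Finite V]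

theorem exists_partner (h5 : 5 ≤ p) (ρ : H →* End (ZMod p) V) (inj : Function.Injective ρ) {M : Subgroup H}
    (hM : IsStronglyPEmbedded p M) {a b : H} (ha : a ∈ M) (hb : b ∉ M) (a1 : a ≠ 1)
    (qa : (ρ a - 1) ^ 2 = 0) (qb : (ρ b - 1) ^ 2 = 0) :
    ∃ c, c ∉ M ∧ (ρ c - 1) ^ 2 = 0 ∧ (ρ a - 1) * (ρ c - 1) * (ρ a - 1) = -(ρ a - 1) ∧
      (ρ c - 1) * (ρ a - 1) * (ρ c - 1) = -(ρ c - 1) := by
  have pa : a ^ p = 1 := inj (by
    simpa using pow_char_of_nil (p := p) (e := 1) (pow_eq_zero_of_le (by rw [pow_one]; omega) qa))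
  have m1 : a ∈ closure ({a, b} : Set H) := subset_closure (by simp)
  have m2 : b ∈ closure ({a, b} : Set H) := subset_closure (by simp)
  obtain ⟨r, m, hm, e1, e2, e3⟩ := B1.braid2 h5 (ρ.comp (Subgroup.subtype _)) (inj.comp (subtype_injective _))
    (H24.closure_pair_subtype_eq_top rfl m1 m2) qa qb (H68.spe_subgroupOf hM (fun k => hb (k m2)) (by
      rw [← orderOf_eq_prime pa a1]
      exact (closure {a, b} ⊓ M).orderOf_dvd_natCard ⟨m1, ha⟩)) (Subtype.ext pa) fun k => a1 (congrArg Subtype.val k)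
  have f1 : a * (r * a * (r : H)⁻¹) * a = r * a * (r : H)⁻¹ * a * (r * a * (r : H)⁻¹) := congrArg Subtype.val e1
  have f2 : ((a * (r * a * (r : H)⁻¹) * a) ^ 4) ^ m = 1 := congrArg Subtype.val e2
  have f3 : b * (r * a * (r : H)⁻¹) = r * a * (r : H)⁻¹ * b := congrArg Subtype.val e3
  have qc := Q2.quad_conj ρ qa r
  exact ⟨r * a * (r : H)⁻¹, fun hc => hb (H68.spe_centralizer_le hM hc (by rwa [Ne, conj_eq_one_iff]) (k := 1)
    (by rw [pow_one, conj_pow, pa, mul_one, mul_inv_cancel]) (mem_centralizer_singleton_iff.2 f3)), qc,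
    B1.aba h5 ρ hm qa qc f1 f2, B1.aba h5 ρ hm qc qa f1.symm (f1 ▸ f2)⟩

theorem exists_torus_lin (ρ : H →* End (ZMod p) V) (inj : Function.Injective ρ) {a c : H} {α β : End (ZMod p) V}
    (ha : ρ a = 1 + α) (hc : ρ c = 1 + β) (qa : α * α = 0) (qc : β * β = 0) (e1 : α * β * α = -α) (e2 : β * α * β = -β)
    {k : ℕ} (hk : ¬ p ∣ k) : ∃ τ : H, τ * a * τ⁻¹ = a ^ (k * k) ∧
      ρ τ = 1 + ((k : ZMod p) - 1) • (-(α * β)) + ((k : ZMod p)⁻¹ - 1) • (-(β * α)) := by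
  have k0 : (k : ZMod p) ≠ 0 := fun h => hk ((ZMod.natCast_eq_zero_iff k p).1 h)
  have w : ∀ κ : ZMod p, κ ≠ 0 → ∃ g, ρ g = 1 + α * β + β * α + κ • α + κ⁻¹ • β := fun κ h =>
    ⟨a ^ κ.val * c ^ κ⁻¹.val * a ^ κ.val, by
      rw [map_mul, map_mul, map_pow, map_pow, ha, hc, B1.pw (F := ZMod p) qa, B1.pw (F := ZMod p) qc,
        ZMod.natCast_zmod_val, ZMod.natCast_zmod_val, B1.weyl qa e1 h]⟩
  obtain ⟨g, hg⟩ := w k k0
  obtain ⟨g', hg'⟩ := w (-1) (neg_ne_zero.2 one_ne_zero)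
  have e := map_mul ρ g g'
  rw [hg, hg', B1.tor qa qc e1 e2] at e
  refine ⟨g * g', mul_inv_eq_iff_eq_mul.2 (inj ?_), e⟩
  have a3 : ∀ x, x * α * α = 0 := fun x => by rw [mul_assoc, qa, mul_zero]
  rw [map_mul ρ (g * g'), map_mul ρ _ (g * g'), e, map_pow, ha, B1.pw (F := ZMod p) qa, Nat.cast_mul]
  simp only [mul_add, add_mul, one_mul, mul_one, smul_mul_assoc, mul_smul_comm, ← mul_assoc, qa, e1, a3, neg_mul,
    mul_neg, zero_mul, neg_zero, smul_zero, neg_neg]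
  match_scalars <;> field_simp <;> ring

end H90.MX
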