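import Mathlib
import Cfsg.Agent.Base
import Cfsg.Agent.Lib.MaxCl.Basic

/-!
# Two-step centralisers of a `p`-group of maximal class: basic facts (helper90)
-/

set_option autoImplicit false
set_option linter.unusedSectionVars false

namespace H90.MX

open Subgroup Cfsg H83.Krek H93
open scoped commutatorElement

universe u

/-- the two-step centraliser `C_G(γ_{i+1}/γ_{i+3})` -/
abbrev C2 (G : Type u) [Group G] (i : ℕ) : Subgroup G := cm (lc G i) (lc G (i + 2))

variable {G : Type u} [Group G] {p n : ℕ}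

theorem mem_C2 {i : ℕ} {s : G} : s ∈ C2 G i ↔ ∀ g ∈ lc G i, ⁅s, g⁆ ∈ lc G (i + 2) := Iff.rfl

theorem lc_one_le_C2 (i : ℕ) : lc G 1 ≤ C2 G i := fun _ hx _ hg => lc_anti (by omega) (comm_mem_lc hx hg)

instance C2_normal (i : ℕ) : (C2 G i).Normal :=
  ⟨fun s hs g => by
    rw [show g * s * g⁻¹ = ⁅g, s⁆ * s by simp only [commutatorElement_def]; group]
    exact mul_mem (lc_one_le_C2 i (comm_mem_lc_succ g (mem_top s))) hs⟩

theorem mem_lc_map_iff {H : Type u} [Group H] {f : G →* H} (hf : Function.Surjective f) {i : ℕ}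
    (hk : f.ker ≤ lc G i) {g : G} : f g ∈ lc H i ↔ g ∈ lc G i := by
  rw [← map_lc hf, ← mem_comap, comap_map_eq, sup_eq_left.2 hk]

theorem mem_C2_map_iff {H : Type u} [Group H] {f : G →* H} (hf : Function.Surjective f) {i : ℕ}
    (hk : f.ker ≤ lc G (i + 2)) {s : G} : f s ∈ C2 H i ↔ s ∈ C2 G i := by
  refine ⟨fun h g hg => ?_, fun h g hg => ?_⟩
  · rw [← mem_lc_map_iff hf hk, map_commutatorElement]
    exact h _ (map_lc hf i ▸ mem_map_of_mem f hg)
  · obtain ⟨g, hg', rfl⟩ := (map_lc hf i).ge hg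
    rw [← map_commutatorElement, mem_lc_map_iff hf hk]
    exact h g hg'

/-- `s` lies outside all two-step centralisers -/
def Out (n : ℕ) (s : G) : Prop := ∀ i, 1 ≤ i → i + 3 ≤ n → s ∉ C2 G i

variable [Finite G] [hp : Fact p.Prime] (h : MC p n G)
include h

theorem eq_of_lc_one_lt {A B : Subgroup G} (h1 : lc G 1 < A) (h2 : A ≤ B) (h3 : B ≠ ⊤) : A = B := by
  have h4 := h.three
  have a := card_mul_le_of_lt (h.isPGroup.to_subgroup A) h1
  have b := card_mul_le_of_lt (h.isPGroup.to_subgroup ⊤) (lt_top_iff_ne_top.2 h3)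
  rw [h.card_lc (i := 0) (j := n - 2) (by omega)] at a
  rw [card_top, h.card, show n = n - 2 + 1 + 1 by omega, pow_succ, pow_succ] at b
  exact eq_of_le_of_card_ge h2 ((Nat.le_of_mul_le_mul_right b hp.out.pos).trans a)

theorem index_of_lc_one_lt {A : Subgroup G} (h1 : lc G 1 < A) (h3 : A ≠ ⊤) : A.index = p := by
  have h4 := h.three
  have a := card_mul_le_of_lt (h.isPGroup.to_subgroup A) h1
  have b := card_mul_le_of_lt (h.isPGroup.to_subgroup ⊤) (lt_top_iff_ne_top.2 h3)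
  rw [h.card_lc (i := 0) (j := n - 2) (by omega)] at a
  rw [card_top, h.card, show n = n - 2 + 1 + 1 by omega, pow_succ, pow_succ] at b
  rw [h.index_eq (i := 1) (j := n - 1) (by omega) (le_antisymm ((Nat.le_of_mul_le_mul_right b hp.out.pos).trans_eq
    (by rw [← pow_succ]; congr 1; omega)) (le_trans (by rw [← pow_succ]; exact le_of_eq (by congr 1; omega)) a)), pow_one]

theorem exists_gen {i : ℕ} (hi : i + 2 ≤ n) : ∃ u ∈ lc G i, u ∉ lc G (i + 1) :=
  SetLike.not_le_iff_exists.1 (h.not_lc_le hi)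

/-- two elements that are independent modulo a maximal subgroup generate -/
theorem eq_top_of_mem {A B : Subgroup G} (h1 : lc G 1 < A) (hB : lc G 1 ≤ B) {x y : G} (hx : x ∉ A) (hy : y ∈ A)
    (hy' : y ∉ lc G 1) (hxB : x ∈ B) (hyB : y ∈ B) : B = ⊤ := by
  by_contra hc
  have e1 : A ⊓ B = B := eq_of_lc_one_lt h (lt_of_le_of_ne (le_inf h1.le hB) fun e => hy' (e.ge ⟨hy, hyB⟩))
    inf_le_right hc
  exact hx (e1.ge hxB).1

theorem lc_one_lt_C2 {i : ℕ} (h1 : 1 ≤ i) (h2 : i + 3 ≤ n) : lc G 1 < C2 G i := by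
  obtain ⟨i, rfl⟩ := Nat.exists_eq_add_of_le' h1
  refine lt_of_le_of_ne (lc_one_le_C2 _) fun e => ?_
  obtain ⟨u, hu, hu'⟩ := exists_gen h (i := i + 1) (by omega)
  let N := lc G (i + 3)
  have hz : ∀ s g : G, g ∈ lc G (i + 2) → (QuotientGroup.mk' N) ⁅s, g⁆ = 1 := fun s g hg =>
    (QuotientGroup.eq_one_iff _).2 (comm_mem_lc_succ s hg)
  let f : G →* G ⧸ N := MonoidHom.mk' (fun s => QuotientGroup.mk' N ⁅s, u⁆) fun a b => by
    have := hz a _ (comm_mem_lc_succ b hu)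
    rw [show ⁅a * b, u⁆ = ⁅a, ⁅b, u⁆⁆ * (⁅b, u⁆ * ⁅a, u⁆) by simp only [commutatorElement_def]; group, map_mul, this,
      one_mul, show ⁅b, u⁆ * ⁅a, u⁆ = ⁅⁅b, u⁆, ⁅a, u⁆⁆ * (⁅a, u⁆ * ⁅b, u⁆) by simp only [commutatorElement_def]; group,
      map_mul, hz _ _ (comm_mem_lc_succ a hu), one_mul, map_mul]
  have hk : f.ker ≤ lc G 1 := fun s hs => by
    by_contra hc
    exact h.comm_not_mem (fun k => hc (e.ge k)) hu hu' ((QuotientGroup.eq_one_iff _).1 hs)
  have hr : f.range ≤ (lc G (i + 2)).map (QuotientGroup.mk' N) := by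
    rintro _ ⟨s, rfl⟩
    exact mem_map_of_mem _ (comm_mem_lc_succ s hu)
  have c1 := card_le_of_le hr
  have c2 : Nat.card ((lc G (i + 2)).map (QuotientGroup.mk' N)) = p := by
    have hq := h.quot_lc (m := i + 1) (by omega)
    rw [map_lc (QuotientGroup.mk'_surjective N), hq.card_lc (i := i + 1) (j := 1) (by omega), pow_one]
  have c3 := Nat.le_of_dvd (Nat.pos_of_ne_zero FiniteIndex.index_ne_zero) (index_dvd_of_le hk)
  rw [h.index_lc_one, index_ker] at c3
  have := hp.out.one_lt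
  nlinarith

theorem index_C2 {i : ℕ} (h1 : 1 ≤ i) (h2 : i + 3 ≤ n) : (C2 G i).index = p :=
  index_of_lc_one_lt h (lc_one_lt_C2 h h1 h2) (h.cm_ne_top h2)

theorem inf_eq_of_ne {A B : Subgroup G} (hA : lc G 1 < A) (hA' : A ≠ ⊤) (hB : lc G 1 < B) (hB' : B ≠ ⊤) (hne : A ≠ B) :
    A ⊓ B = lc G 1 := by
  by_contra hc
  have h1 : lc G 1 < A ⊓ B := lt_of_le_of_ne (le_inf hA.le hB.le) (Ne.symm hc)
  exact hne ((eq_of_lc_one_lt h h1 inf_le_left hA').symm.trans (eq_of_lc_one_lt h h1 inf_le_right hB'))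

theorem exists_not_mem_two {A B : Subgroup G} (hA : A ≠ ⊤) (hB : B ≠ ⊤) : ∃ s, s ∉ A ∧ s ∉ B := by
  obtain ⟨x, -, hx⟩ := SetLike.exists_of_lt (lt_top_iff_ne_top.2 hA)
  obtain ⟨y, -, hy⟩ := SetLike.exists_of_lt (lt_top_iff_ne_top.2 hB)
  by_cases h1 : x ∈ B
  · by_cases h2 : y ∈ A
    · exact ⟨x * y, fun e => hx ((mul_mem_cancel_right h2).1 e), fun e => hy ((mul_mem_cancel_left h1).1 e)⟩
    · exact ⟨y, h2, hy⟩
  · exact ⟨x, hx, h1⟩

variable {s : G} (hs : Out n s)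
include hs

theorem Out.comm_not_mem {i : ℕ} (h1 : 1 ≤ i) (h2 : i + 3 ≤ n) {u : G} (hu : u ∈ lc G i) (hu' : u ∉ lc G (i + 1)) :
    ⁅s, u⁆ ∉ lc G (i + 2) := by
  obtain ⟨i, rfl⟩ := Nat.exists_eq_add_of_le' h1
  exact h.comm_not_mem (hs _ h1 h2) hu hu'

/-- an element of the derived group whose commutator with `s` is deep is itself deep -/
theorem Out.mem_of_comm {j : ℕ} (hj : j + 2 ≤ n) {u : G} (hu : u ∈ lc G 1) (hc : ⁅s, u⁆ ∈ lc G (j + 1)) : u ∈ lc G j := by
  induction j with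
  | zero => exact mem_top u
  | succ j ih =>
    rcases Nat.eq_zero_or_pos j with rfl | h0
    · exact hu
    by_contra hn
    exact hs.comm_not_mem h h0 hj (ih (by omega) (lc_anti (Nat.le_succ _) hc)) hn hc

theorem Out.mem_center {u : G} (hu : u ∈ lc G 1) (hc : Commute s u) : u ∈ lc G (n - 2) :=
  hs.mem_of_comm h (by have := h.three; omega) hu (commutatorElement_eq_one_iff_commute.2 hc ▸ one_mem _)

theorem Out.pow_mem : s ^ p ∈ lc G (n - 2) := hs.mem_center h (h.pow_mem_lc_one s) (Commute.self_pow s p)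

omit h hs in
theorem eqns_two : True := by
  have := @Out.eq_1.{0}
  have := @C2.eq_1.{0}
  trivial

end H90.MX
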