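import Mathlib
import Cfsg.Agent.Base
import Cfsg.Agent.Lib.MX.Two

set_option autoImplicit false

namespace H90.MX

open Subgroup Cfsg H83.Krek H93
open scoped commutatorElement

universe u

namespace BLa

section Lie

variable {L : Type*} [LieRing L] {X : L} {e : ℕ → L} {k : ℕ} (he : ∀ i, e (i + 1) = ⁅e i, X⁆)
include he

theorem rule (a b : ℕ) : ⁅e a, e (b + 1)⁆ = ⁅⁅e a, e b⁆, X⁆ - ⁅e (a + 1), e b⁆ := by
  rw [he, he, leibniz_lie (e a) (e b) X, sub_eq_add_neg, lie_skew]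

variable (h0 : ∀ i < k, ⁅e i, e 0⁆ = 0)
include h0

theorem one (b : ℕ) : ∀ a, a + b < k → ⁅e a, e b⁆ = 0 := by
  induction b with
  | zero => exact h0
  | succ b ih =>
    intro a h
    rw [rule he, ih a (by omega), ih _ (by omega), zero_lie, sub_zero]

theorem two (b : ℕ) : ∀ a, a + b = k → ⁅e a, e b⁆ = (-1 : ℤ) ^ b • ⁅e k, e 0⁆ := by
  induction b with
  | zero => rintro a rfl; simp
  | succ b ih =>
    intro a h
    rw [rule he, one he h0 b a (by omega), ih _ (by omega), zero_lie, zero_sub, pow_succ,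
      mul_neg_one, neg_smul]

theorem three (hk : e (k + 1) = 0) (b : ℕ) : ∀ a, a + b = k + 1 →
    ⁅e a, e b⁆ = (-(-1 : ℤ) ^ b * b) • ⁅⁅e k, e 0⁆, X⁆ := by
  induction b with
  | zero => rintro a h; simp [show a = k + 1 from h, hk]
  | succ b ih =>
    intro a h
    rw [rule he, two he h0 b a (by omega), ih _ (by omega), zsmul_lie, ← sub_smul]
    congr 1
    push_cast
    ring

theorem four (h2 : 2 ≤ k) : ⁅⁅e k, e 0⁆, e 0⁆ = 0 := by
  have := two he h0 1 (k - 1) (by omega)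
  rw [pow_one, neg_smul, one_smul] at this
  rw [← neg_neg ⁅e k, e 0⁆, ← this, neg_lie, lie_lie, h0 1 (by omega), h0 (k - 1) (by omega)]
  simp

end Lie

variable {G : Type u} [Group G] [Finite G] {p n k : ℕ} [hp : Fact p.Prime]

theorem setup (h : MC p n G) (h2 : 2 ≤ k) (hk : k + 3 ≤ n)
    (he : ∀ i, 1 ≤ i → i < k → C2 G i = C2 G 1) (hne : C2 G k ≠ C2 G 1) :
    ∃ (x : G) (g : ℕ → G), x ∉ C2 G 1 ∧ g 0 ∈ C2 G 1 ∧ g 0 ∉ lc G 1 ∧ (∀ i, g i ∈ lc G i) ∧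
      (∀ i, cls (i + 1) (g (i + 1)) = ⁅cls i (g i), cls 0 x⁆) ∧
      (∀ i < k, ⁅cls i (g i), cls 0 (g 0)⁆ = 0) ∧ cls (k + 1) (g (k + 1)) = 0 ∧
      ⁅g k, g 0⁆ ∉ lc G (k + 2) := by
  have l1 := lc_one_lt_C2 h le_rfl (by omega)
  have lk := lc_one_lt_C2 h (i := k) (by omega) hk
  have e := inf_eq_of_ne h lk (h.cm_ne_top hk) l1 (h.cm_ne_top (by omega)) hne
  obtain ⟨y, hy, hy'⟩ := SetLike.exists_of_lt l1
  obtain ⟨x, hx, hx'⟩ := SetLike.exists_of_lt lk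
  have x1 : x ∉ C2 G 1 := fun c => hx' (e.le ⟨hx, c⟩)
  have yk : y ∉ C2 G k := fun c => hy' (e.le ⟨c, hy⟩)
  let g : ℕ → G := fun i => Nat.rec y (fun _ u => ⁅u, x⁆) i
  have g1 : ∀ i, g (i + 1) = ⁅g i, x⁆ := fun _ => rfl
  have gm : ∀ i, g i ∈ lc G i := fun i => by
    induction i with
    | zero => exact mem_top _
    | succ i ih => exact comm_mem_lc (j := 0) ih (mem_top x)
  have gn : ∀ i, i + 1 ≤ k → g (i + 1) ∉ lc G (i + 2) := fun i => by
    induction i with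
    | zero =>
      intro _ c
      have t : ∀ z : G, ⁅x, z⁆ ∈ lc G 2 → ⁅y, z⁆ ∈ lc G 2 → z ∈ C2 G 0 := fun z a b s _ =>
        comm_mem_comm ((eq_top_of_mem h (B := cm {z} (lc G 2)) l1 (by
          rintro u hu _ rfl; exact comm_mem_lc (j := 0) hu (mem_top _)) x1 hy hy' (by rintro _ rfl; exact a)
          (by rintro _ rfl; exact b)).ge (mem_top s) z rfl)
      exact h.cm_ne_top (i := 0) (by omega) (eq_top_of_mem h l1 (lc_one_le_C2 0) x1 hy hy'
        (t x (by simp) c) (t y (comm_mem_comm c) (by simp)))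
    | succ i ih =>
      intro hi c
      exact h.comm_not_mem (i := i) (fun c => x1 (he (i + 1) (by omega) (by omega) ▸ c)) (gm _)
        (ih (by omega)) (comm_mem_comm c)
  refine ⟨x, g, x1, hy, hy', gm, fun i => (lie_cls (j := 0) (gm i) (mem_top x)).symm, fun i hi => ?_,
    cls_zero (comm_mem_comm (hx _ (gm k))), fun c => ?_⟩
  · rcases i with _ | i
    · exact lie_self _
    · rw [lie_cls (gm _) (gm 0)]
      exact cls_zero (comm_mem_comm ((he (i + 1) (by omega) hi).ge hy _ (gm _)))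
  · obtain ⟨j, rfl⟩ : ∃ j, k = j + 1 := ⟨k - 1, by omega⟩
    exact h.comm_not_mem yk (gm _) (gn j le_rfl) (comm_mem_comm c)

end BLa

open BLa

variable {G : Type u} [Group G] [Finite G] {p n k : ℕ} [hp : Fact p.Prime]

theorem odd_of_first (h : MC p n G) (h2 : 2 ≤ k) (hk : k + 3 ≤ n) (he : ∀ i, 1 ≤ i → i < k → C2 G i = C2 G 1)
    (hne : C2 G k ≠ C2 G 1) : Odd k := by
  obtain ⟨x, g, -, -, -, gm, e1, e2, -, e4⟩ := setup h h2 hk he hne
  by_contra c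
  obtain ⟨m, hm⟩ := Nat.not_odd_iff_even.1 c
  have := two (e := fun i => cls i (g i)) e1 e2 m m hm.symm
  rw [lie_self, lie_cls (gm k) (gm 0)] at this
  refine e4 ((cls_eq_zero_iff (comm_mem_lc (gm k) (gm 0))).1 ?_)
  rcases neg_one_pow_eq_or ℤ m with k | k <;> simpa [k] using this.symm

theorem dvd_of_first (h : MC p n G) (h2 : 2 ≤ k) (hk : k + 4 ≤ n) (he : ∀ i, 1 ≤ i → i < k → C2 G i = C2 G 1)
    (hne : C2 G k ≠ C2 G 1) : 2 * p ∣ k + 1 := by
  obtain ⟨m, hm⟩ := (odd_of_first h h2 (by omega) he hne).add_one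
  obtain ⟨x, g, x1, hy, hy', gm, e1, e2, e3, e4⟩ := setup h h2 (by omega) he hne
  have cm := comm_mem_lc (gm k) (gm 0)
  have t3 := three (e := fun i => cls i (g i)) e1 e2 e3 m m hm.symm
  have t4 := four (e := fun i => cls i (g i)) e1 e2 h2
  rw [lie_cls (gm k) (gm 0), lie_cls cm (gm 0), cls_eq_zero_iff (comm_mem_lc cm (gm 0))] at t4
  rw [lie_self, lie_cls (gm k) (gm 0), lie_cls (j := 0) cm (mem_top x)] at t3
  have cx := comm_mem_lc (j := 0) cm (mem_top x)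
  have u0 : ⁅⁅g k, g 0⁆, x⁆ ∉ lc G (k + 3) := fun c => h.cm_ne_top (i := k + 1) hk
    (eq_top_of_mem h (lc_one_lt_C2 h le_rfl (by omega)) (lc_one_le_C2 _) x1 hy hy'
      (by_contra fun n => h.comm_not_mem n cm e4 (comm_mem_comm c))
      (by_contra fun n => h.comm_not_mem n cm e4 (comm_mem_comm t4)))
  have t5 : ⁅⁅g k, g 0⁆, x⁆ ^ m ∈ lc G (k + 3) := by
    refine (cls_eq_zero_iff (pow_mem cx m)).1 ?_
    rw [cls_pow cx]
    rcases neg_one_pow_eq_or ℤ m with k | k <;> simpa [k] using t3.symm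
  rw [hm, ← two_mul]
  refine Nat.mul_dvd_mul_left 2 (by_contra fun c => u0 ?_)
  obtain ⟨j, hj⟩ := IsPGroup.iff_orderOf.1 h.isPGroup ⁅⁅g k, g 0⁆, x⁆
  obtain ⟨l, hl⟩ := exists_pow_eq_self_of_coprime (x := ⁅⁅g k, g 0⁆, x⁆) (n := m)
    (hj ▸ Nat.Coprime.pow_right _ ((hp.out.coprime_iff_not_dvd).2 c).symm)
  exact hl ▸ pow_mem t5 l

end H90.MX
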