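import Mathlib
import Cfsg.Agent.Base
import Cfsg.Agent.Lib.MX.BLa

set_option autoImplicit false

namespace H90.MX

open Subgroup Cfsg H83.Krek H93
open scoped commutatorElement

universe u

namespace BLb

open Polynomial in
theorem poly {p : ℕ} (hp : p.Prime) :
    ∃ h : ℤ[X], (X + 1 : ℤ[X]) ^ p = 1 + X * (X ^ (p - 1) + (p : ℤ[X]) * (1 + X * h)) := by
  obtain ⟨r, hr⟩ := exists_add_pow_prime_eq hp (X : ℤ[X]) 1
  have c : r.coeff 0 = 1 := by
    have := congrArg (fun f : ℤ[X] => f.coeff 1) hr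
    simp only [coeff_X_add_one_pow, Nat.choose_one_right, one_pow, mul_one, coeff_add, coeff_X_pow,
      if_neg hp.one_lt.ne, coeff_one, one_ne_zero, if_false, zero_add, add_zero] at this
    rw [mul_assoc, ← C_eq_natCast, coeff_C_mul, coeff_X_mul] at this
    have h0 : (p : ℤ) ≠ 0 := by exact_mod_cast hp.ne_zero
    exact (mul_left_cancel₀ h0 (this.symm.trans (mul_one _).symm))
  obtain ⟨h, hh⟩ : (X : ℤ[X]) ∣ r - 1 := X_dvd_iff.2 (by simp [c])
  refine ⟨h, ?_⟩
  have e : (X : ℤ[X]) ^ p = X * X ^ (p - 1) := by rw [← pow_succ', Nat.sub_add_cancel hp.pos]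
  rw [hr, e, ← hh]
  ring

theorem core {M : Type*} [AddCommGroup M] {p : ℕ} (hp : p.Prime) (ν δ : Module.End ℤ M) (F : ℕ → AddSubgroup M)
    (h0 : ∀ x, x ∈ F 0) (hν : (ν + 1) ^ p = 1) (h1 : ∀ i, ∀ x ∈ F i, ν x ∈ F (i + 1))
    (h2 : ∀ i < p, ∀ x ∈ F i, x ∉ F (i + 1) → ν x ∉ F (i + 2))
    (h3 : ∀ i, ∀ u ∈ F i, u ∉ F (i + 1) → ∀ x ∈ F i, ∃ z : ℤ, x - z • u ∈ F (i + 1))
    (h4 : ∀ x ∈ F (p + 1), x = 0) {a : M} (ha : a ∉ F 1)
    (d1 : ∀ x ∈ F p, δ x = 0) (d2 : ∀ x, δ x ∈ F 2) (d3 : ∀ x ∈ F (p - 1), x ∉ F p → δ x ≠ 0) : False := by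
  have pw : ∀ i j, ∀ x ∈ F j, (ν ^ i) x ∈ F (j + i) := fun i j x hx => by
    induction i with
    | zero => exact hx
    | succ i ih => rw [pow_succ']; exact h1 _ _ ih
  have pn : ∀ i ≤ p, (ν ^ i) a ∉ F (i + 1) := fun i hi => by
    induction i with
    | zero => exact ha
    | succ i ih =>
      rw [pow_succ']
      exact h2 i hi _ (by simpa using pw i 0 a (h0 a)) (ih (by omega))
  have pa : ∀ i, (ν ^ i) a ∈ F i := fun i => by simpa using pw i 0 a (h0 a)
  have on : ∀ j i, i + j = p → ∀ x ∈ F (i + 1), ∃ y, ν y = x := fun j => by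
    induction j with
    | zero => rintro i rfl x hx; exact ⟨0, by rw [h4 x hx, map_zero]⟩
    | succ j ih =>
      intro i e x hx
      obtain ⟨z, hz⟩ := h3 (i + 1) _ (pa _) (pn _ (by omega)) x hx
      obtain ⟨y, hy⟩ := ih (i + 1) (by omega) _ hz
      exact ⟨y + z • (ν ^ i) a, by rw [map_add, hy, map_smul, pow_succ', Module.End.mul_apply, sub_add_cancel]⟩
  have kr : ∀ x, ν x = 0 → ∀ i ≤ p, x ∈ F i := fun x hx i hi => by
    induction i with
    | zero => exact h0 x
    | succ i ih => exact by_contra fun c => h2 i hi x (ih (by omega)) c (hx ▸ zero_mem _)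
  obtain ⟨h, hh⟩ := poly hp
  obtain ⟨H, hH⟩ : ∃ H, H = Polynomial.aeval ν h := ⟨_, rfl⟩
  have cH : Commute ν H := by
    have := (Commute.all Polynomial.X h).map (Polynomial.aeval ν)
    rwa [Polynomial.aeval_X, ← hH] at this
  have e := congrArg (Polynomial.aeval ν) hh
  simp only [map_pow, map_add, map_mul, map_one, Polynomial.aeval_X, map_natCast, ← hH, hν, left_eq_add] at e
  have e' : (ν ^ (p - 1) + (p : Module.End ℤ M) * (1 + ν * H)) * ν = 0 := by
    rw [← e]
    exact (((Commute.refl ν).pow_right _).add_right ((Nat.commute_cast ν p).mul_right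
      ((Commute.one_right ν).add_right ((Commute.refl ν).mul_right cH)))).eq.symm
  have nil : IsNilpotent ν := ⟨p + 1, LinearMap.ext fun x => h4 _ (by simpa using pw (p + 1) 0 x (h0 x))⟩
  have un : IsUnit (1 + ν * H) := (cH.isNilpotent_mul_right nil).isUnit_one_add
  have p2 := hp.two_le
  have k1 : ∀ c ∈ F 2, (p : ℤ) • c = 0 := fun c hc => by
    obtain ⟨y, rfl⟩ := on (p - 1) 1 (by omega) c hc
    have t := LinearMap.congr_fun e' y
    have t2 := h4 _ (by simpa [show 2 + (p - 1) = p + 1 by omega] using pw (p - 1) 2 _ hc)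
    rw [Module.End.mul_apply, LinearMap.add_apply, t2, zero_add, Module.End.mul_apply, Module.End.natCast_apply,
      ← map_nsmul, LinearMap.zero_apply] at t
    rw [natCast_zsmul]
    exact ((Module.End.isUnit_iff _).1 un).1 (t.trans (map_zero _).symm)
  have t := d1 _ (kr _ (LinearMap.congr_fun e a) p le_rfl)
  rw [LinearMap.add_apply, map_add, Module.End.mul_apply, Module.End.natCast_apply, map_nsmul, ← natCast_zsmul,
    k1 _ (d2 _), add_zero] at t
  exact d3 _ (pa _) (by simpa [Nat.sub_add_cancel hp.pos] using pn (p - 1) (by omega)) t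

end BLb

variable {G : Type u} [Group G] [Finite G] {p n k : ℕ} [hp : Fact p.Prime]

theorem lt_of_exc (h : MC p (k + 3) G) (h2 : 2 ≤ k) (he : ∀ i, 1 ≤ i → i < k → C2 G i = C2 G 1)
    (hne : C2 G k ≠ C2 G 1) : k + 1 < 2 * p := by
  by_contra hc
  have p2 := hp.out.two_le
  obtain ⟨b, hb⟩ : ∃ b, b + 1 + p = k + 1 := ⟨k - p, by omega⟩
  have l1 := lc_one_lt_C2 h le_rfl (by omega)
  have lk := lc_one_lt_C2 h (i := k) (by omega) le_rfl
  have e := inf_eq_of_ne h lk (h.cm_ne_top le_rfl) l1 (h.cm_ne_top (by omega)) hne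
  obtain ⟨y, hy, hy'⟩ := SetLike.exists_of_lt l1
  have yk : y ∉ C2 G k := fun c => hy' (e.le ⟨c, hy⟩)
  obtain ⟨s, s1, sk⟩ := exists_not_mem_two h (A := C2 G 1) (B := C2 G k) (h.cm_ne_top (by omega)) (h.cm_ne_top le_rfl)
  have hs : Out (k + 3) s := fun i a c => by
    rcases Nat.lt_or_ge i k with l | l
    · rw [he i a l]; exact s1
    · rw [show i = k by omega]; exact sk
  have bot : ∀ i, k + 2 ≤ i → ∀ x ∈ lc G i, x = 1 := fun i hi x hx => by
    rwa [h.lc_eq_bot (by omega), mem_bot] at hx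
  let A := lc G (b + 1)
  letI : CommGroup A := { (inferInstance : Group A) with
    mul_comm := fun x z => Subtype.ext (commutatorElement_eq_one_iff_mul_comm.1
      (bot _ (by omega) _ (comm_mem_lc x.2 z.2))) }
  let ρ : G → Module.End ℤ (Additive A) := fun t =>
    (MonoidHom.toAdditive (MulAut.conjNormal (H := A) t).toMonoidHom).toIntLinearMap
  have r1 : ∀ t x, ((ρ t x).toMul : G) = t * (x.toMul : G) * t⁻¹ := fun _ _ => rfl
  have r2 : ∀ t x, (((ρ t - 1) x).toMul : G) = ⁅t, (x.toMul : G)⁆ := fun t x => by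
    rw [LinearMap.sub_apply, toMul_sub, div_eq_mul_inv, coe_mul, r1]; rfl
  have r3 : ∀ (m : ℕ) x, (((ρ s ^ m) x).toMul : G) = s ^ m * (x.toMul : G) * (s ^ m)⁻¹ := fun m x => by
    induction m with
    | zero => simp
    | succ m ih => rw [pow_succ', Module.End.mul_apply, r1, ih, pow_succ']; group
  have zc : ∀ x ∈ lc G (k + 1), ∀ t, ⁅t, x⁆ = 1 := fun x hx t => bot _ le_rfl _ (comm_mem_lc_succ t hx)
  let F : ℕ → AddSubgroup (Additive A) := fun i => ((lc G (b + 1 + i)).subgroupOf A).toAddSubgroup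
  have mF : ∀ i x, x ∈ F i ↔ (x.toMul : G) ∈ lc G (b + 1 + i) := fun _ _ => Iff.rfl
  obtain ⟨a, ha, ha'⟩ := exists_gen h (i := b + 1) (by omega)
  refine BLb.core hp.out (ρ s - 1) (ρ y - 1) F (fun x => x.toMul.2) ?_ (fun i x hx => ?_) (fun i hi x hx hx' => ?_)
    (fun i u hu hu' x hx => ?_) (fun x hx => ?_) (a := Additive.ofMul ⟨a, ha⟩) ha' (fun x hx => ?_) (fun x => ?_)
    fun x hx hx' c => ?_
  · rw [sub_add_cancel]
    refine LinearMap.ext fun x => Additive.toMul.injective (Subtype.ext ?_)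
    rw [r3, ← (commutatorElement_eq_one_iff_mul_comm.1 (zc _ (hs.pow_mem h) _)), mul_inv_cancel_right]; rfl
  · rw [mF, r2]; exact comm_mem_lc_succ s hx
  · rw [mF, r2]; exact hs.comm_not_mem h (i := b + 1 + i) (by omega) (by omega) hx hx'
  · rw [mF, show b + 1 + i = b + i + 1 by omega] at hu hx
    rw [mF, show b + 1 + (i + 1) = b + i + 2 by omega] at hu'
    rw [← h.eq_sup hu hu'] at hx
    obtain ⟨v, hv, _, ⟨z, rfl⟩, hx⟩ := mem_sup_of_normal_left.1 hx
    refine ⟨z, ?_⟩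
    rw [mF, show b + 1 + (i + 1) = b + i + 2 by omega, toMul_sub, div_eq_mul_inv, coe_mul, ← hx, toMul_zsmul]
    simpa using hv
  · exact Additive.toMul.injective (Subtype.ext (bot _ (by omega) _ ((mF _ _).1 hx)))
  · refine Additive.toMul.injective (Subtype.ext ?_)
    rw [r2]; rw [mF, hb] at hx
    exact zc _ hx y
  · rw [mF, r2]
    exact (he (b + 1) (by omega) (by omega)).ge hy _ x.toMul.2
  · obtain ⟨j, rfl⟩ : ∃ j, k = j + 1 := ⟨k - 1, by omega⟩
    rw [mF, show b + 1 + (p - 1) = j + 1 by omega] at hx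
    rw [mF, hb] at hx'
    refine h.comm_not_mem yk hx hx' ?_
    rw [← r2, c]; exact one_mem _

/-- **Blackburn's theorem.** -/
theorem blackburn (h : MC p n G) {i : ℕ} (h1 : 1 ≤ i) (h2 : i + 4 ≤ n) : C2 G i = C2 G 1 := by
  induction i using Nat.strong_induction_on with
  | _ k ih =>
  by_contra hne
  have k2 : 2 ≤ k := by
    by_contra c
    exact hne (by rw [show k = 1 by omega])
  have he : ∀ i, 1 ≤ i → i < k → C2 G i = C2 G 1 := fun i a b => ih i b a (by omega)
  have d := Nat.le_of_dvd (by omega) (dvd_of_first h k2 h2 he hne)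
  have sj := QuotientGroup.mk'_surjective (lc G (k + 2))
  have m : ∀ i ≤ k, ∀ s, QuotientGroup.mk' (lc G (k + 2)) s ∈ C2 _ i ↔ s ∈ C2 G i := fun i hi s =>
    mem_C2_map_iff sj (by rw [QuotientGroup.ker_mk']; exact lc_anti (by omega))
  refine (lt_of_exc (h.quot_lc (m := k) (by omega)) k2 (fun i a b => Subgroup.ext fun s => ?_)
    fun c => hne (Subgroup.ext fun s => ?_)).not_ge d
  · obtain ⟨s, rfl⟩ := sj s
    rw [m i b.le, m 1 h1, he i a b]
  · rw [← m k le_rfl, ← m 1 h1, c]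

theorem even_of_exc (h : MC p n G) (h4 : 4 ≤ n) (hne : C2 G (n - 3) ≠ C2 G 1) : Even n := by
  have k2 : 2 ≤ n - 3 := by
    by_contra c
    exact hne (by rw [show n - 3 = 1 by omega])
  obtain ⟨m, hm⟩ := odd_of_first h k2 (by omega) (fun i a b => blackburn h a (by omega)) hne
  exact ⟨m + 2, by omega⟩

theorem exists_out (h : MC p n G) (h4 : 4 ≤ n) : ∃ s : G, Out n s := by
  obtain ⟨s, s1, sk⟩ := exists_not_mem_two h (A := C2 G 1) (B := C2 G (n - 3)) (h.cm_ne_top (by omega))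
    (h.cm_ne_top (by omega))
  refine ⟨s, fun i a c => ?_⟩
  rcases Nat.lt_or_ge n (i + 4) with l | l
  · rw [show i = n - 3 by omega]; exact sk
  · rw [blackburn h a l]; exact s1

end H90.MX
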