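import Mathlib
import Cfsg.Agent.Base
import Cfsg.Agent.Lib.LocEven.SPE
import Cfsg.Agent.Lib.Core.CrossedHom
import Cfsg.Agent.Lib.LocStruct.SylowIn

set_option autoImplicit false

namespace H90.MX

open Cfsg

universe u

namespace Ext

open Subgroup
open scoped commutatorElement

/-- corestriction of a crossed homomorphism along a given transversal -/
theorem cor {Γ A : Type*} [Group Γ] [CommGroup A] (φ : Γ →* MulAut A) (U : Subgroup Γ)
    [Fintype (Γ ⧸ U)] (t : Γ ⧸ U → Γ) (ht : ∀ x, (t x : Γ ⧸ U) = x) (f : Γ → A)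
    (hf : ∀ g ∈ U, ∀ h ∈ U, f (g * h) = f g * φ g (f h)) (F : Γ → A)
    (hF : ∀ g, F g = ∏ x, φ (t (g • x)) (f ((t (g • x))⁻¹ * g * t x))) (g h : Γ) :
    F (g * h) = F g * φ g (F h) := by
  have hmem : ∀ (g : Γ) (x : Γ ⧸ U), (t (g • x))⁻¹ * g * t x ∈ U := fun g x => by
    rw [mul_assoc, ← QuotientGroup.eq, ht, ← smul_eq_mul, ← MulAction.Quotient.smul_mk, ht]
  have h1 : ∏ x : Γ ⧸ U, φ (t (g • x)) (f ((t (g • x))⁻¹ * g * t x)) =
      ∏ x : Γ ⧸ U, φ (t (g • h • x)) (f ((t (g • h • x))⁻¹ * g * t (h • x))) :=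
    (Fintype.prod_equiv (MulAction.toPerm h) _ _ fun x => rfl).symm
  simp only [hF, h1, map_prod, ← Finset.prod_mul_distrib]
  refine Finset.prod_congr rfl fun x _ => ?_
  have h2 : (t ((g * h) • x))⁻¹ * (g * h) * t x =
      ((t (g • h • x))⁻¹ * g * t (h • x)) * ((t (h • x))⁻¹ * h * t x) := by
    rw [mul_smul]; group
  rw [h2, hf _ (hmem g _) _ (hmem h _), map_mul, mul_smul]
  congr 1
  rw [← MulAut.mul_apply, ← map_mul, ← MulAut.mul_apply, ← map_mul]
  congr 2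
  group

/-- an equivariant transversal -/
theorem exists_tr {Γ : Type*} [Group Γ] {P U : Subgroup Γ} (hP : P ≤ U)
    (fr : ∀ u ∈ P, ∀ g, g ∉ U → g⁻¹ * u * g ∈ U → u = 1) :
    ∃ t : Γ ⧸ U → Γ, (∀ x, (t x : Γ ⧸ U) = x) ∧ t ((1 : Γ) : Γ ⧸ U) = 1 ∧
      ∀ u ∈ P, ∀ x, x ≠ ((1 : Γ) : Γ ⧸ U) → t (u • x) = u * t x := by
  classical
  let r : Γ ⧸ U → Γ ⧸ U := fun x => (Quotient.mk (MulAction.orbitRel P (Γ ⧸ U)) x).out
  have h1 : ∀ x, ∃ u : P, u • r x = x := fun x =>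
    MulAction.orbitRel_apply.1 ((MulAction.orbitRel P (Γ ⧸ U)).symm (Quotient.mk_out x))
  choose v hv using h1
  have b : ∀ u ∈ P, u • ((1 : Γ) : Γ ⧸ U) = ((1 : Γ) : Γ ⧸ U) := fun u hu => by
    rw [MulAction.Quotient.smul_mk, smul_eq_mul, eq_comm, QuotientGroup.eq]
    simpa using hP hu
  have b' : ∀ u ∈ P, ∀ x : Γ ⧸ U, u • x = ((1 : Γ) : Γ ⧸ U) → x = ((1 : Γ) : Γ ⧸ U) :=
    fun u hu x e => by rw [← inv_smul_smul u x, e, b _ (inv_mem hu)]
  refine ⟨fun x => if x = ((1 : Γ) : Γ ⧸ U) then 1 else v x * (r x).out, fun x => ?_, if_pos rfl,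
    fun u hu x hx => ?_⟩
  · dsimp only
    split_ifs with h
    · exact h.symm
    · rw [← smul_eq_mul, ← MulAction.Quotient.smul_mk, QuotientGroup.out_eq']
      exact hv x
  · have e : r (u • x) = r x := congrArg Quotient.out
      (Quotient.sound (MulAction.orbitRel_apply.2 ⟨⟨u, hu⟩, rfl⟩))
    have e1 : ((v (u • x) : Γ)⁻¹ * u * v x) • r x = r x := by
      rw [mul_smul, mul_smul, show (v x : Γ) • r x = x from hv x, inv_smul_eq_iff, ← e]
      exact (hv _).symm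
    have e2 : (r x).out ∉ U := fun c => hx (by
      have : r x = ((1 : Γ) : Γ ⧸ U) := by
        rw [← QuotientGroup.out_eq' (r x), eq_comm, QuotientGroup.eq]; simpa using c
      rw [← hv x, this]
      exact b _ (v x).2)
    have e3 := fr _ (mul_mem (mul_mem (inv_mem (v (u • x)).2) hu) (v x).2) _ e2 (by
      rw [mul_assoc, ← QuotientGroup.eq, ← smul_eq_mul, ← MulAction.Quotient.smul_mk,
        QuotientGroup.out_eq', e1])
    rw [mul_assoc, inv_mul_eq_one] at e3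
    simp only [if_neg hx, if_neg (mt (b' u hu x) hx), e, e3, mul_assoc]

variable {p : ℕ} [Fact p.Prime] {Γ G : Type*} [Group Γ] [Finite Γ] [Group G] [Finite G]

open scoped IsMulCommutative in
theorem ab (f : Γ →* G) (hf : Function.Surjective f) (hk : IsPGroup p f.ker)
    [IsMulCommutative f.ker] {M : Subgroup G} (hM : IsStronglyPEmbedded p M) (σ : M →* Γ)
    (hσ : ∀ m, f (σ m) = m) : ∃ H : Subgroup Γ, (∀ m, σ m ∈ H) ∧ (∀ x ∈ H, f x = 1 → x = 1) ∧
      ∀ g, ∃ x ∈ H, f x = g := by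
  classical
  obtain ⟨P, hP⟩ := H68.spe_exists_sylow_le hM
  obtain ⟨j, hj⟩ := IsPGroup.iff_card.1 hk
  have cop : ∀ {n : ℕ}, n ∣ (P : Subgroup G).index → (Nat.card f.ker).Coprime n := fun h =>
    hj ▸ Nat.Coprime.pow_left _ ((Nat.Prime.coprime_iff_not_dvd Fact.out).2 fun c =>
      P.not_dvd_index (c.trans h))
  let U := M.comap f
  have := Fintype.ofFinite (Γ ⧸ U)
  obtain ⟨t, t1, t2, t3⟩ := exists_tr (P := ((P : Subgroup G).subgroupOf M).map σ) (U := U)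
    (by rintro _ ⟨m, -, rfl⟩; exact ((hσ m).symm ▸ m.2 : f (σ m) ∈ M)) (by
      rintro _ ⟨m, hm, rfl⟩ g hg c
      obtain ⟨k, e⟩ := P.isPGroup' ⟨m, hm⟩
      by_contra n
      refine hg (M.inv_mem_iff.1 (H68.spe_mem_of_conj_mem hM (g := (f g)⁻¹) m.2
        (fun e => n (by rw [show m = 1 from Subtype.ext e, map_one])) (congrArg Subtype.val e) ?_))
      simpa [U, hσ] using c)
  let φ : Γ →* MulAut f.ker := MulAut.conjNormal
  have hφ : ∀ (h : Γ) (m : f.ker), (φ h m : Γ) = h * m * h⁻¹ := fun h m => by simp [φ]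
  have hφ1 : ∀ a b : f.ker, φ a b = b := fun a b => Subtype.ext (by
    rw [hφ, ← coe_mul, mul_comm a b, coe_mul, mul_inv_cancel_right])
  let a : Γ → f.ker := fun g => if h : g ∈ U then ⟨g * (σ ⟨f g, h⟩)⁻¹, by simp [hσ]⟩ else 1
  have ha : ∀ g (h : g ∈ U), (a g : Γ) = g * (σ ⟨f g, h⟩)⁻¹ := fun g h => by simp only [a, dif_pos h]
  let F : Γ → f.ker := fun g => ∏ x, φ (t (g • x)) (a ((t (g • x))⁻¹ * g * t x))
  have hF := cor φ U t t1 a (fun g hg h hh => Subtype.ext (by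
    rw [mul_comm, coe_mul, hφ, ha _ hg, ha _ hh, ha _ (mul_mem hg hh),
      show (⟨f (g * h), mul_mem hg hh⟩ : M) = ⟨f g, hg⟩ * ⟨f h, hh⟩ from Subtype.ext (map_mul ..),
      map_mul]
    group)) F fun _ => rfl
  have a1 : ∀ m, a (σ m) = 1 := fun m => Subtype.ext (by
    rw [ha _ ((hσ m).symm ▸ m.2 : f (σ m) ∈ M), show (⟨f (σ m), _⟩ : M) = m from Subtype.ext (hσ m),
      mul_inv_cancel]; rfl)
  have F1 : ∀ m ∈ (P : Subgroup G).subgroupOf M, F (σ m) = 1 := fun m hm =>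
    Finset.prod_eq_one fun x _ => by
      by_cases hx : x = ((1 : Γ) : Γ ⧸ U)
      · have : σ m • x = x := by
          rw [hx, MulAction.Quotient.smul_mk, smul_eq_mul, eq_comm, QuotientGroup.eq]
          simp [U, hσ]
        rw [this, hx, t2, inv_one, one_mul, mul_one, a1, map_one]
      · rw [t3 _ ⟨m, hm, rfl⟩ x hx, mul_assoc, inv_mul_cancel, ← map_one σ, a1, map_one]
  have F2 : ∀ k : f.ker, F k = k ^ U.index := fun k => by
    have hm : ∀ x : Γ, x⁻¹ * k * x ∈ f.ker := fun x => by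
      simpa using (inferInstance : f.ker.Normal).conj_mem k k.2 x⁻¹
    have hU : ∀ x : Γ, x⁻¹ * k * x ∈ U := fun x => by
      change f _ ∈ M
      rw [hm x]; exact one_mem _
    have hx : ∀ x : Γ ⧸ U, (k : Γ) • x = x := fun x => by
      rw [← t1 x, MulAction.Quotient.smul_mk, smul_eq_mul, eq_comm, QuotientGroup.eq, ← mul_assoc]
      exact hU _
    have e : ∀ x : Γ, φ x (a (x⁻¹ * k * x)) = k := fun x => Subtype.ext (by
      rw [hφ, ha _ (hU x), show (⟨f (x⁻¹ * k * x), hU x⟩ : M) = 1 from Subtype.ext (hm x), map_one]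
      group)
    simp only [F, hx, e, Finset.prod_const, Finset.card_univ]
    rw [index_eq_card, Nat.card_eq_fintype_card]
  obtain ⟨e, he⟩ := H3.crossedHom_principal (φ.comp σ) ((P : Subgroup G).subgroupOf M)
    (cop (relIndex_dvd_index_of_le hP)) (fun m => F (σ m)) (fun g h => by rw [map_mul, hF]; rfl) F1
  have cU : (Nat.card f.ker).Coprime U.index :=
    cop (index_comap_of_surjective M hf ▸ index_dvd_of_le hP)
  have F0 : F 1 = 1 := by simpa using F2 1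
  let H : Subgroup Γ :=
    { carrier := {g | F g = e * (φ g e)⁻¹}
      one_mem' := by simp [F0]
      mul_mem' := fun {x y} hx hy => by
        simp only [Set.mem_ofPred_eq] at hx hy ⊢
        rw [hF, hx, hy]; simp
      inv_mem' := fun {x} hx => by
        simp only [Set.mem_ofPred_eq] at hx ⊢
        have := hF x⁻¹ x
        rw [inv_mul_cancel, F0, hx, eq_comm, mul_eq_one_iff_eq_inv] at this
        rw [this]; simp [mul_comm] }
  refine ⟨H, he, fun x hx c => ?_, fun g => ?_⟩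
  · have h1 : F x = e * (φ x e)⁻¹ := hx
    rw [show x = (⟨x, c⟩ : f.ker) from rfl, F2, hφ1, mul_inv_cancel] at h1
    exact congrArg Subtype.val ((powCoprime cU).injective (a₁ := ⟨x, c⟩) (a₂ := 1) (by
      rw [powCoprime_apply, powCoprime_apply, one_pow, h1]))
  · obtain ⟨x, rfl⟩ := hf g
    obtain ⟨k, hk⟩ := (powCoprime cU).surjective (e * (φ x e)⁻¹ * (F x)⁻¹)
    rw [powCoprime_apply] at hk
    refine ⟨k * x, ?_, by rw [map_mul, k.2, one_mul]⟩
    change F _ = _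
    rw [hF, F2, hk, hφ1, map_mul, MulAut.mul_apply, hφ1, inv_mul_cancel_right]

theorem step (f : Γ →* G) (hf : Function.Surjective f) (hk : IsPGroup p f.ker) (h0 : f.ker ≠ ⊥)
    {M : Subgroup G} (hM : IsStronglyPEmbedded p M) (σ : M →* Γ) (hσ : ∀ m, f (σ m) = m) :
    ∃ H : Subgroup Γ, H ≠ ⊤ ∧ (∀ m, σ m ∈ H) ∧ ∀ g, ∃ x ∈ H, f x = g := by
  have lt := H69.commutator_lt_of_isPGroup hk hk le_normalizer h0
  let f' := QuotientGroup.lift ⁅f.ker, f.ker⁆ f lt.le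
  have e : f'.ker = f.ker.map (QuotientGroup.mk' _) := QuotientGroup.ker_lift _ _ _
  have : IsMulCommutative f'.ker := ⟨⟨fun a b => Subtype.ext (by
    obtain ⟨x, hx, ex⟩ := e.le a.2
    obtain ⟨y, hy, ey⟩ := e.le b.2
    rw [coe_mul, coe_mul, ← ex, ← ey, ← commutatorElement_eq_one_iff_mul_comm,
      ← map_commutatorElement, QuotientGroup.mk'_apply, QuotientGroup.eq_one_iff]
    exact commutator_mem_commutator hx hy)⟩⟩
  obtain ⟨H, h1, h2, h3⟩ := ab f' (fun g => (hf g).elim fun x hx => ⟨x, hx⟩) (e ▸ hk.map _) hM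
    ((QuotientGroup.mk' _).comp σ) hσ
  refine ⟨H.comap (QuotientGroup.mk' _), fun c => lt.not_ge fun k hk =>
    (QuotientGroup.eq_one_iff k).1 (h2 _ (c.ge (mem_top k)) hk), h1, fun g => ?_⟩
  obtain ⟨x, hx, rfl⟩ := h3 g
  obtain ⟨y, rfl⟩ := QuotientGroup.mk_surjective x
  exact ⟨y, hx, rfl⟩

end Ext

/-- a splitting over a strongly `p`-embedded subgroup extends -/
theorem ext_split {p : ℕ} [Fact p.Prime] {Γ : Type u} {G : Type*} [Group Γ] [Finite Γ] [Group G] [Finite G] (f : Γ →* G)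
    (hf : Function.Surjective f) (hk : IsPGroup p f.ker) {M : Subgroup G} (hM : IsStronglyPEmbedded p M)
    (σ : M →* Γ) (hσ : ∀ m, f (σ m) = m) : ∃ τ : G →* Γ, (∀ g, f (τ g) = g) ∧ ∀ m : M, τ m = σ m := by
  obtain ⟨H, ⟨h1, h2⟩, hm⟩ := exists_minimal_of_wellFoundedLT
    (fun H : Subgroup Γ => (∀ m, σ m ∈ H) ∧ ∀ g, ∃ x ∈ H, f x = g)
    ⟨⊤, fun _ => trivial, fun g => (hf g).imp fun _ h => ⟨trivial, h⟩⟩
  have hs : Function.Surjective (f.comp H.subtype) := fun g =>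
    (h2 g).elim fun x hx => ⟨⟨x, hx.1⟩, hx.2⟩
  have hi : (f.comp H.subtype).ker = ⊥ := by
    by_contra c
    obtain ⟨K, k0, k1, k2⟩ := Ext.step _ hs hk.comap_subtype c hM (σ.codRestrict H h1) hσ
    refine k0 (eq_top_iff.2 fun x _ => ?_)
    have := hm (y := K.map H.subtype) ⟨fun m => ⟨_, k1 m, rfl⟩, fun g =>
      (k2 g).elim fun x hx => ⟨x, ⟨x, hx.1, rfl⟩, hx.2⟩⟩ (Subgroup.map_subtype_le K) x.2
    exact (Subgroup.mem_map_iff_mem H.subtype_injective).1 this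
  let e := MulEquiv.ofBijective _ ⟨(MonoidHom.ker_eq_bot_iff _).1 hi, hs⟩
  refine ⟨H.subtype.comp (e.symm : G →* H), fun g => e.apply_symm_apply g, fun m => ?_⟩
  exact congrArg Subtype.val (e.symm_apply_eq.2 (hσ m).symm : e.symm m = ⟨σ m, h1 m⟩)

end H90.MX
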