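import Mathlib
import Cfsg.Agent.Base
import Cfsg.Agent.Lib.MX.Defs
import Cfsg.Agent.Lib.MX.Ext

/-!
# An irreducible module cannot be deformed (helper90)
-/

set_option autoImplicit false

namespace H90.MX

open Module Polynomial Cfsg Subgroup

namespace Rig

variable (p : ℕ) [hp : Fact p.Prime]

/-- the power `x ^ t` to first order -/
noncomputable def W {K : Type*} [CommRing K] (t x : K) : K :=
  ∏ b : (ZMod p)ˣ, (1 + t * (x ^ (b : ZMod p).val - 1)) ^ (b : ZMod p)⁻¹.val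

variable {p}

theorem pw {K : Type*} [Monoid K] {y : K} (h : y ^ p = 1) {a b : ℕ} (e : (a : ZMod p) = b) : y ^ a = y ^ b := by
  rw [pow_eq_pow_mod a h, pow_eq_pow_mod b h, (ZMod.natCast_eq_natCast_iff' a b p).1 e]

section Comm

variable {K : Type*} [CommRing K] {t x : K}

theorem map_W {K' : Type*} [CommRing K'] (φ : K →+* K') (t x : K) : φ (W p t x) = W p (φ t) (φ x) := by
  simp only [W, map_prod, map_pow, map_add, map_mul, map_sub, map_one]

theorem fac_pow (h0 : (p : K) = 0) (hx : x ^ p = 1) (b : ℕ) : (1 + t * (x ^ b - 1)) ^ p = 1 := by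
  obtain ⟨r, hr⟩ := exists_add_pow_prime_eq hp.out 1 (t * (x ^ b - 1))
  obtain ⟨r', hr'⟩ := exists_add_pow_prime_eq hp.out (x ^ b - 1) 1
  rw [sub_add_cancel, ← pow_mul, mul_comm, pow_mul, hx, h0] at hr'
  rw [hr, h0, mul_pow, show (x ^ b - 1) ^ p = 0 by simpa using hr'.symm]
  simp

theorem W_pow_p (h0 : (p : K) = 0) (hx : x ^ p = 1) : W p t x ^ p = 1 := by
  rw [W, ← Finset.prod_pow]
  exact Finset.prod_eq_one fun b _ => by rw [pow_right_comm, fac_pow h0 hx, one_pow]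

theorem W_pow (h0 : (p : K) = 0) (hx : x ^ p = 1) {c : ℕ} (hc : c.Coprime p) : W p t (x ^ c) = W p t x ^ c := by
  rw [W, W, ← Finset.prod_pow, ← Equiv.prod_comp (Equiv.mulLeft (ZMod.unitOfCoprime c hc))
    (fun b : (ZMod p)ˣ => ((1 + t * (x ^ (b : ZMod p).val - 1)) ^ (b : ZMod p)⁻¹.val) ^ c)]
  refine Finset.prod_congr rfl fun b _ => ?_
  rw [← pow_mul, ← pow_mul, pw hx (b := ((ZMod.unitOfCoprime c hc * b : (ZMod p)ˣ) : ZMod p).val) (by simp)]
  refine pw (fac_pow h0 hx _) ?_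
  have : (c : ZMod p) ≠ 0 := (ZMod.unitOfCoprime c hc).ne_zero
  simp [-ZMod.inv_coe_unit, this]

theorem one_add_pow (t a : K) (n : ℕ) : ∃ Y, (1 + t * a) ^ n = 1 + t * (n * a + t * Y) := by
  induction n with
  | zero => exact ⟨0, by simp⟩
  | succ n ih =>
    obtain ⟨Y, hY⟩ := ih
    exact ⟨Y + (n * a + t * Y) * a, by rw [pow_succ, hY]; push_cast; ring⟩

theorem W_eq (h0 : (p : K) = 0) (t x : K) : ∃ g Y, W p t x = 1 + t * (-((x - 1) * (1 - (x - 1) * g)) + t * Y) := by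
  have key : ∀ s : Finset (ZMod p)ˣ, ∃ g Y, ∏ b ∈ s, (1 + t * (x ^ (b : ZMod p).val - 1)) ^
      (b : ZMod p)⁻¹.val = 1 + t * ((x - 1) * (s.card + (x - 1) * g) + t * Y) := fun s => by
    induction s using Finset.induction_on with
    | empty => exact ⟨0, 0, by rw [Finset.prod_empty]; simp⟩
    | insert b s hb ih =>
      obtain ⟨g, Y, e⟩ := ih
      obtain ⟨Y₁, e₁⟩ := one_add_pow t (x ^ (b : ZMod p).val - 1) (b : ZMod p)⁻¹.val
      obtain ⟨g₁, e₂⟩ := one_add_pow (x - 1) 1 (b : ZMod p).val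
      obtain ⟨q, hq⟩ := (Nat.modEq_iff_dvd' (Nat.one_le_iff_ne_zero.2 (mul_ne_zero
        ((ZMod.val_eq_zero _).not.2 (inv_ne_zero b.ne_zero)) ((ZMod.val_eq_zero _).not.2 b.ne_zero)))).1
        ((ZMod.natCast_eq_natCast_iff 1 ((b : ZMod p)⁻¹.val * (b : ZMod p).val) p).1 (by simp [-ZMod.inv_coe_unit]))
      have e₃ : ((b : ZMod p)⁻¹.val : K) * ((b : ZMod p).val : K) = 1 := by
        rw [← Nat.cast_mul, (Nat.sub_eq_iff_eq_add (Nat.one_le_iff_ne_zero.2 (mul_ne_zero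
          ((ZMod.val_eq_zero _).not.2 (inv_ne_zero b.ne_zero)) ((ZMod.val_eq_zero _).not.2 b.ne_zero)))).1 hq]
        simp [h0]
      rw [mul_one, add_sub_cancel] at e₂
      rw [Finset.prod_insert hb, e, e₁, e₂, Finset.card_insert_of_notMem hb]
      generalize ((b : ZMod p)⁻¹.val : K) = n at *
      generalize ((b : ZMod p).val : K) = m at *
      exact ⟨g + n * g₁, Y + Y₁ + (n * ((x - 1) * (m + (x - 1) * g₁)) + t * Y₁) *
        ((x - 1) * (s.card + (x - 1) * g) + t * Y), by push_cast; linear_combination t * (x - 1) * e₃⟩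
  obtain ⟨g, Y, e⟩ := key Finset.univ
  refine ⟨g, Y, e.trans ?_⟩
  rw [Finset.card_univ, ZMod.card_units, Nat.cast_pred hp.out.pos, h0]
  ring

end Comm

section Alg

variable {R A : Type*} [CommRing R] [Ring A] [Algebra R A] {y : A}

theorem aeval_eq_of_mk {a b : R[X]} (h : Ideal.Quotient.mk (RingHom.ker (aeval y : R[X] →ₐ[R] A)) a =
    Ideal.Quotient.mk _ b) : aeval y a = aeval y b := by
  rw [← Ideal.kerLiftAlg_mk, h, Ideal.kerLiftAlg_mk]

omit hp in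
theorem mk_pow (hy : y ^ p = 1) : Ideal.Quotient.mk (RingHom.ker (aeval y : R[X] →ₐ[R] A)) X ^ p = 1 := by
  rw [← map_pow, ← map_one (Ideal.Quotient.mk _), Ideal.Quotient.eq, RingHom.mem_ker]
  simp [hy]

omit hp in
theorem mk_p (h0 : (p : A) = 0) : ((p : ℕ) : R[X] ⧸ RingHom.ker (aeval y : R[X] →ₐ[R] A)) = 0 := by
  rw [← map_natCast (Ideal.Quotient.mk _), Ideal.Quotient.eq_zero_iff_mem, RingHom.mem_ker, map_natCast, h0]

theorem semiconj_aeval {u y' : A} (h : SemiconjBy u y y') (P : R[X]) : SemiconjBy u (aeval y P) (aeval y' P) := by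
  induction P using Polynomial.induction_on' with
  | add a b ha hb => simpa using ha.add_right hb
  | monomial n a =>
    rw [aeval_monomial, aeval_monomial]
    exact SemiconjBy.mul_right (Algebra.commutes a u).symm (h.pow_right n)

/-- the deformed element -/
theorem exists_def (h0 : (p : A) = 0) (h0' : (p : R) = 0) (hy : y ^ p = 1) (t : R) :
    ∃ y' : A, y' ^ p = 1 ∧ (∀ (u : A) (c : ℕ), c.Coprime p → SemiconjBy u y (y ^ c) → SemiconjBy u y' (y' ^ c)) ∧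
      ∃ g Y, Commute g y ∧ y' = y + t • (-((y - 1) * (1 - (y - 1) * g) * y) + t • Y) := by
  refine ⟨aeval y (W p (C t) X * X), ?_, fun u c hc h => ?_, ?_⟩
  · rw [← map_pow, ← map_one (aeval y : R[X] →ₐ[R] A)]
    exact aeval_eq_of_mk (by rw [map_pow, map_mul, map_W, mul_pow, W_pow_p (mk_p h0) (mk_pow hy), mk_pow hy, map_one,
      one_mul])
  · convert semiconj_aeval h (W p (C t) X * X) using 1
    rw [← map_pow, ← expand_aeval]
    refine aeval_eq_of_mk ?_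
    rw [map_mul (expand R c), show expand R c (W p (C t) X) = W p (C t) (X ^ c) from
      (map_W (expand R c).toRingHom _ _).trans (by simp), expand_X]
    simp only [map_pow, map_mul, map_W, W_pow (mk_p h0) (mk_pow hy) hc, mul_pow]
  · obtain ⟨g, Y, e⟩ := W_eq (p := p) (by rw [← C_eq_natCast, h0', C_0]) (C t) X
    refine ⟨aeval y g, aeval y (Y * X), by simpa using (Commute.all g X).map (aeval y), ?_⟩
    rw [e, show (1 + C t * (-((X - 1) * (1 - (X - 1) * g)) + C t * Y)) * X =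
      X + C t * (-((X - 1) * (1 - (X - 1) * g) * X) + C t * (Y * X)) by ring]
    simp [Algebra.smul_def]

end Alg

variable {G V : Type*} [Group G] [Finite G] [AddCommGroup V] [Module (ZMod p) V] [Finite V]

omit [Finite G] [Finite V] in
theorem exists_mul_ne (ρ : G →* End (ZMod p) V)
    (irr : ∀ U : Submodule (ZMod p) V, (∀ g, ∀ u ∈ U, ρ g u ∈ U) → U = ⊥ ∨ U = ⊤) {Y Z : End (ZMod p) V}
    (hY : Y ≠ 0) (hZ : Z ≠ 0) : ∃ g, Y * ρ g * Z ≠ 0 := by
  by_contra hc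
  push Not at hc
  rcases irr (⨅ g, LinearMap.ker (Y * ρ g)) (fun g u hu => by
    simp only [Submodule.mem_iInf, LinearMap.mem_ker] at hu ⊢
    exact fun g' => by simpa [map_mul] using hu (g' * g)) with e | e
  · exact hZ (LinearMap.ext fun v => (Submodule.mem_bot _).1 (e.le ((Submodule.mem_iInf _).2 fun g =>
      LinearMap.congr_fun (hc g) v)))
  · exact hY (LinearMap.ext fun v => by simpa using (Submodule.mem_iInf _).1 (e.ge (Submodule.mem_top (x := v))) 1)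

/-- the homomorphism on `M = ⟨z⟩ H` -/
theorem exists_hom {A : Type*} [Monoid A] (σ : G →* A) {M H : Subgroup G} (hH : H ≤ M) {z : G}
    (hp' : z ^ p = 1) (hn : ∀ m ∈ M, m * z * m⁻¹ ∈ zpowers z) (hc : ∀ m ∈ M, ∃ j : ℕ, ∃ h ∈ H, m = z ^ j * h)
    (hd : z ∉ H) {z' : A} (h1 : z' ^ p = 1)
    (h2 : ∀ (u : A) (c : ℕ), c.Coprime p → SemiconjBy u (σ z) (σ z ^ c) → SemiconjBy u z' (z' ^ c)) :
    ∃ τ : M →* A, ∀ (m : M) (j : ℕ), ∀ h ∈ H, (m : G) = z ^ j * h → τ m = z' ^ j * σ h := by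
  have ho : orderOf z = p := orderOf_eq_prime hp' fun e => hd (e ▸ one_mem H)
  choose J k hk e using hc
  have key : ∀ (m : M) (j : ℕ), ∀ h ∈ H, (m : G) = z ^ j * h → z' ^ J m m.2 * σ (k m m.2) = z' ^ j * σ h :=
    fun m j h hh e' => by
      have a : z ^ ((j : ℤ) - J m m.2) = k m m.2 * h⁻¹ := by
        rw [sub_eq_neg_add, zpow_add, zpow_neg, zpow_natCast, zpow_natCast, inv_mul_eq_iff_eq_mul, ← mul_assoc,
          ← e m m.2, e', mul_inv_cancel_right]
      have b : (p : ℤ) ∣ (j : ℤ) - J m m.2 := by_contra fun b => hd (zpowers_le.2 (a ▸ mul_mem (hk m m.2) (inv_mem hh))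
        (mem_zpowers_zpow_iff.2 (ho ▸ Int.isCoprime_iff_gcd_eq_one.1
          ((Nat.prime_iff_prime_int.1 hp.out).coprime_iff_not_dvd.2 b).symm)))
      rw [(orderOf_dvd_iff_zpow_eq_one.1 (ho ▸ b)), eq_comm, mul_inv_eq_one] at a
      rw [a, pw h1 ((ZMod.natCast_eq_natCast_iff _ _ _).2 (Nat.modEq_iff_dvd.2 b))]
  refine ⟨MonoidHom.mk ⟨fun m => z' ^ J m m.2 * σ (k m m.2), (key 1 0 1 (one_mem H) (by simp)).trans (by simp)⟩
    fun a b => ?_, key⟩
  obtain ⟨c, hc⟩ := mem_powers_iff_mem_zpowers.2 (hn _ (hH (hk a a.2)))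
  have s1 : SemiconjBy (k a a.2) z (z ^ c) := by
    rw [SemiconjBy, show z ^ c = _ from hc, inv_mul_cancel_right]
  have s2 := h2 _ c (Nat.coprime_comm.1 (hp.out.coprime_iff_not_dvd.2 fun d => hd (by
    have := orderOf_dvd_iff_pow_eq_one.1 (ho ▸ d)
    rw [this, SemiconjBy, one_mul, mul_eq_left] at s1
    exact s1 ▸ one_mem H))) (by simpa using s1.map σ)
  refine (key (a * b) (J a a.2 + c * J b b.2) _ (mul_mem (hk a a.2) (hk b b.2)) ?_).trans ?_
  · rw [pow_add, pow_mul, mul_assoc, ← mul_assoc _ (k a a.2), ← (s1.pow_right _).eq, mul_assoc, ← mul_assoc,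
      ← e a a.2, ← e b b.2]
    rfl
  · rw [pow_add, pow_mul, map_mul, mul_assoc, ← mul_assoc _ (σ _), ← (s2.pow_right _).eq]
    simp only [mul_assoc]

theorem core {R A : Type} [CommRing R] [Ring A] [Algebra R A] [Algebra (ZMod p) A] [Finite A] {t : R} {L : ℕ}
    (π : A →ₐ[ZMod p] End (ZMod p) V) (σ : End (ZMod p) V →ₐ[ZMod p] A) (hσ : ∀ x, π (σ x) = x)
    (ht : ∀ y, π y = 0 ↔ ∃ y', y = t • y') (hL : t ^ L = 0) (hj : ∀ j < L, ∀ y, t ^ j • y = 0 → π y = 0)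
    (h0' : (p : R) = 0) (hG : Nat.card G + 2 = L)
    (ρ : G →* End (ZMod p) V) (irr : ∀ U : Submodule (ZMod p) V, (∀ g, ∀ u ∈ U, ρ g u ∈ U) → U = ⊥ ∨ U = ⊤)
    {M H : Subgroup G} (hM : IsStronglyPEmbedded p M) (hH : H ≤ M) {z s : G} (hz : z ∈ M) (hp' : z ^ p = 1)
    (h1 : ρ z ≠ 1) (hn : ∀ m ∈ M, m * z * m⁻¹ ∈ zpowers z) (hc : ∀ m ∈ M, ∃ j : ℕ, ∃ h ∈ H, m = z ^ j * h)
    (hd : z ∉ H) (hs : s ∈ H) (f : (ZMod p)[X]) (hf : ρ z = aeval (ρ s) f) : False := by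
  have h0 : (p : A) = 0 := by rw [← map_natCast (algebraMap (ZMod p) A), ZMod.natCast_self, map_zero]
  have hπ : ∀ y, π (t • y) = 0 := fun y => (ht _).2 ⟨y, rfl⟩
  let σ' : G →* A := (σ : _ →* A).comp ρ
  have hσ' : ∀ g, π (σ' g) = ρ g := fun g => hσ _
  obtain ⟨z', z1, z2, g, Y, cg, e⟩ := exists_def h0 h0' (y := σ' z) (by rw [← map_pow, hp', map_one]) t
  obtain ⟨τ₀, hτ₀⟩ := exists_hom σ' hH hp' hn hc hd z1 z2
  let Γ : Subgroup (G × Aˣ) := MonoidHom.eqLocus (ρ.toHomUnits.comp (MonoidHom.fst G Aˣ))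
    ((Units.map (π : A →* _)).comp (MonoidHom.snd G Aˣ))
  have mΓ : ∀ x : G × Aˣ, x ∈ Γ ↔ ρ x.1 = π x.2 := fun x => Units.ext_iff
  haveI : Nontrivial A := ⟨σ' z, 1, fun k => h1 (by rw [← hσ', k, map_one])⟩
  haveI : CharP A p := charP_of_injective_algebraMap (algebraMap (ZMod p) A).injective p
  obtain ⟨τ₁, a1, a2⟩ := ext_split ((MonoidHom.fst G Aˣ).comp Γ.subtype)
    (fun g => ⟨⟨(g, σ'.toHomUnits g), (mΓ _).2 (hσ' g).symm⟩, rfl⟩)
    (fun x => ⟨L, Subtype.ext (Subtype.ext (Prod.ext (by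
      rw [SubmonoidClass.coe_pow, SubmonoidClass.coe_pow, Prod.pow_fst, show x.1.1.1 = 1 from x.2, one_pow]
      rfl) (Units.ext (by
      obtain ⟨y, hy⟩ := (ht (x.1.1.2 - 1)).1 (by
        rw [map_sub, ← (mΓ _).1 x.1.2, show x.1.1.1 = 1 from x.2, map_one, map_one, sub_self])
      change (x.1.1.2 : A) ^ p ^ L = 1
      rw [sub_eq_iff_eq_add.1 hy, add_pow_char_pow_of_commute _ _ (Commute.one_right _), _root_.smul_pow,
        pow_eq_zero_of_le (Nat.lt_pow_self hp.out.one_lt).le hL, zero_smul, one_pow, zero_add]))))⟩) hM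
    ((M.subtype.prod τ₀.toHomUnits).codRestrict Γ fun m => (mΓ _).2 (by
      obtain ⟨j, h, hh, k⟩ := hc m m.2
      change ρ m = π (τ₀ m)
      rw [hτ₀ m j h hh k, k, map_mul, map_mul, map_pow, map_pow, hσ', e, map_add, hπ, add_zero, hσ'])) fun m => rfl
  let τ : G →* A := (Units.coeHom A).comp ((MonoidHom.snd G Aˣ).comp (Γ.subtype.comp τ₁))
  have b1 : ∀ g, π (τ g) = ρ g := fun g => ((mΓ _).1 (τ₁ g).2).symm.trans (congrArg ρ (a1 g))
  have b2 : ∀ m : M, τ m = τ₀ m := fun m => congrArg (fun x : Γ => (x.1.2 : A)) (a2 m)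
  let φ := MonoidAlgebra.lift (ZMod p) A G τ
  let Y₁ := -((σ' z - 1) * (1 - (σ' z - 1) * g) * σ' z) + t • Y
  let x₁ := MonoidAlgebra.of (ZMod p) G z - aeval (MonoidAlgebra.of (ZMod p) G s) f
  have c1 : φ x₁ = t • Y₁ := by
    rw [map_sub, ← aeval_algHom_apply, MonoidAlgebra.lift_of, MonoidAlgebra.lift_of, b2 ⟨z, hz⟩, b2 ⟨s, hH hs⟩,
      hτ₀ _ 1 1 (one_mem H) (by simp), hτ₀ _ 0 s hs (by simp), pow_zero, one_mul, map_one, pow_one, mul_one, e,
      show σ' s = σ (ρ s) from rfl, aeval_algHom_apply, ← hf]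
    exact add_sub_cancel_left _ _
  have c2 : π Y₁ ≠ 0 := by
    have n1 : IsNilpotent (ρ z - 1) :=
      ⟨_, sub_one_pow_char (e := 1) (by rw [pow_one, ← map_pow, hp', map_one])⟩
    have n2 : Commute (ρ z - 1) (π g) := (hσ' z ▸ (cg.map π).symm).sub_left (Commute.one_left _)
    simp only [Y₁, map_add, hπ, add_zero, map_neg, map_mul, map_sub, map_one, hσ', ne_eq, neg_eq_zero]
    rw [(Group.isUnit z |>.map ρ).mul_left_eq_zero, (n2.isNilpotent_mul_right n1).isUnit_one_sub.mul_left_eq_zero,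
      sub_eq_zero]
    exact h1
  have c3 : ∀ j, ∃ x Z, φ x = t ^ (j + 1) • Z ∧ π Z ≠ 0 := fun j => by
    induction j with
    | zero => exact ⟨x₁, Y₁, by rw [c1, zero_add, pow_one], c2⟩
    | succ j ih =>
      obtain ⟨x, Z, k1, k2⟩ := ih
      obtain ⟨g, hg⟩ := exists_mul_ne ρ irr k2 c2
      exact ⟨x * MonoidAlgebra.of _ G g * x₁, Z * τ g * Y₁, by
        rw [map_mul, map_mul, k1, c1, MonoidAlgebra.lift_of, smul_mul_assoc, smul_mul_smul_comm, ← pow_succ],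
        by rwa [map_mul, map_mul, b1]⟩
  let B : ℕ → Submodule (ZMod p) (MonoidAlgebra (ZMod p) G) := fun j =>
    { carrier := {x | ∃ Z, φ x = t ^ j • Z}
      zero_mem' := ⟨0, by simp⟩
      add_mem' := fun ⟨Z, a⟩ ⟨Z', b⟩ => ⟨Z + Z', by rw [map_add, a, b, smul_add]⟩
      smul_mem' := fun c x ⟨Z, a⟩ => ⟨c • Z, by rw [map_smul, a, Algebra.smul_def c, Algebra.smul_def c, mul_smul_comm]⟩ }
  haveI := Fintype.ofFinite G
  have c4 : ∀ j, j + 1 ≤ L → finrank (ZMod p) (B (j + 1)) + j ≤ Nat.card G := fun j => by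
    induction j with
    | zero => exact fun _ => (Submodule.finrank_le _).trans_eq (by
        rw [finrank_eq_card_basis (MonoidAlgebra.basis G _), Nat.card_eq_fintype_card])
    | succ j ih =>
      intro hj'
      obtain ⟨x, Z, k1, k2⟩ := c3 j
      have := Submodule.finrank_lt_finrank_of_lt (s := B (j + 1 + 1)) (t := B (j + 1)) (lt_of_le_of_ne
        (fun x ⟨Z, a⟩ => ⟨t • Z, by rw [a, smul_smul, ← pow_succ]⟩) fun k => by
          obtain ⟨Z', k3⟩ := k.ge (⟨Z, k1⟩ : x ∈ B (j + 1))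
          have := hj (j + 1) hj' (Z - t • Z') (by rw [smul_sub, smul_smul, ← pow_succ, ← k1, k3, sub_self])
          rw [map_sub, hπ, sub_zero] at this
          exact k2 this)
      have := ih (by omega)
      omega
  have := c4 (L - 1) (by omega)
  omega

theorem eqns_rig : True := by
  have := @W.eq_1.{0}
  trivial

end Rig

/-- an irreducible module cannot be deformed -/
theorem deform {p : ℕ} [Fact p.Prime] {G V : Type*} [Group G] [Finite G] [AddCommGroup V] [Module (ZMod p) V] [Finite V]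
    (ρ : G →* End (ZMod p) V) (irr : ∀ U : Submodule (ZMod p) V, (∀ g, ∀ u ∈ U, ρ g u ∈ U) → U = ⊥ ∨ U = ⊤)
    {M H : Subgroup G} (hM : IsStronglyPEmbedded p M) (hH : H ≤ M) {z s : G} (hz : z ∈ M) (hp : z ^ p = 1)
    (h1 : ρ z ≠ 1) (hn : ∀ m ∈ M, m * z * m⁻¹ ∈ zpowers z) (hc : ∀ m ∈ M, ∃ j : ℕ, ∃ h ∈ H, m = z ^ j * h)
    (hd : z ∉ H) (hs : s ∈ H) (f : (ZMod p)[X]) (hf : ρ z = aeval (ρ s) f) : False := by
  classical
  obtain ⟨L, hL⟩ : ∃ L, Nat.card G + 2 = L := ⟨_, rfl⟩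
  let R := AdjoinRoot (X ^ L : (ZMod p)[X])
  haveI : Module.Finite (ZMod p) R := (monic_X_pow L).finite_adjoinRoot
  haveI : Finite R := Module.finite_of_finite (ZMod p)
  let π₀ : R →ₐ[ZMod p] ZMod p := AdjoinRoot.liftAlgHom _ (AlgHom.id _ _) 0 (by simp [← hL])
  have a1 : ∀ q : (ZMod p)[X], π₀ (AdjoinRoot.mk _ q) = 0 ↔ X ∣ q := fun q => by
    rw [AdjoinRoot.liftAlgHom_mk, eval₂_at_zero, X_dvd_iff]
    rfl
  have a2 : ∀ r, π₀ r = 0 ↔ ∃ r', r = AdjoinRoot.root _ * r' := fun r => by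
    induction r using AdjoinRoot.induction_on with
    | ih q => exact ⟨fun k => by
        obtain ⟨q', rfl⟩ := (a1 q).1 k
        exact ⟨AdjoinRoot.mk _ q', by rw [map_mul]; rfl⟩, fun ⟨r', k⟩ => by
        rw [k, map_mul, AdjoinRoot.liftAlgHom_root, zero_mul]⟩
  have a3 : ∀ j < L, ∀ r : R, AdjoinRoot.root _ ^ j * r = 0 → π₀ r = 0 := fun j hj r k => by
    induction r using AdjoinRoot.induction_on with
    | ih q =>
      rw [← AdjoinRoot.mk_X, ← map_pow, ← map_mul, AdjoinRoot.mk_eq_zero] at k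
      exact (a1 q).2 ((mul_dvd_mul_iff_left (pow_ne_zero j X_ne_zero)).1 (by
        rw [← pow_succ]; exact (pow_dvd_pow X hj).trans k))
  let E := LinearMap.toMatrixAlgEquiv (Module.finBasis (ZMod p) V)
  let π : Matrix _ _ R →ₐ[ZMod p] End (ZMod p) V := E.symm.toAlgHom.comp π₀.mapMatrix
  have b1 : ∀ y, π y = 0 ↔ ∀ i j, π₀ (y i j) = 0 := fun y =>
    (map_eq_zero_iff _ E.symm.injective).trans Matrix.ext_iff.symm
  refine Rig.core (R := R) (t := AdjoinRoot.root _) π ((Algebra.ofId (ZMod p) R).mapMatrix.comp E.toAlgHom) (fun x => ?_)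
    (fun y => ?_) ?_ (fun j hj y k => (b1 y).2 fun a b => a3 j hj _ (congrFun₂ k a b)) ?_ hL ρ irr hM hH hz hp h1 hn hc
    hd hs f hf
  · refine E.symm_apply_eq.2 (Matrix.ext fun i j => ?_)
    exact π₀.commutes _
  · rw [b1]
    refine ⟨fun k => ?_, fun ⟨y', k⟩ i j => (a2 _).2 ⟨y' i j, congrFun₂ k i j⟩⟩
    choose y' hy' using fun i j => (a2 _).1 (k i j)
    exact ⟨Matrix.of y', Matrix.ext hy'⟩
  · rw [← AdjoinRoot.mk_X, ← map_pow, AdjoinRoot.mk_self]
  · rw [← map_natCast (algebraMap (ZMod p) R), ZMod.natCast_self, map_zero]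

end H90.MX
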