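import Mathlib
import Cfsg.Agent.Base
import Cfsg.Agent.Lib.MX.Rig

set_option autoImplicit false
set_option linter.unusedSectionVars false

namespace H90.MX

open Module Polynomial Cfsg Subgroup

universe v

namespace CA

section Lin

variable {k : Type*} [Field k] {V W : Type*} [AddCommGroup V] [Module k V] [AddCommGroup W] [Module k W]

theorem semi (φ : W →ₗ[k] V) {A : End k W} {B : End k V} (h : ∀ w, φ (A w) = B (φ w)) (f : k[X]) (w : W) :
    φ (aeval A f w) = aeval B f (φ w) := by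
  induction f using Polynomial.induction_on generalizing w with
  | C a => simp
  | add f g hf hg => simp [hf, hg]
  | monomial n a ih => rw [pow_succ, ← mul_assoc, map_mul, map_mul (aeval B), aeval_X, aeval_X, End.mul_apply,
      End.mul_apply, ← h, ih]

/-- `A = 1 + cN + N²(..)` -/
def P (N A : End k V) (c : k) : Prop := ∃ u : k[X], A = 1 + aeval N (X * u) ∧ u.coeff 0 = c

variable {N A B : End k V} {c d : k}

theorem P.mul (h : P N A c) (h' : P N B d) : P N (A * B) (c + d) := by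
  obtain ⟨u, rfl, rfl⟩ := h
  obtain ⟨w, rfl, rfl⟩ := h'
  refine ⟨u + w + X * (u * w), ?_, by simp⟩
  rw [← map_one (aeval (R := k) N), ← map_add, ← map_add, ← map_mul, ← map_add]
  congr 1
  ring

theorem P.pow (h : P N A c) (n : ℕ) : P N (A ^ n) (n * c) := by
  induction n with
  | zero => exact ⟨0, by simp, by simp⟩
  | succ n ih => rw [pow_succ, Nat.cast_succ, add_mul, one_mul]; exact ih.mul h

theorem P.commute (h : P N A c) (h' : P N B d) : Commute A B := by
  obtain ⟨u, rfl, -⟩ := h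
  obtain ⟨w, rfl, -⟩ := h'
  rw [← map_one (aeval (R := k) N), ← map_add, ← map_add]
  exact commute_aeval _ _ _

theorem P.reg [Module.Finite k V] (h : P N A c) (hN : Reg N) (hc : c ≠ 0) : Reg (A - 1) := by
  obtain ⟨u, rfl, rfl⟩ := h
  rw [add_sub_cancel_left]
  exact hN.mul_unit hc

theorem P_self (A : End k V) : P (A - 1) A 1 := ⟨1, by simp, by simp⟩

end Lin

variable {p : ℕ} [hp : Fact p.Prime] {G : Type*} [Group G] [Finite G] {V : Type v} [AddCommGroup V] [Module (ZMod p) V]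
  [Finite V]

theorem reg_conj (ρ : G →* End (ZMod p) V) {t : G} (h : Reg (ρ t - 1)) (g : G) : Reg (ρ (g * t * g⁻¹) - 1) := by
  have e : ∀ g : G, ρ g * ρ g⁻¹ = 1 := fun g => by rw [← map_mul, mul_inv_cancel, map_one]
  have := h.conj (e g) (by simpa using e g⁻¹)
  rwa [mul_sub, sub_mul, mul_one, e, ← map_mul, ← map_mul] at this

theorem irr_inj (ρ : G →* End (ZMod p) V) (inj : Function.Injective ρ)
    (irr : ∀ U : Submodule (ZMod p) V, (∀ g, ∀ u ∈ U, ρ g u ∈ U) → U = ⊥ ∨ U = ⊤) (T : Sylow p G)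
    (hT : Nat.card T ∣ p ^ 2) {s z : G} (hs : s ∈ T) (hz : z ∈ T) (sp : s ^ p = 1) (hr : Reg (ρ s - 1))
    (f : (ZMod p)[X]) (hf : ρ z = 1 + aeval (ρ s - 1) (X ^ 2 * f)) : ρ z = 1 := by
  by_contra h1
  have p2 := hp.out.two_le
  haveI : Nontrivial (End (ZMod p) V) := ⟨_, _, h1⟩
  have z1 : z ≠ 1 := fun e => h1 (by rw [e, map_one])
  have Np : (ρ s - 1) ^ p = 0 := by
    simpa using sub_one_pow_char (p := p) (A := ρ s) (e := 1) (by rw [pow_one, ← map_pow, sp, map_one])
  have zp : z ^ p = 1 := inj (by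
    rw [map_pow, map_one]
    refine (congrArg _ (pow_one p).symm).trans (pow_char_of_nil ?_)
    rw [hf, add_sub_cancel_left, pow_one, ← map_pow, mul_pow, ← pow_mul, mul_comm 2, pow_mul, map_mul, map_pow,
      map_pow, aeval_X, Np, zero_pow two_ne_zero, zero_mul])
  have oz : Nat.card (zpowers z) = p := by rw [Nat.card_zpowers, orderOf_eq_prime zp z1]
  have d3 : ¬ finrank (ZMod p) V ≤ 2 := fun c => h1 (by
    rw [hf, map_mul, map_pow, aeval_X, hr.pow_eq_zero_iff.2 c, zero_mul, add_zero])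
  have fx : ∀ x ∈ zpowers z, LinearMap.ker (ρ z - 1) ≤ LinearMap.ker (ρ x - 1) := fun x hx v hv => by
    obtain ⟨j, rfl⟩ := (mem_powers_iff_mem_zpowers).2 hx
    rw [LinearMap.mem_ker, LinearMap.sub_apply, sub_eq_zero, End.one_apply] at hv ⊢
    show ρ (z ^ j) v = v
    rw [map_pow, End.pow_apply]
    exact Function.iterate_fixed hv j
  have k2 : 2 ≤ finrank (ZMod p) (LinearMap.ker (ρ z - 1)) := by
    have a := ((ρ s - 1) ^ 2).finrank_range_add_finrank_ker
    rw [hr.finrank_range_pow] at a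
    have b : LinearMap.ker ((ρ s - 1) ^ 2) ≤ LinearMap.ker (ρ z - 1) := fun v hv => by
      rw [LinearMap.mem_ker] at hv ⊢
      rw [hf, add_sub_cancel_left, mul_comm, map_mul, map_pow, aeval_X, End.mul_apply, hv, map_zero]
    have := Submodule.finrank_mono b
    omega
  have nr : ∀ x ∈ zpowers z, ¬ Reg (ρ x - 1) := fun x hx c => by
    have := Submodule.finrank_mono (fx x hx)
    have := c.2
    omega
  have Pz : P (ρ s - 1) (ρ z) 0 := ⟨X * f, by rw [hf, pow_two, mul_assoc], by simp⟩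
  have sz : Commute s z := inj (by rw [map_mul, map_mul]; exact (P_self (ρ s)).commute Pz)
  let M := normalizer (zpowers z : Set G)
  have cM : ∀ x, Commute x z → x ∈ M := fun x hx => centralizer_le_normalizer _ (by
    rintro _ ⟨j, rfl⟩; exact (hx.zpow_right j).eq.symm)
  have sM : zpowers s ≤ M := zpowers_le.2 (cM s sz)
  have eT : zpowers s ⊔ zpowers z = T := by
    have l : zpowers s ⊔ zpowers z ≤ T := sup_le (zpowers_le.2 hs) (zpowers_le.2 hz)
    obtain ⟨i, hi, e⟩ := (Nat.dvd_prime_pow hp.out).1 ((card_dvd_of_le l).trans hT)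
    refine eq_of_le_of_card_ge l ((Nat.le_of_dvd (by positivity) hT).trans (e ▸ Nat.pow_le_pow_right hp.out.pos ?_))
    by_contra c
    have : zpowers z = zpowers s ⊔ zpowers z := eq_of_le_of_card_ge le_sup_right (by
      rw [e, oz]; exact (Nat.pow_le_pow_right hp.out.pos (show i ≤ 1 by omega)).trans_eq (pow_one p))
    exact nr s (this.ge (mem_sup_left (mem_zpowers s))) hr
  have PT : ∀ t ∈ T, ∃ c, P (ρ s - 1) (ρ t) c ∧ (c = 0 → t ∈ zpowers z) := fun t ht => by
    have : t ∈ ((zpowers s ⊔ zpowers z : Subgroup G) : Set G) := eT.ge ht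
    rw [coe_mul_of_left_le_normalizer_right _ _ sM] at this
    obtain ⟨x, hx, y, hy, rfl⟩ := this
    obtain ⟨a, rfl⟩ := (mem_powers_iff_mem_zpowers).2 hx
    obtain ⟨b, rfl⟩ := (mem_powers_iff_mem_zpowers).2 hy
    refine ⟨_, by simpa only [map_mul, map_pow] using ((P_self (ρ s)).pow a).mul (Pz.pow b), fun c => ?_⟩
    obtain ⟨e, rfl⟩ : p ∣ a := (ZMod.natCast_eq_zero_iff a p).1 (by simpa using c)
    simpa only [pow_mul, sp, one_pow, one_mul] using pow_mem (mem_zpowers z) b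
  have rT : ∀ t ∈ T, t ∉ zpowers z → Reg (ρ t - 1) := fun t ht ht' => by
    obtain ⟨c, h, h'⟩ := PT t ht
    exact h.reg hr fun e => ht' (h' e)
  have cT : ∀ t ∈ T, ∀ t' ∈ T, Commute (ρ t) (ρ t') := fun t ht t' ht' => by
    obtain ⟨c, h, -⟩ := PT t ht
    obtain ⟨c', h', -⟩ := PT t' ht'
    exact h.commute h'
  have TM : (T : Subgroup G) ≤ M := eT ▸ sup_le sM le_normalizer
  have hn : ∀ m ∈ M, m * z * m⁻¹ ∈ zpowers z := fun m hm => (hm z).1 (mem_zpowers z)
  have hM : IsStronglyPEmbedded p M := by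
    refine H68.spe_iff_sylow.2 ⟨oz ▸ card_subgroup_dvd_card _, fun e => ?_, T, fun Q hQ hQ1 g hg => ?_⟩
    · rcases irr (LinearMap.ker (ρ z - 1)) (fun g u hu => by
        have := fx _ (hn g⁻¹ (e.ge (mem_top _))) hu
        rw [LinearMap.mem_ker, LinearMap.sub_apply, sub_eq_zero, End.one_apply] at this ⊢
        rw [← End.mul_apply, ← map_mul, show z * g = g * (g⁻¹ * z * g⁻¹⁻¹) by group, map_mul, End.mul_apply,
          this]) with c | c
      · rw [c, finrank_bot] at k2; omega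
      · exact h1 (sub_eq_zero.1 (LinearMap.ker_eq_top.1 c))
    by_cases c : Q ≤ zpowers z
    · have : Q = zpowers z := eq_of_le_of_card_ge c (by
        rcases (Nat.dvd_prime hp.out).1 (oz ▸ card_dvd_of_le c) with e | e
        · exact absurd (card_eq_one.1 e) hQ1
        · rw [e, oz])
      subst this; exact hg
    obtain ⟨t, ht, ht'⟩ := SetLike.not_le_iff_exists.1 c
    have t1 : g * t * g⁻¹ ∈ T := hQ ((hg t).1 ht)
    have r1 := reg_conj ρ (rT t (hQ ht) ht') g
    have wT : g * z * g⁻¹ ∈ T := by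
      have a : g * z * g⁻¹ ∈ normalizer (T : Set G) := centralizer_le_normalizer _ fun x hx => inj (by
        rw [map_mul, map_mul ρ _ x]
        refine r1.commute_of_commute ((cT x hx _ t1).sub_right (Commute.one_right _))
          (Commute.sub_right ?_ (Commute.one_right _))
        have := inj ((map_mul ρ _ _).trans ((cT z hz t (hQ ht)).eq.trans (map_mul ρ _ _).symm))
        refine Commute.map (show _ * _ = _ * _ from ?_) ρ
        calc g * z * g⁻¹ * (g * t * g⁻¹) = g * (z * t) * g⁻¹ := by group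
          _ = _ := by rw [this]; group)
      have b : IsPGroup p (zpowers (g * z * g⁻¹)) := IsPGroup.of_card (n := 1) (by
        rw [Nat.card_zpowers, pow_one]
        exact orderOf_eq_prime (by rw [conj_pow, zp]; simp) (by simpa using z1))
      exact ((b.inf_normalizer_sylow T).le ⟨mem_zpowers _, a⟩).2
    have wz : g * z * g⁻¹ ∈ zpowers z := by
      by_contra c
      have := reg_conj ρ (rT _ wT c) g⁻¹
      exact nr z (mem_zpowers z) (by simpa [mul_assoc] using this)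
    refine mem_normalizer_fintype ?_
    rintro _ ⟨j, rfl⟩
    simpa using zpow_mem wz j
  obtain ⟨H, hH⟩ := H3.gaschuetz_exists ((zpowers z).subgroupOf M) ((T : Subgroup G).subgroupOf M)
    (subgroupOf_mono _ (zpowers_le.2 hz)) (by
      rw [Nat.card_congr (subgroupOfEquivOfLe le_normalizer).toEquiv, oz]
      exact hp.out.coprime_iff_not_dvd.2 fun c => T.not_dvd_index (c.trans (Dvd.intro _ (relIndex_mul_index TM))))
    ((zpowers s).subgroupOf M) (by
      refine eq_bot_iff.2 fun x ⟨hx, hx'⟩ => ?_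
      obtain ⟨a, ha⟩ := (mem_powers_iff_mem_zpowers).2 (mem_subgroupOf.1 hx)
      have ha : s ^ a = x := ha
      have := mt (((P_self (ρ s)).pow a).reg hr) (by rw [← map_pow, ha]; exact nr _ hx')
      obtain ⟨e, rfl⟩ : p ∣ a := (ZMod.natCast_eq_zero_iff a p).1 (by simpa using this)
      exact Subtype.ext (by rw [← ha, pow_mul, sp, one_pow]; rfl))
    (by rw [← eT, subgroupOf_sup sM le_normalizer, sup_comm])
  have hc : ∀ m ∈ M, ∃ j : ℕ, ∃ h ∈ H.map M.subtype, m = z ^ j * h := fun m hm => by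
    obtain ⟨⟨x, y⟩, e⟩ := hH.2 ⟨m, hm⟩
    obtain ⟨j, hj⟩ := (mem_powers_iff_mem_zpowers).2 (mem_subgroupOf.1 x.2)
    have hj : z ^ j = _ := hj
    exact ⟨j, _, mem_map_of_mem _ y.2, by rw [hj]; exact (congrArg Subtype.val e).symm⟩
  obtain ⟨j, h, hh, e⟩ := hc s (TM hs)
  have hT' : h ∈ T := (mul_mem_cancel_left (pow_mem hz j)).1 (e ▸ hs)
  obtain ⟨f', hf'⟩ := (rT h hT' fun c => nr s (e ▸ mul_mem (pow_mem (mem_zpowers z) j) c) hr).exists_aeval
    ((cT z hz h hT').sub_right (Commute.one_right _))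
  refine deform ρ irr hM (map_subtype_le H) (TM hz) zp h1 hn hc ?_ hh (f'.comp (X - 1)) (by simpa [aeval_comp] using hf')
  rintro ⟨x, hx, e⟩
  exact z1 (e.symm.trans (congrArg Subtype.val (hH.disjoint.le_bot ⟨show (x : G) ∈ zpowers z from e ▸ mem_zpowers z, hx⟩)))

end CA

open CA

variable {p : ℕ} [Fact p.Prime] {G : Type*} [Group G] [Finite G] {V : Type v} [AddCommGroup V] [Module (ZMod p) V] [Finite V]

/-- irreducible case -/
theorem ab_irr (ρ : G →* End (ZMod p) V)
    (irr : ∀ U : Submodule (ZMod p) V, (∀ g, ∀ u ∈ U, ρ g u ∈ U) → U = ⊥ ∨ U = ⊤) (T : Sylow p G)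
    (hT : Nat.card T = p ^ 2) {s z : G} (hs : s ∈ T) (hz : z ∈ T) (hp : s ^ p = 1) (hr : Reg (ρ s - 1))
    (f : (ZMod p)[X]) (hf : ρ z = 1 + aeval (ρ s - 1) (X ^ 2 * f)) : ρ z = 1 := by
  refine irr_inj (QuotientGroup.lift ρ.ker ρ le_rfl) ((injective_iff_map_eq_one _).2 fun x hx => ?_)
    (fun U hU => irr U fun g => hU (g : G ⧸ ρ.ker)) (T.mapSurjective (QuotientGroup.mk'_surjective ρ.ker))
    (hT ▸ card_map_dvd _ _) (s := s) (z := z) (mem_map_of_mem _ hs) (mem_map_of_mem _ hz)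
    (by rw [← QuotientGroup.mk_pow, hp, QuotientGroup.mk_one]) hr f hf
  obtain ⟨x, rfl⟩ := QuotientGroup.mk_surjective x
  exact (QuotientGroup.eq_one_iff x).2 hx

theorem CA.nil (T : Sylow p G) (hT : Nat.card T = p ^ 2) {s z : G} (hs : s ∈ T) (hz : z ∈ T) (hp : s ^ p = 1)
    (f : (ZMod p)[X]) (n : ℕ) : ∀ (V : Type v) [AddCommGroup V] [Module (ZMod p) V] [Finite V]
    (ρ : G →* End (ZMod p) V), finrank (ZMod p) V < n → Reg (ρ s - 1) →
    ρ z = 1 + aeval (ρ s - 1) (X ^ 2 * f) → ∀ g ∈ normalClosure {z}, IsNilpotent (ρ g - 1) := by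
  induction n with
  | zero => intro V _ _ _ ρ h; omega
  | succ n ih =>
  intro V _ _ _ ρ hn hr hf g hg
  by_cases irr : ∀ U : Submodule (ZMod p) V, (∀ g, ∀ u ∈ U, ρ g u ∈ U) → U = ⊥ ∨ U = ⊤
  · have : ρ g = 1 := normalClosure_le_normal (N := ρ.ker)
      (by rintro _ rfl; exact ab_irr ρ irr T hT hs hz hp hr f hf) hg
    rw [this, sub_self]; exact IsNilpotent.zero
  push Not at irr
  obtain ⟨U, hU, h0, h1⟩ := irr
  have hU' : ∀ g, ∀ u ∈ U, (ρ g - 1) u ∈ U := fun g u hu => sub_mem (hU g u hu) hu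
  let ρ₁ : G →* End (ZMod p) U := Representation.subrepresentation ρ U hU
  let ρ₂ : G →* End (ZMod p) (V ⧸ U) := Representation.quotient ρ U hU
  have e1 : ∀ g, ρ₁ g - 1 = (ρ g - 1).restrict (hU' g) := fun g => LinearMap.ext fun _ => rfl
  have e2 : ∀ g, ρ₂ g - 1 = U.mapQ U (ρ g - 1) (hU' g) := fun g => Submodule.linearMap_qext _ (LinearMap.ext fun _ => rfl)
  have q := U.finrank_quotient_add_finrank
  have q1 := Submodule.finrank_lt h1
  have q2 : finrank (ZMod p) U ≠ 0 := fun c => h0 (Submodule.finrank_eq_zero.1 c)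
  haveI : Finite (V ⧸ U) := Finite.of_surjective _ U.mkQ_surjective
  obtain ⟨a, ha⟩ := ih U ρ₁ (by omega) (e1 s ▸ hr.restrict _) (LinearMap.ext fun u => Subtype.ext (by
    have := semi U.subtype (A := ρ₁ s - 1) (B := ρ s - 1) (fun _ => rfl) (X ^ 2 * f) u
    exact (LinearMap.congr_fun hf u).trans (congrArg ((u : V) + ·) this.symm))) g hg
  obtain ⟨b, hb⟩ := ih (V ⧸ U) ρ₂ (by omega) (e2 s ▸ hr.mapQ _) (Submodule.linearMap_qext _ (LinearMap.ext fun u => by
    have := semi U.mkQ (A := ρ s - 1) (B := ρ₂ s - 1) (fun _ => rfl) (X ^ 2 * f) u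
    exact (congrArg U.mkQ (LinearMap.congr_fun hf u)).trans (congrArg (U.mkQ u + ·) this))) g hg
  refine ⟨a + b, LinearMap.ext fun v => ?_⟩
  have m : ((ρ g - 1) ^ b) v ∈ U := by
    have := semi U.mkQ (A := ρ g - 1) (B := ρ₂ g - 1) (fun _ => rfl) (X ^ b) v
    rw [map_pow, map_pow, aeval_X, aeval_X, hb] at this
    exact (Submodule.Quotient.mk_eq_zero U).1 this
  have := semi U.subtype (A := ρ₁ g - 1) (B := ρ g - 1) (fun _ => rfl) (X ^ a) ⟨_, m⟩
  rw [map_pow, map_pow, aeval_X, aeval_X, ha] at this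
  rw [pow_add]
  exact this.symm

/-- a Sylow subgroup of order `p ^ 2` does not contain a regular unipotent element -/
theorem core_ab (ρ : G →* End (ZMod p) V) (inj : Function.Injective ρ) (T : Sylow p G) (hT : Nat.card T = p ^ 2)
    {s : G} (hs : s ∈ T) (hp : s ^ p = 1) (hr : Reg (ρ s - 1))
    (hO : ∀ N : Subgroup G, N.Normal → IsPGroup p N → N = ⊥) : False := by
  have pp : p.Prime := Fact.out
  obtain ⟨t, ht, ht'⟩ : ∃ t ∈ T, t ∉ zpowers s := SetLike.not_le_iff_exists.1 fun c => by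
    have a := card_le_of_le (H := (T : Subgroup G)) (K := zpowers s) c
    rw [hT, Nat.card_zpowers] at a
    have := Nat.le_of_dvd pp.pos (orderOf_dvd_of_pow_eq_one hp)
    have := pp.two_le
    nlinarith
  haveI : Nontrivial (End (ZMod p) V) := ⟨_, _, inj.ne (show t ≠ 1 from fun e => ht' (e ▸ one_mem _))⟩
  have ts : Commute t s := congrArg Subtype.val (IsPGroup.commutative_of_card_eq_prime_sq hT ⟨t, ht⟩ ⟨s, hs⟩)
  obtain ⟨f, hf⟩ := hr.exists_aeval ((ts.map ρ).sub_right (Commute.one_right _))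
  obtain ⟨u, hu⟩ : X ∣ f - 1 := X_dvd_iff.2 (by
    by_contra c
    obtain ⟨e, he⟩ := T.isPGroup' ⟨t, ht⟩
    refine IsNilpotent.not_isUnit ⟨p ^ e, ?_⟩ (isUnit_aeval hr.1 c)
    rw [map_sub, map_one, ← hf]
    exact sub_one_pow_char (by rw [← map_pow, show t ^ p ^ e = 1 from congrArg Subtype.val he, map_one]))
  have Pt : P (ρ s - 1) (ρ t) (u.coeff 0) := ⟨u, by rw [← hu, hf]; simp, rfl⟩
  obtain ⟨w, hw, w0⟩ := Pt.mul ((P_self (ρ s)).pow (-u.coeff 0).val)
  obtain ⟨f', rfl⟩ : X ∣ w := X_dvd_iff.2 (by simpa using w0)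
  rw [← map_pow, ← map_mul, ← mul_assoc, ← pow_two] at hw
  have := hO _ normalClosure_normal fun g => by
    obtain ⟨n, hn⟩ := CA.nil T hT hs (mul_mem ht (pow_mem hs _)) hp f' _ V ρ (Nat.lt_succ_self _) hr hw g.1 g.2
    exact ⟨n, Subtype.ext (inj ((map_pow ρ _ _).trans ((pow_char_of_nil
      (pow_eq_zero_of_le (Nat.lt_pow_self pp.one_lt).le hn)).trans (map_one ρ).symm)))⟩
  have e : t * s ^ (-u.coeff 0).val = 1 := mem_bot.1 (this.le (subset_normalClosure rfl))
  exact ht' (eq_inv_of_mul_eq_one_left e ▸ inv_mem (pow_mem (mem_zpowers s) _))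

end H90.MX
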