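import Mathlib
import Cfsg.Agent.Base
import Cfsg.Agent.Lib.MX.Q2

set_option autoImplicit false
set_option linter.unusedSectionVars false

namespace H90.MX

open Module LinearMap Polynomial Cfsg Subgroup
open scoped commutatorElement

namespace CN

section Lin

variable {k : Type*} [Field k] {V : Type*} [AddCommGroup V] [Module k V]

theorem conj_aeval {A B : End k V} (h1 : A * B = 1) (h2 : B * A = 1) (N : End k V) (f : k[X]) :
    A * aeval N f * B = aeval (A * N * B) f := by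
  refine Polynomial.induction_on' f (fun a b ha hb => by rw [map_add, map_add, mul_add, add_mul, ha, hb])
    fun n a => ?_
  have := Units.conj_pow (⟨A, B, h1, h2⟩ : (End k V)ˣ) N n
  simp only [Units.inv_mk] at this
  rw [aeval_monomial, aeval_monomial, this, ← Algebra.smul_def, ← Algebra.smul_def, mul_smul_comm,
    smul_mul_assoc]

theorem comp_sub (m : ℕ) (u : k[X]) : ∃ v : k[X], v.coeff 0 = ((m + 1 : ℕ) : k) * u.coeff 0 ^ 2 ∧
    (X ^ (m + 1) * u).comp (X + X ^ (m + 1) * u * (1 + X)) = X ^ (m + 1) * u + X ^ (2 * m + 1) * v := by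
  obtain ⟨κ, e⟩ := binomExpansion ((X ^ (m + 1) * u).map C) X (X ^ (m + 1) * u * (1 + X))
  refine ⟨(C ((m + 1 : ℕ) : k) * u + X * derivative u) * u * (1 + X) + X * (κ * u ^ 2 * (1 + X) ^ 2), ?_, ?_⟩
  · simp only [coeff_zero_eq_eval_zero, eval_add, eval_mul, eval_C, eval_X, eval_one]
    ring
  · rw [derivative_map, eval_map, eval_map, eval_map, eval₂_C_X, eval₂_C_X, derivative_mul,
      derivative_X_pow] at e
    rw [Polynomial.comp, e, Nat.add_sub_cancel]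
    ring

/-- `g` acts as the scalar `ε` on the section `A / B` -/
def Sc (A B : Submodule k V) (ε : k) (g : End k V) : Prop := ∀ v ∈ A, g v - ε • v ∈ B

variable {A B : Submodule k V} {ε ε' : k} {g g' : End k V}

theorem Sc.mul (h : Sc A B ε g) (h' : Sc A B ε' g') (hB : ∀ v ∈ B, g v ∈ B) : Sc A B (ε * ε') (g * g') :=
  fun v hv => by
    have := B.add_mem (hB _ (h' v hv)) (B.smul_mem ε' (h v hv))
    rw [map_sub, map_smul, smul_sub, smul_smul, sub_add_sub_cancel, mul_comm ε'] at this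
    exact this

theorem Sc.conj (h : Sc A B ε g) {a b : End k V} (e : a * b = 1) (hA : ∀ v ∈ A, b v ∈ A)
    (hB : ∀ v ∈ B, a v ∈ B) : Sc A B ε (a * g * b) := fun v hv => by
  have := hB _ (h _ (hA v hv))
  rwa [map_sub, map_smul, ← End.mul_apply a b, e, End.one_apply] at this

theorem Sc.map (h : Sc A B ε g) (l : B ≤ A) : ∀ v ∈ A, g v ∈ A := fun v hv => by
  simpa using A.add_mem (l (h v hv)) (A.smul_mem ε hv)

theorem Sc.one (h : Sc A B 1 g) {v : V} (hv : v ∈ A) : (g - 1) v ∈ B := by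
  simpa using h v hv

end Lin

variable {k : Type*} [Field k] {G : Type*} [Group G] {V : Type*} [AddCommGroup V] [Module k V]
  {ρ : G →* End k V}

theorem rmul_inv (g : G) : ρ g * ρ g⁻¹ = 1 := by rw [← map_mul, mul_inv_cancel, map_one]

theorem rinv_mul (g : G) : ρ g⁻¹ * ρ g = 1 := by rw [← map_mul, inv_mul_cancel, map_one]

/-- the stabilizer of the chain `V ≥ C ≥ U ≥ 0` -/
def Q (ρ : G →* End k V) {C U : Submodule k V} (l : U ≤ C) : Subgroup G where
  carrier := {y | Sc ⊤ C 1 (ρ y) ∧ Sc C U 1 (ρ y) ∧ Sc U ⊥ 1 (ρ y)}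
  one_mem' := ⟨fun v _ => by simp, fun v _ => by simp, fun v _ => by simp⟩
  mul_mem' := fun {a b} ha hb => by
    refine ⟨?_, ?_, ?_⟩ <;> rw [map_mul, ← mul_one (1 : k)]
    · exact ha.1.mul hb.1 (ha.2.1.map l)
    · exact ha.2.1.mul hb.2.1 (ha.2.2.map bot_le)
    · exact ha.2.2.mul hb.2.2 (by simp)
  inv_mem' := fun {a} ha => by
    have e : ∀ v, ρ a (ρ a⁻¹ v) = v := fun v => by rw [← End.mul_apply, rmul_inv, End.one_apply]
    have e' : ∀ v, ρ a⁻¹ (ρ a v) = v := fun v => by rw [← End.mul_apply, rinv_mul, End.one_apply]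
    have h1 : ∀ v, ρ a⁻¹ v - v ∈ C := fun v => by
      have := C.neg_mem (ha.1 (ρ a⁻¹ v) trivial)
      rwa [e, one_smul, neg_sub] at this
    refine ⟨fun v _ => by simpa using h1 v, fun v hv => ?_, fun v hv => ?_⟩
    · have := U.neg_mem (ha.2.1 (ρ a⁻¹ v) (by simpa using C.add_mem (h1 v) hv))
      rw [e, one_smul, neg_sub] at this
      rwa [one_smul]
    · have := ha.2.2 v hv
      rw [one_smul, Submodule.mem_bot, sub_eq_zero] at this ⊢
      rw [← this, e', this]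

theorem step' {T : Subgroup G} {s : G} {p : ℕ} (h : Uni ρ T s p) {t : G} (ht : t ∈ T) (j : ℕ) :
    ∀ v ∈ range ((ρ s - 1) ^ j), ρ t v ∈ range ((ρ s - 1) ^ j) := fun v hv => by
  simpa using add_mem (range_pow_anti _ j.le_succ (h.step t ht j v hv)) hv

end CN

open CN

variable {p : ℕ} [Fact p.Prime] {G : Type*} [Group G] [Finite G] {V : Type*} [AddCommGroup V] [Module (ZMod p) V] [Finite V]
  {ρ : G →* End (ZMod p) V}

/-- a central commutator with a regular element acts quadratically -/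
theorem quad {s x : G} (hp : s ^ p = 1) (hr : Reg (ρ s - 1)) (h1 : ρ ⁅x, s⁆ ≠ 1) (hn : IsNilpotent (ρ ⁅x, s⁆ - 1))
    (cs : Commute ⁅x, s⁆ s) (cx : Commute ⁅x, s⁆ x) :
    ∃ m j, m + j = finrank (ZMod p) V ∧ 1 ≤ j ∧ j < m ∧ range (ρ ⁅x, s⁆ - 1) = range ((ρ s - 1) ^ m) ∧
      ker (ρ ⁅x, s⁆ - 1) = range ((ρ s - 1) ^ j) := by
  have hd : finrank (ZMod p) V ≤ p := hr.pow_eq_zero_iff.1
    (by simpa using sub_one_pow_char (e := 1) (by rw [pow_one, ← map_pow, hp, map_one]))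
  obtain ⟨f, hf⟩ := hr.exists_aeval (Y := ρ ⁅x, s⁆ - 1)
    (((cs.map ρ).sub_left (Commute.one_left _)).sub_right (Commute.one_right _))
  have n0 : ρ ⁅x, s⁆ - 1 ≠ 0 := sub_ne_zero.2 h1
  obtain ⟨m, u, rfl, hu⟩ := exists_X_pow_mul (f := f) fun e => n0 (by rw [hf, e, map_zero])
  have hm : m < finrank (ZMod p) V := lt_of_not_ge fun c => n0 (by
    rw [hf, map_mul, map_pow, aeval_X, hr.pow_eq_zero_iff.2 c, zero_mul])
  rcases m with _ | m
  · rw [pow_zero, one_mul] at hf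
    haveI : Nontrivial V := finrank_pos_iff.1 hm
    exact (hn.not_isUnit (hf ▸ isUnit_aeval hr.1 hu)).elim
  obtain ⟨v, v0, e⟩ := comp_sub m u
  have e1 : ρ x * (ρ s - 1) * ρ x⁻¹ = aeval (ρ s - 1) (X + X ^ (m + 1) * u * (1 + X)) := by
    rw [map_add, map_mul (aeval _), ← hf, map_add, map_one, aeval_X, mul_sub, sub_mul, mul_one, rmul_inv,
      ← map_mul, ← map_mul, show x * s * x⁻¹ = ⁅x, s⁆ * s by simp [commutatorElement_def], map_mul]
    noncomm_ring
  have e2 : ρ x * (ρ ⁅x, s⁆ - 1) * ρ x⁻¹ = ρ ⁅x, s⁆ - 1 := by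
    rw [mul_sub, sub_mul, mul_one, rmul_inv, ← (cx.map ρ).eq, mul_assoc, rmul_inv, mul_one]
  rw [hf, conj_aeval (rmul_inv x) (rinv_mul x), e1, ← aeval_comp, e, map_add, add_eq_left] at e2
  have v1 : v.coeff 0 ≠ 0 := by
    rw [v0]
    refine mul_ne_zero (fun c => ?_) (pow_ne_zero _ hu)
    have := Nat.le_of_dvd m.succ_pos ((ZMod.natCast_eq_zero_iff _ _).1 c)
    omega
  have e3 := range_aeval hr.1 v1 (2 * m + 1)
  rw [e2, range_zero, eq_comm, range_eq_bot, hr.pow_eq_zero_iff] at e3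
  refine ⟨m + 1, finrank (ZMod p) V - (m + 1), by omega, by omega, by omega, ?_, ?_⟩
  · rw [hf, range_aeval hr.1 hu]
  · rw [hf, ker_aeval hr.1 hu]
    exact hr.ker_pow (by omega)

theorem CN.five_le {d : ℕ} (h4 : 4 ≤ d) (h : d ≤ p) : 5 ≤ p := by
  have hp : p.Prime := Fact.out
  by_contra c
  obtain rfl : p = 4 := by omega
  exact absurd hp (by decide)

theorem CN.pow_p {A : End (ZMod p) V} {m : ℕ} (hm : m ≤ p) (h : (A - 1) ^ m = 0) : A ^ p = 1 := by
  simpa using pow_char_of_nil (p := p) (e := 1) (pow_eq_zero_of_le (by simpa using hm) h)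

theorem no_inv (inj : Function.Injective ρ) (T : Sylow p G) {s : G} (h : Uni ρ T s p) (h4 : 4 ≤ finrank (ZMod p) V)
    {z : G} {m j : ℕ} (e : m + j = finrank (ZMod p) V) (h1 : 1 ≤ j) (h2 : j < m)
    (hU : range (ρ z - 1) = range ((ρ s - 1) ^ m)) (hC : ker (ρ z - 1) = range ((ρ s - 1) ^ j)) {t : G} (t2 : t ^ 2 = 1)
    (tz : Commute t z) (tU : ρ t * (ρ z - 1) = -(ρ z - 1)) (tC : ∀ v, (ρ z - 1) v = 0 → ρ t v - v ∈ range (ρ z - 1)) :
    False := by
  have h5 := five_le h4 h.le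
  have l : range ((ρ s - 1) ^ m) ≤ range ((ρ s - 1) ^ j) := range_pow_anti _ h2.le
  have c0 : Commute (ρ t) (ρ z - 1) := (tz.map ρ).sub_right (Commute.one_right _)
  have a1 : Sc ⊤ (range ((ρ s - 1) ^ j)) (-1) (ρ t) := fun v _ => by
    rw [← hC, mem_ker, map_sub, map_smul, ← End.mul_apply, ← c0.eq, tU]
    simp
  have a2 : Sc (range ((ρ s - 1) ^ j)) (range ((ρ s - 1) ^ m)) 1 (ρ t) := fun v hv => by
    rw [one_smul, ← hU]
    exact tC v (mem_ker.1 (hC ▸ hv))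
  have a3 : Sc (range ((ρ s - 1) ^ m)) ⊥ (-1) (ρ t) := by
    rw [← hU]
    rintro _ ⟨v, rfl⟩
    rw [← End.mul_apply, tU]
    simp
  have cj : ∀ g ∈ (T : Subgroup G), ∀ (y : G) (a b c : ZMod p), Sc ⊤ (range ((ρ s - 1) ^ j)) a (ρ y) →
      Sc (range ((ρ s - 1) ^ j)) (range ((ρ s - 1) ^ m)) b (ρ y) → Sc (range ((ρ s - 1) ^ m)) ⊥ c (ρ y) →
      Sc ⊤ (range ((ρ s - 1) ^ j)) a (ρ (g * y * g⁻¹)) ∧
      Sc (range ((ρ s - 1) ^ j)) (range ((ρ s - 1) ^ m)) b (ρ (g * y * g⁻¹)) ∧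
      Sc (range ((ρ s - 1) ^ m)) ⊥ c (ρ (g * y * g⁻¹)) := fun g hg y a b c b1 b2 b3 => by
    rw [map_mul, map_mul]
    exact ⟨b1.conj (rmul_inv g) (fun _ _ => trivial) (step' h hg j),
      b2.conj (rmul_inv g) (step' h (inv_mem hg) j) (step' h hg m),
      b3.conj (rmul_inv g) (step' h (inv_mem hg) m) (by simp)⟩
  have Qp : ∀ y ∈ Q ρ l, y ^ p = 1 := fun y hy => inj (by
    rw [map_pow, map_one]
    exact pow_p (m := 3) (by omega) (LinearMap.ext fun v => hy.2.2.one (hy.2.1.one (hy.1.one trivial))))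
  have QT : Q ρ l ≤ T := by
    have := IsPGroup.to_sup_of_normal_right' T.2 (K := Q ρ l)
      (fun y => ⟨1, Subtype.ext (by simpa using Qp y y.2)⟩) fun g hg =>
        mem_normalizer_fintype fun y hy => cj g hg y _ _ _ hy.1 hy.2.1 hy.2.2
    exact le_sup_right.trans (T.3 this le_sup_left).le
  have tt : t * t = 1 := by rw [← pow_two, t2]
  have hq : t * (s * t * s⁻¹) ∈ Q ρ l := by
    obtain ⟨b1, b2, b3⟩ := cj s h.mem t _ _ _ a1 a2 a3
    refine ⟨?_, ?_, ?_⟩ <;> rw [map_mul]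
    · simpa using a1.mul b1 (a2.map l)
    · simpa using a2.mul b2 (a3.map bot_le)
    · simpa using a3.mul b3 (by simp)
  obtain ⟨n, hn⟩ : Odd p := (Fact.out : p.Prime).odd_of_ne_two (by omega)
  have q1 : t * (t * (s * t * s⁻¹)) * t⁻¹ = (t * (s * t * s⁻¹))⁻¹ := by
    rw [← mul_assoc t t, tt, one_mul, mul_inv_rev, mul_inv_rev, mul_inv_rev, inv_inv,
      inv_eq_of_mul_eq_one_right tt, mul_assoc s]
  have q2 := Qp _ hq
  have q3 : s * t * s⁻¹ = t * (t * (s * t * s⁻¹)) := by rw [← mul_assoc t t, tt, one_mul]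
  generalize t * (s * t * s⁻¹) = q at hq q1 q2 q3
  have r1 : q ^ n ∈ Q ρ l := pow_mem hq n
  have r2 : t * q ^ n = (q ^ n)⁻¹ * t := by
    rw [← inv_pow, ← q1, conj_pow, inv_mul_cancel_right]
  have r3 : q ^ n * q ^ n * q = 1 := by rw [← pow_add, ← pow_succ, ← two_mul, ← hn, q2]
  have c1 : Commute t ((q ^ n)⁻¹ * s) := by
    have : s * t = t * q * s := by rw [← q3, inv_mul_cancel_right]
    calc t * ((q ^ n)⁻¹ * s) = t * (q ^ n * q) * s := by
          rw [show q ^ n * q = (q ^ n)⁻¹ from eq_inv_of_mul_eq_one_right (by rw [← mul_assoc, r3]), mul_assoc]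
      _ = (q ^ n)⁻¹ * (t * q * s) := by rw [← mul_assoc t, r2]; group
      _ = _ := by rw [← this, mul_assoc]
  have rT := QT r1
  have cT := mul_mem (inv_mem rT) h.mem
  generalize q ^ n = r at r1 c1 rT cT
  obtain ⟨i, rfl⟩ := Nat.exists_eq_add_of_le' h1
  have l' : range ((ρ s - 1) ^ m) ≤ range ((ρ s - 1) ^ (i + 2)) := range_pow_anti _ h2
  have k1 : Tv (ρ s - 1) i (ρ (r⁻¹ * s)) := fun v hv => by
    have b1 := l' (a2 _ (h.step _ cT i v hv))
    have b2 := h.step _ cT (i + 1) _ (a1 v trivial)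
    have c2 : Commute (ρ t) (ρ (r⁻¹ * s) - 1) := (c1.map ρ).sub_right (Commute.one_right _)
    rw [map_sub, map_smul, ← End.mul_apply, ← c2.eq, End.mul_apply] at b2
    have b3 := sub_mem b2 b1
    rw [sub_sub_sub_cancel_left, ← sub_smul] at b3
    refine (Submodule.smul_mem_iff _ ?_).1 b3
    rw [sub_neg_eq_add, one_add_one_eq_two]
    exact fun c => absurd (Nat.le_of_dvd two_pos ((ZMod.natCast_eq_zero_iff 2 p).1 c)) (by omega)
  have k2 : ¬ Tv (ρ s - 1) i (ρ r) := fun c => h.reg.not_range_le (j := i + 1) (by omega) (by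
    rw [range_pow_succ]
    rintro _ ⟨v, hv, rfl⟩
    have := add_mem (step' h rT _ _ (k1 v hv)) (c v hv)
    rw [← End.mul_apply, ← LinearMap.add_apply, mul_sub, ← map_mul, mul_inv_cancel_left, mul_one,
      sub_add_sub_cancel] at this
    exact this)
  rcases Nat.eq_zero_or_pos i with rfl | hi
  · exact k2 (h.two r rT 1 0 (by omega) (by omega) fun v hv =>
      range_pow_anti _ (by omega) (r1.2.1.one hv))
  · exact k2 (h.two r rT 0 i (by omega) (by omega) fun v hv =>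
      range_pow_anti _ (by omega) (r1.1.one trivial))

/-- the non-abelian case -/
theorem core_nab (inj : Function.Injective ρ) (T : Sylow p G) {s : G} (h : Uni ρ T s p) {M : Subgroup G}
    (hM : IsStronglyPEmbedded p M) (hT : (T : Subgroup G) ≤ M) {x : G} (hx : x ∈ T) (h1 : ⁅x, s⁆ ≠ 1)
    (cs : Commute ⁅x, s⁆ s) (cx : Commute ⁅x, s⁆ x) : False := by
  have zT : ⁅x, s⁆ ∈ (T : Subgroup G) :=
    mul_mem (mul_mem (mul_mem hx h.mem) (inv_mem hx)) (inv_mem h.mem)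
  have pT : ∀ t ∈ (T : Subgroup G), ∃ e, t ^ p ^ e = 1 := fun t ht => by
    obtain ⟨e, he⟩ := T.2 ⟨t, ht⟩
    exact ⟨e, congrArg Subtype.val he⟩
  obtain ⟨e, he⟩ := pT _ zT
  obtain ⟨m, j, e1, j1, jm, hU, hC⟩ := quad h.pow h.reg (fun c => h1 (inj (c.trans (map_one ρ).symm)))
    ⟨_, sub_one_pow_char (e := e) (by rw [← map_pow, he, map_one])⟩ cs cx
  have xs : ¬ Commute x s := fun c => h1 (commutatorElement_eq_one_iff_commute.2 c)
  generalize ⁅x, s⁆ = z at *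
  have z2 : (ρ z - 1) ^ 2 = 0 := by
    rw [pow_two, End.mul_eq_comp, ← range_le_ker_iff, hU, hC]
    exact range_pow_anti _ jm.le
  obtain ⟨g, -, hg⟩ := SetLike.exists_of_lt (lt_top_iff_ne_top.2 hM.2.1)
  have yM : g * z * g⁻¹ ∉ M := fun c => hg (H68.spe_mem_of_conj_mem hM (hT zT) h1 he c)
  have ey : ρ (g * z * g⁻¹) - 1 = ρ g * (ρ z - 1) * ρ g⁻¹ := by
    rw [mul_sub, sub_mul, mul_one, rmul_inv, map_mul, map_mul]
  have y2 : (ρ (g * z * g⁻¹) - 1) ^ 2 = 0 := by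
    rw [ey, pow_two, mul_assoc, ← mul_assoc (ρ g⁻¹), ← mul_assoc (ρ g⁻¹), rinv_mul, one_mul, ← mul_assoc,
      mul_assoc (ρ g), ← pow_two, z2, mul_zero, zero_mul]
  rcases le_or_gt 4 (finrank (ZMod p) V) with h4 | h4
  · obtain ⟨t, t2, tz, tU, tC⟩ := exists_inv (five_le h4 h.le) ρ inj hM (hT zT) yM h1 z2 y2
    exact no_inv inj T h h4 e1 j1 jm hU hC t2 tz tU tC
  obtain rfl : j = 1 := by omega
  obtain rfl : m = 2 := by omega
  have v3 : range ((ρ s - 1) ^ (2 + 1)) = ⊥ := range_eq_bot.2 (h.reg.pow_eq_zero_iff.2 e1.ge)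
  have kill : ∀ t ∈ (T : Subgroup G), ∀ v ∈ range ((ρ s - 1) ^ 2), (ρ t - 1) v = 0 := fun t ht v hv =>
    (Submodule.mem_bot _).1 (v3 ▸ h.step t ht 2 v hv)
  obtain ⟨_, ⟨w, rfl⟩, hw⟩ := SetLike.not_le_iff_exists.1 (h.reg.not_range_le (j := 1) (by omega))
  have top : ∀ v, v ∈ range ((ρ s - 1) ^ 0) := fun v => ⟨v, rfl⟩
  have hw0 : w ∉ range ((ρ s - 1) ^ (0 + 1)) := fun c => hw (by
    rw [range_pow_succ _ 1]
    exact ⟨w, c, by simp⟩)
  obtain ⟨a, ha⟩ := h.reg.exists_smul ⟨w, rfl⟩ hw (h.step x hx 0 w (top w))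
  have sa : ∀ n : ℕ, (ρ (s ^ n) - 1) w - (n : ZMod p) • ((ρ s - 1) ^ 1 : End (ZMod p) V) w ∈ range ((ρ s - 1) ^ 2) := by
    intro n
    induction n with
    | zero => simp
    | succ n ih =>
      have := add_mem ih (h.step s h.mem 1 _ (h.step _ (pow_mem h.mem n) 0 w (top w)))
      convert this using 1
      simp only [pow_succ', map_mul, End.mul_apply, LinearMap.sub_apply, End.one_apply, map_sub, Nat.cast_succ,
        add_smul, one_smul, pow_zero]
      abel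
  have t1T := mul_mem (inv_mem (pow_mem h.mem a.val)) hx
  have t1 : ∀ v, (ρ ((s ^ a.val)⁻¹ * x) - 1) v ∈ range ((ρ s - 1) ^ 2) := fun v => by
    obtain ⟨c, hc⟩ := h.reg.exists_smul (top w) hw0 (top v)
    have b1 := h.step _ t1T 1 _ hc
    have b2 := step' h (inv_mem (pow_mem h.mem a.val)) 2 _ (sub_mem ha (ZMod.natCast_zmod_val a ▸ sa a.val))
    rw [sub_sub_sub_cancel_right, ← LinearMap.sub_apply, sub_sub_sub_cancel_right, ← End.mul_apply, mul_sub,
      ← map_mul, rinv_mul] at b2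
    have := add_mem b1 (Submodule.smul_mem _ c b2)
    rwa [map_sub, map_smul, sub_add_cancel] at this
  have t2 : (ρ ((s ^ a.val)⁻¹ * x) - 1) * (ρ s - 1) ≠ 0 := fun c => xs (by
    have c' : (ρ s - 1) * (ρ ((s ^ a.val)⁻¹ * x) - 1) = 0 := LinearMap.ext fun v => kill s h.mem _ (t1 v)
    have c2 : Commute ((s ^ a.val)⁻¹ * x) s := inj (by
      rw [map_mul ρ _ s, map_mul ρ s]
      have := c.trans c'.symm
      linear_combination (norm := noncomm_ring) this)
    simpa using ((Commute.refl s).pow_left a.val).mul_left c2)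
  generalize (s ^ a.val)⁻¹ * x = t₁ at t1T t1 t2
  have z1 : ∀ v, (ρ z - 1) v ∈ range ((ρ s - 1) ^ 2) := fun v => hU ▸ mem_range_self _ v
  have zN : (ρ z - 1) * (ρ s - 1) = 0 := LinearMap.ext fun v => mem_ker.1 (hC.ge ⟨v, by simp⟩)
  obtain ⟨w₂, hw2, hw3⟩ := SetLike.not_le_iff_exists.1 (h.reg.not_range_le (j := 2) (by omega))
  obtain ⟨t, tT, tn, tV, tu⟩ : ∃ t ∈ (T : Subgroup G), t ≠ 1 ∧ (∀ v, (ρ t - 1) v ∈ range ((ρ s - 1) ^ 2)) ∧
      (ρ t - 1) (ρ g w₂) = 0 := by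
    by_cases c : (ρ z - 1) (ρ g w₂) = 0
    · exact ⟨z, zT, h1, z1, c⟩
    obtain ⟨b, hb⟩ := h.reg.exists_smul (z1 _) (by rwa [v3, Submodule.mem_bot]) (t1 (ρ g w₂))
    have zn : ∀ n : ℕ, ρ (t₁ * z ^ n) - 1 = ρ t₁ - 1 + (n : ZMod p) • (ρ z - 1) := by
      intro n
      induction n with
      | zero => simp
      | succ n ih =>
        have : (ρ (t₁ * z ^ n) - 1) * (ρ z - 1) = 0 :=
          LinearMap.ext fun v => kill _ (mul_mem t1T (pow_mem zT n)) _ (z1 v)
        rw [pow_succ, ← mul_assoc, map_mul, Nat.cast_succ, add_smul, one_smul, ← add_assoc, ← ih]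
        linear_combination (norm := noncomm_ring) this
    refine ⟨t₁ * z ^ (-b).val, mul_mem t1T (pow_mem zT _), fun c => t2 ?_, fun v => ?_, ?_⟩
    · have := congrArg (· * (ρ s - 1)) (zn (-b).val)
      simp only [c, map_one, sub_self, zero_mul, add_mul, smul_mul_assoc, zN, smul_zero, add_zero] at this
      exact this.symm
    · rw [zn]
      exact add_mem (t1 v) (Submodule.smul_mem _ _ (z1 v))
    · rw [v3, Submodule.mem_bot] at hb
      rw [zn, ZMod.natCast_zmod_val, neg_smul, ← sub_eq_add_neg]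
      exact hb
  have tb : (ρ t - 1) * (ρ (g * z * g⁻¹) - 1) = 0 := LinearMap.ext fun v => by
    obtain ⟨c, hc⟩ := h.reg.exists_smul hw2 hw3 (z1 (ρ g⁻¹ v))
    rw [v3, Submodule.mem_bot, sub_eq_zero] at hc
    rw [ey, End.mul_apply, End.mul_apply, End.mul_apply, hc, map_smul, map_smul, tu, smul_zero]
    rfl
  have tt : (ρ t - 1) * (ρ t - 1) = 0 := LinearMap.ext fun v => kill t tT _ (tV v)
  rw [pow_two] at y2
  generalize g * z * g⁻¹ = y at yM y2 tb
  obtain ⟨τ, hτ⟩ : ∃ τ, ρ t = 1 + τ := ⟨ρ t - 1, by abel⟩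
  obtain ⟨β, hβ⟩ : ∃ β, ρ y = 1 + β := ⟨ρ y - 1, by abel⟩
  rw [hτ, add_sub_cancel_left] at tt tb
  rw [hβ, add_sub_cancel_left] at y2 tb
  have i1 : ∀ {u : G} {γ}, ρ u = 1 + γ → γ * γ = 0 → ρ u⁻¹ = 1 - γ := fun {u γ} a' b' => by
    have : ρ u * (1 - γ) = 1 := by
      rw [a']
      linear_combination (norm := noncomm_ring) -b'
    calc ρ u⁻¹ = ρ u⁻¹ * (ρ u * (1 - γ)) := by rw [this, mul_one]
      _ = _ := by rw [← mul_assoc, rinv_mul, one_mul]
  have ec : ρ ⁅t, y⁆ = 1 - β * τ := by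
    rw [commutatorElement_def, map_mul, map_mul, map_mul, i1 hτ tt, i1 hβ y2, hτ, hβ]
    have a1 : (1 + τ) * (1 + β) = 1 + τ + β := by linear_combination (norm := noncomm_ring) tb
    have a2 : (1 - τ) * (1 - β) = 1 - τ - β := by linear_combination (norm := noncomm_ring) tb
    rw [mul_assoc, a1, a2]
    linear_combination (norm := noncomm_ring) -tt - tb - y2
  have c1 : ⁅t, y⁆ * t = t * ⁅t, y⁆ := inj (by
    rw [map_mul, map_mul, ec, hτ]
    linear_combination (norm := noncomm_ring) tb * τ - β * tt)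
  have c2 : y * ⁅t, y⁆ = ⁅t, y⁆ * y := inj (by
    rw [map_mul, map_mul, ec, hβ]
    linear_combination (norm := noncomm_ring) β * tb - y2 * τ)
  have c3 : ⁅t, y⁆ ^ p ^ 1 = 1 := inj (by
    rw [pow_one, map_pow, map_one]
    refine pow_p (m := 2) (Fact.out : p.Prime).two_le ?_
    rw [ec, sub_sub_cancel_left, neg_sq, pow_two, mul_assoc, ← mul_assoc τ, tb, zero_mul, mul_zero])
  obtain ⟨e', he'⟩ := pT t tT
  have CT := H68.spe_centralizer_le hM (hT tT) tn he'
  by_cases c : ⁅t, y⁆ = 1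
  · exact yM (CT (mem_centralizer_singleton_iff.2 (commutatorElement_eq_one_iff_commute.1 c).eq.symm))
  · exact yM (H68.spe_centralizer_le hM (CT (mem_centralizer_singleton_iff.2 c1)) c c3
      (mem_centralizer_singleton_iff.2 c2))

end H90.MX
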