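import Mathlib
import Cfsg.Agent.Base
import Cfsg.Agent.Lib.MX.Two
import Cfsg.Agent.Lib.Fusion.Ess
import Cfsg.Agent.Lib.Fusion.Pearl
import Cfsg.Agent.S0112

/-!
# Subgroups of a group of maximal class containing a regular element (helper90)
-/

set_option autoImplicit false
set_option linter.unusedSectionVars false

namespace H90.MX

open Subgroup Cfsg Cfsg.FusionSystem H83.Krek H93

universe u

variable {p n m : ℕ} [hp : Fact p.Prime] {G : Type u} [Group G] [Finite G] {s : G}

theorem C2_char (i : ℕ) : (C2 G i).Characteristic :=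
  characteristic_iff_le_comap.2 fun α _ hx => (mem_C2_map_iff (f := α.toMonoidHom) α.surjective
    (((MonoidHom.ker_eq_bot_iff _).2 α.injective).le.trans bot_le)).2 hx

theorem center_le_lc_one (h : MC p n G) : center G ≤ lc G 1 :=
  h.center_eq.le.trans (lc_anti (by have := h.three; omega))

theorem Out.card_centralizer (h : MC p n G) (hs : Out n s) (h1 : s ∉ lc G 1) :
    Nat.card (centralizer ({s} : Set G)) = p ^ 2 := by
  set C := centralizer ({s} : Set G)
  have hsC : s ∈ C := mem_centralizer_singleton_iff.2 rfl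
  have a := card_mul_le_of_lt (h.isPGroup.to_subgroup C) (lt_of_le_of_ne (center_le_centralizer {s}) fun e =>
    h1 (center_le_lc_one h (e.ge hsC)))
  rw [h.card_center, ← sq] at a
  refine le_antisymm ?_ a
  have b : (C ⊔ lc G 1).index = p := index_of_lc_one_lt h
    (lt_of_le_of_ne le_sup_right fun e => h1 (e.ge (mem_sup_left hsC))) fun e => h1 (center_le_lc_one h
      (mem_center_iff.2 fun g => mem_centralizer_singleton_iff.1
        ((frattini_nongenerating (h.frattini_eq ▸ e)).ge (mem_top g))))
  have c := relIndex_mul_index (le_sup_right : lc G 1 ≤ C ⊔ lc G 1)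
  rw [b, h.index_lc_one, sq, relIndex_sup_right, mul_left_inj' hp.out.ne_zero] at c
  have d : Nat.card ((lc G 1).subgroupOf C) ≤ p := by
    rw [← h.card_center, ← card_map_of_injective C.subtype_injective]
    refine card_le_of_le ?_
    rintro _ ⟨x, hx, rfl⟩
    exact h.center_eq.ge (hs.mem_center h hx (mem_centralizer_singleton_iff.1 x.2).symm)
  rw [← ((lc G 1).subgroupOf C).card_mul_index, sq]
  exact Nat.mul_le_mul d c.le

/-- a subgroup containing the centre and a regular element has maximal class -/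
theorem Out.mc (h : MC p n G) {E : Type u} [Group E] [Finite E] {f : E →* G} (hf : Function.Injective f) {e : E}
    (hs : Out n (f e)) (h1 : f e ∉ lc G 1) (hz : center G ≤ f.range) (hc : Nat.card E = p ^ m) (h3 : 3 ≤ m) :
    MC p m E := by
  have a := hs.card_centralizer h h1
  set C := centralizer ({f e} : Set G)
  have hsC : f e ∈ C := mem_centralizer_singleton_iff.2 rfl
  have b : C ⊓ f.range = C := eq_of_le_of_card_ge inf_le_left (by
    have := card_mul_le_of_lt (h.isPGroup.to_subgroup (C ⊓ f.range)) (lt_of_le_of_ne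
      (le_inf (center_le_centralizer {f e}) hz) fun k => h1 (center_le_lc_one h (k.ge ⟨hsC, e, rfl⟩)))
    rwa [h.card_center, ← sq, ← a] at this)
  have c : (C.comap f).map f = C := by rw [map_comap_eq, inf_comm, b]
  haveI := IsPGroup.isMulCommutative_of_card_eq_prime_sq a
  refine mc_of_class hc h3 (Cfsg.Agent.S0112.result m hc (C.comap f) (by rw [← card_map_of_injective hf, c, a])
    (le_antisymm (fun x hx => ?_) fun x hx y hy => hf ?_))
  · exact mem_centralizer_singleton_iff.2 (by rw [← map_mul, ← map_mul, hx e hsC])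
  · rw [map_mul, map_mul]
    exact congrArg Subtype.val (mul_comm' (⟨f y, hy⟩ : C) ⟨f x, hx⟩)

theorem NC.not_mc {A T : Subgroup (MulAut G)} {τ : MulAut G} (k : NC p A T τ) (h : MC p n G) (h4 : 4 ≤ n) : False :=
  h.cm_ne_top (i := 1) (by omega) ((k.r2 h.isPGroup (by rw [h.frattini_eq, h.index_lc_one])).eq_top (C2_char 1)
    fun e => (lc_one_lt_C2 h le_rfl (by omega)).not_ge (e.trans h.frattini_eq.le))

variable {Ω : Type u} [Group Ω] {S E : Subgroup Ω} [Finite S] {F : FusionSystem S}

theorem center_le_range (hc : F.IsCentric E) : center S ≤ (inclusion hc.1).range := fun z hz =>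
  ⟨⟨z, isCentric_self_le hc ⟨z.2, fun y hy => congrArg Subtype.val (mem_center_iff.1 hz ⟨y, hc.1 hy⟩)⟩⟩, rfl⟩

/-- an essential subgroup containing a regular element is a pearl -/
theorem pearl_of_out (h : MC p n S) (hF : F.IsSaturated p) (hE : F.IsEssential p E) (h2 : p ≠ 2) {s : S}
    (hs : Out n s) (h1 : s ∉ lc S 1) (hsE : (s : Ω) ∈ E) (hc : Nat.card E = p ^ m) (h3 : 3 ≤ m) :
    m = 3 ∧ IsExtraspecial p E ∧ Monoid.exponent E = p := by
  have hES := hE.1.1
  haveI := finite_of_le hES
  have k : MC p m E := Out.mc h (inclusion_injective hES) (e := ⟨s, hsE⟩) hs h1 (center_le_range hE.1) hc h3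
  obtain ⟨τ, hτ⟩ := exists_nc_of_isEssential h.isPGroup hF hE
  obtain rfl : m = 3 := by_contra fun e => NC.not_mc hτ k (by omega)
  obtain ⟨h4, -⟩ | ⟨-, h4, h5⟩ | ⟨h4, -⟩ := hτ.cube hc
  · refine (k.lc_ne (i := 1) le_rfl ?_).elim
    exact (commutator_eq_bot_iff_center_eq_top E).2 (eq_top_iff.2 fun x _ => mem_center_iff.2 fun y => mul_comm' _ _)
  · haveI : Nontrivial E := Finite.one_lt_card_iff_nontrivial.1 (hc ▸ Nat.one_lt_pow (by omega) hp.out.one_lt)
    exact ⟨rfl, h4, (Monoid.exponent_eq_prime_iff hp.out).2 fun g hg => orderOf_eq_prime (h5 g) hg⟩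
  · exact (h2 h4).elim

end H90.MX
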