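import Mathlib
import Cfsg.Agent.Base
import Cfsg.Agent.Lib.MX.BLb
import Cfsg.Agent.Lib.MX.CA
import Cfsg.Agent.Lib.MX.CN

/-!
# Sections of a group of maximal class as uniserial modules (helper90)
-/

set_option autoImplicit false
set_option linter.unusedSectionVars false

namespace H90.MX

open Module LinearMap Subgroup Cfsg H83.Krek H93
open scoped commutatorElement

universe u

variable {S : Type u} [Group S] {p n a b : ℕ} [hp : Fact p.Prime] {G V : Type*} [Group G] [AddCommGroup V]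
  [Module (ZMod p) V] {ι : S →* G} {ρ : G →* End (ZMod p) V} {π : S → V}

/-- `V` is the section `γ_{a+1}/γ_{b+1}` of `S` -/
structure Sec (ι : S →* G) (ρ : G →* End (ZMod p) V) (π : S → V) (a b : ℕ) : Prop where
  mul : ∀ x ∈ lc S a, ∀ y ∈ lc S a, π (x * y) = π x + π y
  surj : ∀ v, ∃ x ∈ lc S a, π x = v
  ker : ∀ x ∈ lc S a, π x = 0 ↔ x ∈ lc S b
  conj : ∀ s, ∀ x ∈ lc S a, ρ (ι s) (π x) = π (s * x * s⁻¹)

namespace Sec

variable (h : Sec ι ρ π a b)
include h

theorem one : π 1 = 0 := (h.ker 1 (one_mem _)).2 (one_mem _)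

theorem inv {x : S} (hx : x ∈ lc S a) : π x⁻¹ = -π x :=
  eq_neg_of_add_eq_zero_left (by rw [← h.mul _ (inv_mem hx) _ hx, inv_mul_cancel, h.one])

theorem comm (s : S) {x : S} (hx : x ∈ lc S a) : (ρ (ι s) - 1) (π x) = π ⁅s, x⁆ := by
  rw [LinearMap.sub_apply, h.conj s x hx, End.one_apply, commutatorElement_def,
    h.mul _ (Normal.conj_mem inferInstance _ hx s) _ (inv_mem hx), h.inv hx, sub_eq_add_neg]

/-- the preimage of a subspace -/
def pre (U : Submodule (ZMod p) V) : Subgroup S where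
  carrier := {x | x ∈ lc S a ∧ π x ∈ U}
  one_mem' := ⟨one_mem _, h.one ▸ U.zero_mem⟩
  mul_mem' hx hy := ⟨mul_mem hx.1 hy.1, h.mul _ hx.1 _ hy.1 ▸ U.add_mem hx.2 hy.2⟩
  inv_mem' hx := ⟨inv_mem hx.1, h.inv hx.1 ▸ U.neg_mem hx.2⟩

theorem exists_of_mem (s : S) (j : ℕ) : ∀ v ∈ range ((ρ (ι s) - 1) ^ j), ∃ x ∈ lc S (a + j), π x = v := by
  induction j with
  | zero => exact fun v _ => h.surj v
  | succ j ih =>
    rw [range_pow_succ]
    rintro _ ⟨v, hv, rfl⟩
    obtain ⟨x, hx, rfl⟩ := ih v hv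
    exact ⟨_, comm_mem_lc_succ s hx, (h.comm s (lc_anti (by omega) hx)).symm⟩

theorem pow_eq_zero (s : S) : (ρ (ι s) - 1) ^ (b - a) = 0 := by
  refine range_eq_bot.1 (eq_bot_iff.2 fun v hv => ?_)
  obtain ⟨x, hx, rfl⟩ := h.exists_of_mem s _ v hv
  exact (h.ker x (lc_anti (by omega) hx)).2 (lc_anti (by omega) hx)

variable [Finite S] (hS : MC p n S) (ha : 1 ≤ a) (hb : b + 1 ≤ n) {s : S} (hs : Out n s)
include hS ha hb hs

theorem mem_range (j : ℕ) : ∀ x ∈ lc S (a + j), π x ∈ range ((ρ (ι s) - 1) ^ j) := by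
  induction j with
  | zero => exact fun x _ => ⟨π x, by simp⟩
  | succ j ih =>
    have key : ∀ r i, b ≤ i + 1 + r → a + j ≤ i → lc S (i + 1) ≤ h.pre (range ((ρ (ι s) - 1) ^ (j + 1))) := by
      intro r
      induction r with
      | zero =>
        exact fun i h1 h2 x hx => ⟨lc_anti (by omega) hx, by
          rw [(h.ker x (lc_anti (by omega) hx)).2 (lc_anti (by omega) hx)]; exact Submodule.zero_mem _⟩
      | succ r ihr =>
        intro i h1 h2
        by_cases h3 : b ≤ i + 1 + r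
        · exact ihr i h3 h2
        obtain ⟨u, hu, hu'⟩ := exists_gen hS (i := i) (by omega)
        rw [← hS.eq_sup (comm_mem_lc_succ s hu) (hs.comm_not_mem hS (by omega) (by omega) hu hu')]
        refine sup_le (ihr (i + 1) (by omega) (by omega)) (zpowers_le.2 ⟨lc_anti (by omega) (comm_mem_lc_succ s hu), ?_⟩)
        rw [← h.comm s (lc_anti (by omega) hu), range_pow_succ]
        exact Submodule.mem_map_of_mem (ih u (lc_anti h2 hu))
    exact fun x hx => (key b (a + j) (by omega) le_rfl hx).2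

variable [Finite V]

theorem reg : Reg (ρ (ι s) - 1) := by
  refine ⟨⟨_, h.pow_eq_zero s⟩, ?_⟩
  by_cases hab : b ≤ a
  · have : Subsingleton V := ⟨fun u v => by
      obtain ⟨x, hx, rfl⟩ := h.surj u
      obtain ⟨y, hy, rfl⟩ := h.surj v
      rw [(h.ker x hx).2 (lc_anti hab hx), (h.ker y hy).2 (lc_anti hab hy)]⟩
    rw [finrank_zero_of_subsingleton]
    exact zero_le_one
  obtain ⟨c, rfl⟩ : ∃ c, b = c + 2 := ⟨b - 2, by omega⟩
  obtain ⟨u, hu, hu'⟩ := exists_gen hS (i := c + 1) (by omega)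
  refine le_trans (Submodule.finrank_mono (t := (ZMod p) ∙ π u) fun v hv => ?_) (finrank_span_le_card _ |>.trans (by simp))
  obtain ⟨x, hx, rfl⟩ := h.surj v
  rw [LinearMap.mem_ker, h.comm s hx, h.ker _ (lc_anti (Nat.le_succ a) (comm_mem_lc_succ s hx))] at hv
  have h1 := hs.mem_of_comm hS (j := c + 1) (by omega) (lc_anti ha hx) hv
  rw [← hS.eq_sup hu hu'] at h1
  refine ((sup_le (fun y hy => ⟨lc_anti (by omega) hy, ?_⟩) (zpowers_le.2 ⟨lc_anti (by omega) hu,
    Submodule.mem_span_singleton_self _⟩) : _ ≤ h.pre ((ZMod p) ∙ π u)) h1).2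
  rw [(h.ker y (lc_anti (by omega) hy)).2 hy]
  exact Submodule.zero_mem _

theorem finrank_le : finrank (ZMod p) V ≤ b - a := (h.reg hS ha hb hs).pow_eq_zero_iff.1 (h.pow_eq_zero s)

theorem tv_iff {i : ℕ} (hi : a + i + 2 ≤ b) (t : S) : Tv (ρ (ι s) - 1) i (ρ (ι t)) ↔ t ∈ C2 S (a + i) := by
  refine ⟨fun k x hx => ?_, fun k v hv => ?_⟩
  · have hx' : x ∈ lc S a := lc_anti (by omega) hx
    have c1 : ⁅t, x⁆ ∈ lc S a := lc_anti (by omega) (comm_mem_lc_succ t hx)
    obtain ⟨y, hy, e⟩ := h.exists_of_mem s _ _ (k _ (h.mem_range hS ha hb hs i x hx))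
    have hy' : y ∈ lc S a := lc_anti (by omega) hy
    rw [h.comm t hx'] at e
    have := (h.ker _ (mul_mem c1 (inv_mem hy'))).1 (by rw [h.mul _ c1 _ (inv_mem hy'), h.inv hy', e, add_neg_cancel])
    exact (mul_mem_cancel_right (inv_mem hy)).1 (lc_anti hi this)
  · obtain ⟨x, hx, rfl⟩ := h.exists_of_mem s _ v hv
    rw [h.comm t (lc_anti (by omega) hx)]
    exact h.mem_range hS ha hb hs (i + 2) _ (k x hx)

theorem uni (h1 : ι s ^ p = 1) : Uni ρ ι.range (ι s) p where
  mem := ⟨s, rfl⟩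
  pow := h1
  reg := h.reg hS ha hb hs
  step := by
    rintro _ ⟨t, rfl⟩ j v hv
    obtain ⟨x, hx, rfl⟩ := h.exists_of_mem s _ v hv
    rw [h.comm t (lc_anti (by omega) hx)]
    exact h.mem_range hS ha hb hs (j + 1) _ (comm_mem_lc_succ t hx)
  two := by
    rintro _ ⟨t, rfl⟩ i j hi hj
    have := h.finrank_le hS ha hb hs
    rw [h.tv_iff hS ha hb hs (by omega), h.tv_iff hS ha hb hs (by omega), blackburn hS (by omega) (by omega),
      blackburn hS (i := a + j) (by omega) (by omega)]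
    exact id

end Sec

theorem Out.not_mem_zero [Finite S] (hS : MC p n S) (h4 : 4 ≤ n) {s : S} (hs : Out n s) : s ∉ C2 S 0 := fun k => by
  have hq := hS.quot_lc (m := 0) (by omega)
  refine hs 1 le_rfl h4 (lc_one_le_C2 1 ?_)
  rw [← mem_lc_map_iff (QuotientGroup.mk'_surjective (lc S 2)) ((QuotientGroup.ker_mk' _).le.trans (lc_anti (by omega)))]
  refine hq.center_eq.le (mem_center_iff.2 fun g => ?_)
  obtain ⟨g, rfl⟩ := QuotientGroup.mk'_surjective _ g
  rw [eq_comm, ← commutatorElement_eq_one_iff_mul_comm, ← map_commutatorElement]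
  exact (QuotientGroup.eq_one_iff _).2 (k g (mem_top g))

/-- a group with a strongly embedded subgroup and Sylow subgroup `S/γ_{c+1}` does not act faithfully on a section of `S` -/
theorem no_deep [Finite S] [Finite G] [Finite V] (h : Sec ι ρ π a b) (hS : MC p n S) (h4 : 4 ≤ n) (ha : 1 ≤ a)
    (hb : b + 1 ≤ n) (inj : Function.Injective ρ) {c : ℕ} (h1 : 1 ≤ c) (h2 : c + 2 ≤ n) (hk : ι.ker = lc S c)
    (T : Sylow p G) (hT : (T : Subgroup G) = ι.range) {M : Subgroup G} (hM : IsStronglyPEmbedded p M)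
    (hTM : (T : Subgroup G) ≤ M) : False := by
  obtain ⟨s, hs⟩ := exists_out hS h4
  have hu := h.uni hS ha hb hs (by
    rw [← map_pow, ← MonoidHom.mem_ker, hk]
    exact lc_anti (by omega) (hs.pow_mem hS))
  rw [← hT] at hu
  obtain rfl | h3 := h1.eq_or_lt
  · refine core_ab ρ inj T ?_ hu.mem hu.pow hu.reg fun N _ hN => H68.spe_normal_pSubgroup_eq_bot hM hN
    rw [← hS.index_lc_one, ← hk, index_ker, ← hT]
  obtain ⟨c, rfl⟩ : ∃ c', c = c' + 2 := ⟨c - 2, by omega⟩
  have : s ∉ C2 S c := by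
    rcases Nat.eq_zero_or_pos c with rfl | h0
    exacts [hs.not_mem_zero hS h4, hs c h0 (by omega)]
  obtain ⟨x, hx, hx'⟩ := not_forall₂.1 this
  have hc : ∀ t, Commute ⁅ι x, ι s⁆ (ι t) := fun t => by
    rw [← commutatorElement_eq_one_iff_commute, ← map_commutatorElement, ← map_commutatorElement, ← MonoidHom.mem_ker, hk]
    exact comm_mem_comm (comm_mem_lc_succ t (comm_mem_comm (comm_mem_lc_succ s hx)))
  refine core_nab inj T hu hM hTM (x := ι x) (hT.ge ⟨x, rfl⟩) (fun e => hx' (comm_mem_comm ?_)) (hc s) (hc x)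
  rwa [← map_commutatorElement, ← MonoidHom.mem_ker, hk] at e

theorem eqns_sec : True := by
  have := @Sec.pre.eq_1.{0, 0, 0}
  trivial

end H90.MX
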