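import Mathlib
import Cfsg.Agent.Base
import Cfsg.Agent.Lib.MX.Sec
import Cfsg.Agent.Lib.Fusion.Ess
import Cfsg.Agent.Lib.Fusion.Pearl
import Cfsg.Agent.S0112

/-!
# Normal essential subgroups of a group of maximal class (helper90)
-/

set_option autoImplicit false
set_option linter.unusedSectionVars false

namespace H90.MX

open Module Subgroup Cfsg Cfsg.FusionSystem H83.Krek H93 H70
open scoped commutatorElement

universe u

variable {p n : ℕ} [hp : Fact p.Prime]

/-- automorphisms of an elementary abelian group as linear maps -/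
def linAut (W : Type*) [CommGroup W] [Module (ZMod p) (Additive W)] : MulAut W →* Module.End (ZMod p) (Additive W) where
  toFun α := AddMonoidHom.toZModLinearMap p (MonoidHom.toAdditive α.toMonoidHom)
  map_one' := rfl
  map_mul' _ _ := rfl

variable {Ω : Type u} [Group Ω] {S : Subgroup Ω} [Finite S] {F : FusionSystem S} {E : Subgroup Ω}

theorem not_le_aux (h : MC p n S) (h4 : 4 ≤ n) (hF : F.IsSaturated p) (hE : F.IsEssential p E)
    (hn : (E.subgroupOf S).Normal) (hle : E.subgroupOf S ≤ lc S 1) {W : Type u} [CommGroup W]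
    [Module (ZMod p) (Additive W)] (q : E →* W) (hq : Function.Surjective q) (hk : ∀ x, q x = 1 ↔ x ∈ frattini E)
    (r : F.autGroup E →* MulAut W) (hr : ∀ α x, r α (q x) = q (α.1 x)) : False := by
  classical
  have hS := h.isPGroup
  obtain ⟨hc, hfn, hI, M₀, hM₀⟩ := hE
  have hES := hc.1
  haveI := finite_of_le hES
  haveI := finite_mulAut_of_le hES
  haveI := Finite.of_surjective q hq
  have hEp : IsPGroup p E := hS.of_injective (inclusion hES) (inclusion_injective hES)
  have hN : S ≤ normalizer (E : Set Ω) := (normal_subgroupOf_iff_le_normalizer hES).1 hn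
  obtain ⟨a, ha, ea⟩ := h.exists_eq_lc hle
  have mE : ∀ x : S, x ∈ lc S (a + 1) ↔ (x : Ω) ∈ E := fun x => by rw [← ea]; rfl
  let A := F.autGroup E
  let I := (Inn E).subgroupOf A
  let ι₀ : S →* A := (E.normalizerMonoidHom.comp (inclusion hN)).codRestrict A fun s =>
    autInducedBy_le_autGroup F hES (conjAut_mem s.2 (hN s.2))
  let ι : S →* A ⧸ I := (QuotientGroup.mk' I).comp ι₀
  let ρ₀ : A →* Module.End (ZMod p) (Additive W) := (linAut W).comp r
  have hρ₀ : ∀ (α : A) (x : E), ρ₀ α (Additive.ofMul (q x)) = Additive.ofMul (q (α.1 x)) := fun α x =>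
    congrArg Additive.ofMul (hr α x)
  have hker : ∀ α : A, ρ₀ α = 1 ↔ ∀ x, q (α.1 x) = q x := fun α =>
    ⟨fun e x => Additive.ofMul.injective ((hρ₀ α x).symm.trans (by rw [e]; rfl)),
      fun e => LinearMap.ext fun v => by
        obtain ⟨x, hx⟩ := hq v.toMul
        rw [show v = .ofMul (q x) from congrArg Additive.ofMul hx.symm, hρ₀, e x]
        rfl⟩
  let ρ : A ⧸ I →* Module.End (ZMod p) (Additive W) := QuotientGroup.lift I ρ₀ fun α hα => (hker α).2 fun x => by
    obtain ⟨g, hg, e⟩ := mem_inn.1 hα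
    have : α.1 x = ⟨g, hg⟩ * x * ⟨g, hg⟩⁻¹ := Subtype.ext ((extA_of_mem α.1 x.2).symm.trans (e x x.2))
    rw [this, map_mul, map_mul, map_inv, mul_inv_cancel_comm]
  have inj : Function.Injective ρ := by
    rw [← MonoidHom.ker_eq_bot_iff]
    refine H68.spe_normal_pSubgroup_eq_bot hM₀ ?_
    have : IsPGroup p ρ₀.ker := isPGroup_of_forall_coprime fun α hα hc => Subtype.ext
      (H5.aut_eq_one_of_frattini hEp α.1 (by rwa [orderOf_coe]) fun x => (hk _).1 (by
        rw [map_mul, map_inv, (hker α).1 hα, inv_mul_cancel]))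
    refine (this.map (QuotientGroup.mk' I)).to_le fun g hg => ?_
    obtain ⟨α, rfl⟩ := QuotientGroup.mk'_surjective I g
    exact ⟨α, hg, rfl⟩
  let π : S → Additive W := fun x => if hx : (x : Ω) ∈ E then .ofMul (q ⟨x, hx⟩) else 0
  have hπ : ∀ (x : S) (hx : (x : Ω) ∈ E), π x = .ofMul (q ⟨x, hx⟩) := fun x hx => dif_pos hx
  haveI : (((frattini E).map E.subtype).subgroupOf S).Normal := ⟨by
    rintro x ⟨y, hy, e⟩ s
    exact ⟨_, H5.aut_mem_of_characteristic inferInstance (ι₀ s).1 hy, by
      change (s : Ω) * y * (s : Ω)⁻¹ = s * x * (s : Ω)⁻¹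
      rw [← show (y : Ω) = x from e]⟩⟩
  obtain ⟨b, hb, eb⟩ := h.exists_eq_lc (N := ((frattini E).map E.subtype).subgroupOf S)
    ((subgroupOf_mono S (map_subtype_le _)).trans hle)
  have hsec : Sec ι ρ π (a + 1) (b + 1) :=
    { mul := fun x hx y hy => by
        rw [hπ x ((mE x).1 hx), hπ y ((mE y).1 hy), hπ _ ((mE _).1 (mul_mem hx hy)), ← ofMul_mul, ← map_mul]
        rfl
      surj := fun v => by
        obtain ⟨x, hx⟩ := hq v.toMul
        exact ⟨⟨x, hES x.2⟩, (mE _).2 x.2, (hπ _ x.2).trans (congrArg Additive.ofMul hx)⟩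
      ker := fun x hx => by
        rw [hπ x ((mE x).1 hx), ← eb, ofMul_eq_zero, hk]
        exact ⟨fun k => ⟨_, k, rfl⟩, fun ⟨y, k, e⟩ => by rwa [show (⟨x, (mE x).1 hx⟩ : E) = y from Subtype.ext e.symm]⟩
      conj := fun s x hx => by
        rw [hπ x ((mE x).1 hx), hπ _ ((mE _).1 (Normal.conj_mem inferInstance _ hx s))]
        exact hρ₀ (ι₀ s) _ }
  have hk : ι.ker = lc S (a + 1) := by
    ext s
    rw [mE, MonoidHom.mem_ker, MonoidHom.comp_apply, QuotientGroup.mk'_apply, QuotientGroup.eq_one_iff]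
    exact ⟨fun k => mem_of_conjAut_mem_inn hES (isCentric_self_le hc) ⟨s.2, hN s.2⟩ k, fun k => conjAut_mem_inn k⟩
  have ha' : a + 1 + 2 ≤ n := by
    by_contra h1
    have h2 := h.card_center
    have h3 : center S ≤ ⊥ := fun z hz => (ea.trans (h.lc_eq_bot (by omega))).le (isCentric_self_le hc
      ⟨z.2, fun y hy => congrArg Subtype.val (mem_center_iff.1 hz ⟨y, hES hy⟩)⟩)
    rw [eq_bot_iff.2 h3, card_bot] at h2
    exact hp.out.one_lt.ne h2
  let T := (sylowIn_of_normalized hS hF hfn).toSylow.mapSurjective (QuotientGroup.mk'_surjective I)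
  have hT : (T : Subgroup (A ⧸ I)) = ι.range := by
    ext g
    refine ⟨?_, ?_⟩
    · rintro ⟨α, hα, rfl⟩
      obtain ⟨g, hg, e⟩ := exists_conjAut_of_mem hα
      exact ⟨⟨g, hg.1⟩, congrArg (QuotientGroup.mk' I) (Subtype.ext e.symm)⟩
    · rintro ⟨s, rfl⟩
      exact ⟨ι₀ s, conjAut_mem s.2 (hN s.2), rfl⟩
  obtain ⟨P, hP⟩ := H68.spe_exists_sylow_le hM₀
  obtain ⟨g, -, hg⟩ := (H68.sylowIn_top P).exists_le_cj T.isPGroup' le_top
  exact no_deep hsec h h4 (by omega) hb inj (by omega) ha' hk T hT (H68.spe_cj hM₀ g) (hg.trans (H68.cj_mono g hP))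

/-- a normal essential subgroup does not lie in the derived group -/
theorem not_le_lc_one (h : MC p n S) (h4 : 4 ≤ n) (hF : F.IsSaturated p) (hE : F.IsEssential p E)
    (hn : (E.subgroupOf S).Normal) : ¬ E.subgroupOf S ≤ lc S 1 := fun hle => by
  have hES := hE.1.1
  haveI := finite_of_le hES
  have hEp : IsPGroup p E := h.isPGroup.of_injective (inclusion hES) (inclusion_injective hES)
  letI : CommGroup (E ⧸ frattini E) :=
    { QuotientGroup.Quotient.group (frattini E) with
      mul_comm := (Normal.quotient_commutative_iff_commutator_le.2 (H5.commutator_le_frattini hEp)).is_comm.comm }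
  have hV : ∀ v : Additive (E ⧸ frattini E), p • v = 0 := fun v => by
    obtain ⟨x, hx⟩ := QuotientGroup.mk_surjective v.toMul
    have : v.toMul ^ p = 1 := by
      rw [← hx, ← QuotientGroup.mk_pow]
      exact (QuotientGroup.eq_one_iff (x ^ p)).2 (H5.pow_mem_frattini hEp x)
    exact congrArg Additive.ofMul this
  exact @not_le_aux p n _ Ω _ S _ F E h h4 hF hE hn hle (E ⧸ frattini E) _ (AddCommGroup.zmodModule hV)
    (QuotientGroup.mk' _) (QuotientGroup.mk'_surjective _) (fun x => QuotientGroup.eq_one_iff x)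
    (H2.quotAut (F.autGroup E).subtype _ fun α x => H5.aut_mem_of_characteristic inferInstance α.1) fun _ _ => rfl

omit hp in
theorem eqns_red : True := by
  have := @linAut.eq_1.{0}
  trivial

end H90.MX
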