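import Mathlib
import Cfsg.Agent.Base
import Cfsg.Agent.Lib.MX.Red
import Cfsg.Agent.Lib.MX.Max

/-!
# Normal essential subgroups are maximal (helper90)
-/

set_option autoImplicit false
set_option linter.unusedSectionVars false

namespace H90.MX

open Subgroup Cfsg Cfsg.FusionSystem H83.Krek H93

universe u

variable {p n : ℕ} [hp : Fact p.Prime] {Ω : Type u} [Group Ω] {S E : Subgroup Ω} [Finite S] {F : FusionSystem S}

theorem out_of_not_mem {G : Type u} [Group G] [Finite G] (h : MC p n G) {s : G} (h1 : s ∉ C2 G 1)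
    (h2 : s ∉ C2 G (n - 3)) : Out n s := fun i a b => by
  rcases eq_or_lt_of_le b with e | e
  · rwa [show i = n - 3 by omega]
  · rwa [blackburn h a e]

theorem normal_ess (h : MC p n S) (h4 : 4 ≤ n) (hF : F.IsSaturated p) (hE : F.IsEssential p E) (h2 : p ≠ 2)
    (hn : (E.subgroupOf S).Normal) : (E.subgroupOf S).index = p ∧ (E.subgroupOf S = C2 S 1 ∨
      E.subgroupOf S = C2 S (n - 3) ∨ n = 4 ∧ Nat.card E = p ^ 3 ∧ IsExtraspecial p E ∧ Monoid.exponent E = p) := by
  have hES := hE.1.1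
  have h1 := not_le_lc_one h h4 hF hE hn
  have ht : E.subgroupOf S ≠ ⊤ := fun e => (lt_of_isEssential h.isPGroup hF hE).not_ge (subgroupOf_eq_top.1 e)
  obtain ⟨j, hj⟩ := IsPGroup.iff_card.1 (h.isPGroup.to_subgroup (E.subgroupOf S))
  have hlt : lc S 1 < E.subgroupOf S := lt_of_le_of_ne (by
    by_contra hc
    have : j + 2 ≤ n := by_contra fun k => hc (h.lc_le (i := 0) (j := n - 2) (by omega)
      (hj ▸ Nat.pow_le_pow_right hp.out.pos (by omega)))
    exact h1 ((h.eq_lc (i := n - j - 2) (by omega) hj).le.trans (lc_anti (by omega)))) fun e => h1 e.ge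
  have hi := index_of_lc_one_lt h hlt ht
  refine ⟨hi, or_iff_not_imp_left.2 fun a => or_iff_not_imp_left.2 fun b => ?_⟩
  obtain ⟨s, hs, hs'⟩ := SetLike.exists_of_lt hlt
  have key : ∀ i, 1 ≤ i → i + 3 ≤ n → E.subgroupOf S ≠ C2 S i → s ∉ C2 S i := fun i a b c k =>
    hs' ((inf_eq_of_ne h hlt ht (lc_one_lt_C2 h a b) (h.cm_ne_top b) c).le ⟨hs, k⟩)
  have hc : Nat.card E = p ^ (n - 1) := (card_subgroupOf_eq hES).symm.trans
    (card_eq_of_index (i := 1) (h.card.trans (by congr 1; omega)) (by rwa [pow_one]))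
  obtain ⟨e, k⟩ := pearl_of_out h hF hE h2 (out_of_not_mem h (key 1 le_rfl h4 a) (key _ (by omega) (by omega) b))
    hs' hs hc (by omega)
  exact ⟨by omega, e ▸ hc, k⟩

theorem eq_iff_subgroupOf {A B : Subgroup Ω} (hA : A ≤ S) (hB : B ≤ S) (e : A.subgroupOf S = B.subgroupOf S) :
    A = B := by
  rw [← map_subgroupOf_eq_of_le hA, e, map_subgroupOf_eq_of_le hB]

theorem C2_eq_centralizer {G : Type u} [Group G] [Finite G] (h : MC p n G) (h4 : 4 ≤ n) :
    C2 G (n - 3) = centralizer (Subgroup.upperCentralSeries G 2 : Set G) := by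
  ext x
  rw [mem_C2, h.ucs_two h4, h.lc_eq_bot (i := n - 3 + 2) (by omega), mem_centralizer_iff]
  exact forall₂_congr fun g _ => by
    rw [mem_bot, commutatorElement_eq_one_iff_mul_comm, eq_comm]

end H90.MX
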