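import Mathlib
import Cfsg.Agent.Base
import Cfsg.Agent.Lib.MX.Fin
import Cfsg.Agent.Lib.MaxCl.Three

/-!
# The series `γ_0 > γ_1 > … > γ_n` of a group of maximal class (helper90)
-/

set_option autoImplicit false
set_option linter.unusedSectionVars false

namespace H90.MX

open Subgroup Cfsg H83.Krek H93
open scoped commutatorElement

universe u

/-- `γ_0 = G`, `γ_1` the two-step centraliser, `γ_i` the lower central series -/
def ga (G : Type u) [Group G] (i : ℕ) : Subgroup G := (if i = 0 then ⊤ else C2 G 1) ⊓ lc G (i - 1)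

/-- `G / γ_m` is not exceptional -/
def NE (G : Type u) [Group G] (m : ℕ) : Prop := ∀ i, 1 ≤ i → i + 3 ≤ m → C2 G i = C2 G 1

variable {G : Type u} [Group G] {p n m i j : ℕ} {s x y u : G}

theorem ga_zero : ga G 0 = ⊤ := top_inf_eq _

theorem ga_one : ga G 1 = C2 G 1 := inf_top_eq _

theorem ga_eq_lc (h : 2 ≤ i) : ga G i = lc G (i - 1) := by
  rw [ga, if_neg (by omega)]
  exact inf_eq_right.2 ((lc_anti (by omega)).trans (lc_one_le_C2 1))

theorem ga_two : ga G 2 = lc G 1 := ga_eq_lc le_rfl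

theorem ga_le_lc (i : ℕ) : ga G i ≤ lc G (i - 1) := inf_le_right

theorem ga_le_C2 (h : 1 ≤ i) : ga G i ≤ C2 G 1 := by
  rw [ga, if_neg (by omega)]
  exact inf_le_left

theorem ga_anti (h : i ≤ j) : ga G j ≤ ga G i := by
  rcases Nat.eq_zero_or_pos i with rfl | h0
  · exact ga_zero (G := G) ▸ le_top
  · rw [ga, ga, if_neg (by omega), if_neg (by omega)]
    exact inf_le_inf_left _ (lc_anti (by omega))

instance ga_char (i : ℕ) : (ga G i).Characteristic := by
  rcases i with _ | _ | i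
  · rw [ga_zero]; infer_instance
  · rw [zero_add, ga_one]
    exact characteristic_iff_le_comap.2 fun α _ hx => (mem_C2_map_iff (f := α.toMonoidHom) α.surjective
      (((MonoidHom.ker_eq_bot_iff _).2 α.injective).le.trans bot_le)).2 hx
  · rw [ga_eq_lc (by omega)]; infer_instance

instance ga_normal (i : ℕ) : (ga G i).Normal := inferInstance

theorem aut_mem_ga (φ : MulAut G) : φ x ∈ ga G i ↔ x ∈ ga G i :=
  SetLike.ext_iff.1 (characteristic_iff_comap_eq.1 (ga_char i) φ) x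

theorem comm_mem_ga_succ (s : G) (h1 : 1 ≤ j) (hy : y ∈ ga G j) : ⁅s, y⁆ ∈ ga G (j + 1) := by
  rw [ga_eq_lc (by omega), show j + 1 - 1 = j - 1 + 1 by omega]
  exact comm_mem_lc_succ s (ga_le_lc j hy)

theorem comm_mem_ga (hx : x ∈ ga G i) (hy : y ∈ ga G j) : ⁅x, y⁆ ∈ ga G (i + j) := by
  rcases i with _ | _ | i
  · rw [zero_add]; exact mul_mem (Normal.conj_mem inferInstance _ hy x) (inv_mem hy)
  · rcases j with _ | j
    · exact comm_mem_comm (mul_mem (Normal.conj_mem inferInstance _ hx y) (inv_mem hx))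
    · rw [add_comm]; exact comm_mem_ga_succ x (by omega) hy
  rcases j with _ | _ | j
  · exact comm_mem_comm (mul_mem (Normal.conj_mem inferInstance _ hx y) (inv_mem hx))
  · exact comm_mem_comm (comm_mem_ga_succ y (by omega) hx)
  rw [ga_eq_lc (by omega)] at hx hy ⊢
  exact lc_anti (by omega) (comm_mem_lc hx hy)

theorem NE.mono (k : NE G m) (h : j ≤ m) : NE G j := fun i a b => k i a (by omega)

theorem NE.out (k : NE G m) (hs : s ∉ C2 G 1) : Out m s := fun i a b => by rwa [k i a b]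

theorem Out.mono (hs : Out m s) (h : j ≤ m) : Out j s := fun i a b => hs i a (by omega)

theorem Out.not_mem (hs : Out m s) (h4 : 4 ≤ m) : s ∉ C2 G 1 := hs 1 le_rfl h4

theorem Out.not_mem_lc (hs : Out m s) (h4 : 4 ≤ m) : s ∉ lc G 1 := fun k => hs.not_mem h4 (lc_one_le_C2 1 k)

theorem Out.aut (hs : Out m s) (φ : MulAut G) : Out m (φ s) := fun i a b k => hs i a b
  ((mem_C2_map_iff (f := φ.toMonoidHom) φ.surjective
    (((MonoidHom.ker_eq_bot_iff _).2 φ.injective).le.trans bot_le)).1 k)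

variable [Finite G] [hp : Fact p.Prime] (h : MC p n G) (h4 : 4 ≤ n)
include h h4

theorem card_ga (hi : i ≤ n) : Nat.card (ga G i) = p ^ (n - i) := by
  rcases i with _ | _ | i
  · rw [ga_zero, card_top, h.card]; rfl
  · rw [zero_add, ga_one]
    exact card_eq_of_index (i := 1) (h.card.trans (by congr 1; omega)) (by rw [pow_one, index_C2 h le_rfl h4])
  · rw [ga_eq_lc (by omega)]
    exact h.card_lc (i := i) (by omega)

theorem card_C2 (h1 : 1 ≤ i) (h2 : i + 3 ≤ n) : Nat.card (C2 G i) = p ^ (n - 1) :=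
  card_eq_of_index (i := 1) (h.card.trans (by congr 1; omega)) (by rw [pow_one, index_C2 h h1 h2])

theorem ga_eq_bot (hi : n ≤ i) : ga G i = ⊥ := by
  rw [ga_eq_lc (by omega)]; exact h.lc_eq_bot (by omega)

theorem ga_center : ga G (n - 1) = center G := by
  rw [ga_eq_lc (by omega), h.center_eq]; rfl

theorem not_ga_le (hi : i < n) : ¬ ga G i ≤ ga G (i + 1) := fun e => by
  have := card_le_of_le e
  rw [card_ga h h4 hi.le, card_ga h h4 hi, Nat.pow_le_pow_iff_right hp.out.one_lt] at this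
  omega

theorem exists_ga_gen (hi : i < n) : ∃ u ∈ ga G i, u ∉ ga G (i + 1) := SetLike.not_le_iff_exists.1 (not_ga_le h h4 hi)

theorem le_of_ga_le (hi : i < n) (e : ga G i ≤ ga G j) : j ≤ i :=
  not_lt.1 fun k => not_ga_le h h4 hi (e.trans (ga_anti k))

theorem eq_of_ga_lt {A : Subgroup G} (h1 : ga G (i + 1) < A) (h2 : A ≤ ga G i) : A = ga G i := by
  have hi : i < n := not_le.1 fun k => h1.ne' (eq_bot_iff.2 (h2.trans (ga_eq_bot h h4 k).le) |>.trans
    (ga_eq_bot h h4 (by omega)).symm)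
  have a := card_mul_le_of_lt (h.isPGroup.to_subgroup A) h1
  rw [card_ga h h4 hi, ← pow_succ, show n - (i + 1) + 1 = n - i by omega, ← card_ga h h4 hi.le] at a
  exact eq_of_le_of_card_ge h2 a

theorem ga_sup (hu : u ∈ ga G i) (hu' : u ∉ ga G (i + 1)) : ga G (i + 1) ⊔ zpowers u = ga G i :=
  eq_of_ga_lt h h4 (lt_of_le_of_ne le_sup_left fun e => hu' (e.ge (mem_sup_right (mem_zpowers u))))
    (sup_le (ga_anti i.le_succ) (zpowers_le.2 hu))

theorem ga_le_of_mem {A : Subgroup G} (hu : u ∈ ga G i) (hu' : u ∉ ga G (i + 1)) (h1 : ga G (i + 1) ≤ A) (h2 : u ∈ A) :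
    ga G i ≤ A := (ga_sup h h4 hu hu').ge.trans (sup_le h1 (zpowers_le.2 h2))

theorem exists_zpow_mul (hu : u ∈ ga G i) (hu' : u ∉ ga G (i + 1)) (hx : x ∈ ga G i) :
    ∃ k : ℤ, ∃ y ∈ ga G (i + 1), x = u ^ k * y := by
  rw [← ga_sup h h4 hu hu', sup_comm, ← SetLike.mem_coe, mul_normal] at hx
  obtain ⟨_, ⟨k, rfl⟩, y, hy, rfl⟩ := hx
  exact ⟨k, y, hy, rfl⟩

theorem pow_mem_ga (hx : x ∈ ga G i) : x ^ p ∈ ga G (i + 1) := by
  rcases le_or_gt n i with k | k
  · rw [mem_bot.1 ((ga_eq_bot h h4 k).le hx), one_pow]; exact one_mem _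
  have := relIndex_mul_index (ga_anti (G := G) i.le_succ)
  rw [h.index_eq (i := i) (by omega) (card_ga h h4 k.le), h.index_eq (i := i + 1) (by omega) (card_ga h h4 k),
    pow_succ', mul_left_inj' (pow_ne_zero _ hp.out.ne_zero)] at this
  exact this ▸ pow_relIndex_mem _ hx

theorem zpow_mem_ga_iff (hu : u ∈ ga G i) (hu' : u ∉ ga G (i + 1)) {k : ℤ} : u ^ k ∈ ga G (i + 1) ↔ (p : ℤ) ∣ k := by
  have : orderOf (QuotientGroup.mk' (ga G (i + 1)) u) = p := orderOf_eq_prime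
    (by rw [← map_pow]; exact (QuotientGroup.eq_one_iff _).2 (pow_mem_ga h h4 hu))
    fun e => hu' ((QuotientGroup.eq_one_iff _).1 e)
  rw [← this, orderOf_dvd_iff_zpow_eq_one, ← map_zpow]
  exact (QuotientGroup.eq_one_iff _).symm

omit h h4 in
theorem exists_level (hx : x ∉ ga G m) : ∃ i < m, x ∈ ga G i ∧ x ∉ ga G (i + 1) := by
  induction m with
  | zero => exact (hx (ga_zero (G := G) ▸ mem_top x)).elim
  | succ m ih =>
    by_cases k : x ∈ ga G m
    · exact ⟨m, m.lt_succ_self, k, hx⟩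
    · exact (ih k).imp fun i k => ⟨k.1.trans m.lt_succ_self, k.2⟩

theorem exists_level_of_ne (hx : x ≠ 1) : ∃ i < n, x ∈ ga G i ∧ x ∉ ga G (i + 1) :=
  exists_level fun k => hx (mem_bot.1 ((ga_eq_bot h h4 le_rfl).le k))

theorem ne_pred : NE G (n - 1) := fun _ a b => blackburn h a (by omega)

theorem ne_of_eq (e : C2 G (n - 3) = C2 G 1) : NE G n := fun i a b => by
  rcases eq_or_lt_of_le b with k | k
  · rwa [show i = n - 3 by omega]
  · exact blackburn h a k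

theorem comm_C2_mem (hx : x ∈ C2 G 1) (hy : y ∈ C2 G 1) : ⁅x, y⁆ ∈ ga G 4 := by
  rw [ga_eq_lc (by omega)]
  by_cases k : x ∈ ga G 2
  · exact comm_mem_comm (hy x (ga_two (G := G) ▸ k))
  obtain ⟨i, z, hz, rfl⟩ := exists_zpow_mul h h4 (i := 1) (ga_one (G := G) ▸ hx) k (ga_one (G := G) ▸ hy)
  have : x ^ i * z ∈ cm {x} (lc G 3) := mul_mem (zpow_mem (fun g hg => by
    rw [hg, commutatorElement_self]; exact one_mem _) i) fun g hg => hg ▸ comm_mem_comm (hx z (ga_two (G := G) ▸ hz))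
  exact comm_mem_comm (this x rfl)

theorem NE.comm (k : NE G m) (hx : x ∈ C2 G 1) (hy : y ∈ ga G j) (h1 : 1 ≤ j) (h2 : j + 2 ≤ m) :
    ⁅x, y⁆ ∈ ga G (j + 2) := by
  rcases eq_or_lt_of_le h1 with rfl | h1
  · exact ga_anti (by omega) (comm_C2_mem h h4 hx (ga_one (G := G) ▸ hy))
  · rw [ga_eq_lc (by omega)] at hy ⊢
    rw [show j + 2 - 1 = j - 1 + 2 by omega]
    exact (k (j - 1) (by omega) (by omega)).ge hx y hy

theorem comm_not_mem_three {A : Subgroup G} (hA : lc G 1 < A) (hs : s ∉ A) (hy : y ∈ A) (hy' : y ∉ lc G 1) :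
    ⁅s, y⁆ ∉ ga G 3 := fun k => by
  rw [ga_eq_lc (by omega)] at k
  have a : ∀ g : G, lc G 1 ≤ cm {g} (lc G 2) := fun g z hz _ e => e ▸ comm_mem_comm (comm_mem_lc_succ g hz)
  have b : ∀ g : G, g ∈ cm {g} (lc G 2) := fun g _ e => by rw [e, commutatorElement_self]; exact one_mem _
  have c : ∀ {g : G}, cm {g} (lc G 2) = ⊤ → g ∈ C2 G 0 := fun e z _ => comm_mem_comm (e.ge (mem_top z) _ rfl)
  exact h.cm_ne_top (i := 0) (by omega) (eq_top_of_mem h hA (lc_one_le_C2 0) hs hy hy'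
    (c (eq_top_of_mem h hA (a s) hs hy hy' (b s) fun _ e => e ▸ comm_mem_comm k))
    (c (eq_top_of_mem h hA (a y) hs hy hy' (fun _ e => e ▸ k) (b y))))

theorem Out.comm_not (hs : Out m s) (h1 : s ∉ C2 G 1) (hy : y ∈ ga G j) (hy' : y ∉ ga G (j + 1)) (hj : 1 ≤ j)
    (h2 : j + 2 ≤ m) : ⁅s, y⁆ ∉ ga G (j + 2) := by
  rcases eq_or_lt_of_le hj with rfl | hj
  · exact comm_not_mem_three h h4 (lc_one_lt_C2 h le_rfl h4) h1 (ga_one (G := G) ▸ hy) (ga_two (G := G) ▸ hy')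
  · obtain ⟨j, rfl⟩ := Nat.exists_eq_add_of_le' hj
    rw [ga_eq_lc (by omega)] at hy hy' ⊢
    exact h.comm_not_mem (hs _ (by omega) (by omega)) hy hy'

theorem Out.mem_ga_of_comm (hs : Out m s) (h1 : s ∉ C2 G 1) (hy : y ∈ C2 G 1) (hj : j + 1 ≤ m)
    (hc : ⁅s, y⁆ ∈ ga G (j + 1)) : y ∈ ga G j := by_contra fun k => by
  obtain ⟨i, a, b, c⟩ := exists_level k
  have d : 1 ≤ i := Nat.pos_of_ne_zero fun e => c (by rwa [e, zero_add, ga_one])
  exact hs.comm_not h h4 h1 b c d (by omega) (ga_anti (by omega) hc)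

theorem Out.mem_ga_of_commute (hs : Out m s) (h1 : s ∉ C2 G 1) (hm : 1 ≤ m) (hy : y ∈ C2 G 1) (hc : Commute s y) :
    y ∈ ga G (m - 1) :=
  hs.mem_ga_of_comm h h4 h1 hy (by omega) (by rw [commutatorElement_eq_one_iff_commute.2 hc]; exact one_mem _)

theorem out_iff : Out n s ↔ s ∉ C2 G 1 ∧ s ∉ C2 G (n - 3) :=
  ⟨fun k => ⟨k.not_mem h4, k _ (by omega) (by omega)⟩, fun k => out_of_not_mem h k.1 k.2⟩

theorem commute_of_mem_ga (hx : x ∈ ga G i) (hy : y ∈ ga G j) (e : n ≤ i + j) : Commute x y :=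
  commutatorElement_eq_one_iff_commute.1 (mem_bot.1 ((ga_eq_bot h h4 e).le (comm_mem_ga hx hy)))

/-- a subgroup of `γ_1` that is normalised by a regular element is a member of the series -/
theorem Out.eq_ga (hs : Out m s) (h1 : s ∉ C2 G 1) (hm : 1 ≤ m) {D : Subgroup G} (h2 : ga G m ≤ D) (h3 : D ≤ C2 G 1)
    (hn : ∀ x ∈ D, s * x * s⁻¹ ∈ D) : ∃ i, 1 ≤ i ∧ i ≤ m ∧ D = ga G i := by
  have key : ∀ r i, i + r = m → 1 ≤ i → (∃ x ∈ D, x ∈ ga G i ∧ x ∉ ga G (i + 1)) ∨ i = m → ga G i ≤ D := by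
    intro r
    induction r with
    | zero => exact fun i e _ _ => (show i = m from e) ▸ h2
    | succ r ih =>
      rintro i e hi (⟨x, hx, a, b⟩ | k)
      · refine ga_le_of_mem h h4 a b (ih _ (by omega) (by omega) (or_iff_not_imp_right.2 fun k => ?_)) hx
        exact ⟨_, mul_mem (hn x hx) (inv_mem hx), comm_mem_ga_succ s hi a, hs.comm_not h h4 h1 a b hi (by omega)⟩
      · omega
  classical
  by_cases k : D ≤ ga G m
  · exact ⟨m, hm, le_rfl, le_antisymm k h2⟩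
  have ex : ∃ i, ¬ D ≤ ga G (i + 1) := ⟨m - 1, by rwa [Nat.sub_add_cancel hm]⟩
  have a := Nat.find_spec ex
  have b : Nat.find ex ≤ m - 1 := Nat.find_min' ex (by rwa [Nat.sub_add_cancel hm])
  have c : 1 ≤ Nat.find ex := Nat.pos_of_ne_zero fun e => a (by rwa [e, zero_add, ga_one])
  have d : D ≤ ga G (Nat.find ex) := by
    simpa only [not_not, Nat.sub_add_cancel c] using Nat.find_min ex (m := Nat.find ex - 1) (by omega)
  obtain ⟨x, hx, hx'⟩ := SetLike.not_le_iff_exists.1 a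
  exact ⟨_, c, by omega, le_antisymm d (key (m - Nat.find ex) _ (by omega) c (Or.inl ⟨x, hx, d hx, hx'⟩))⟩

theorem Out.eq_ga' (hs : Out n s) {D : Subgroup G} (h3 : D ≤ C2 G 1) (hn : ∀ x ∈ D, s * x * s⁻¹ ∈ D) :
    ∃ i, 1 ≤ i ∧ i ≤ n ∧ D = ga G i :=
  hs.eq_ga h h4 (hs.not_mem h4) (by omega) ((ga_eq_bot h h4 le_rfl).le.trans bot_le) h3 hn

theorem eq_ga_of_normal {D : Subgroup G} [hD : D.Normal] (h3 : D ≤ C2 G 1) : ∃ i, 1 ≤ i ∧ i ≤ n ∧ D = ga G i :=
  let ⟨s, hs⟩ := exists_out h h4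
  hs.eq_ga' h h4 h3 fun x hx => hD.conj_mem x hx s

theorem mem_C_iff : s ∈ C2 G (n - 3) ↔ ∀ y ∈ ga G (n - 2), Commute s y := by
  rw [ga_eq_lc (by omega), mem_C2, h.lc_eq_bot (i := n - 3 + 2) (by omega)]
  exact forall₂_congr fun _ _ => mem_bot.trans commutatorElement_eq_one_iff_commute

/-- a subgroup without regular elements that is normalised by a regular element is normal -/
theorem Out.normal (hs : Out n s) {D : Subgroup G} (h3 : D ≤ C2 G 1 ∨ D ≤ C2 G (n - 3))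
    (hn : ∀ x ∈ D, s * x * s⁻¹ ∈ D) : D.Normal := by
  by_cases k : D ≤ C2 G 1
  · obtain ⟨i, -, -, rfl⟩ := hs.eq_ga' h h4 k hn
    infer_instance
  obtain ⟨x, hx, hx'⟩ := SetLike.not_le_iff_exists.1 k
  obtain ⟨i, -, hi, e⟩ := hs.eq_ga' h h4 (D := D ⊓ C2 G 1) inf_le_right fun y hy =>
    ⟨hn y hy.1, Normal.conj_mem inferInstance y hy.2 s⟩
  have a : i ≤ 2 := not_lt.1 fun a => comm_not_mem_three h h4 (lc_one_lt_C2 h (by omega) (by omega))
    (hs _ (by omega) (by omega)) (h3.resolve_left k hx) (fun b => hx' (lc_one_le_C2 1 b))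
    (ga_anti a (e.le ⟨D.mul_mem (hn x hx) (D.inv_mem hx), lc_one_le_C2 1 (comm_mem_lc_succ s (mem_top x))⟩))
  have b : lc G 1 ≤ D := (ga_two (G := G)).ge.trans ((ga_anti a).trans (e.ge.trans inf_le_left))
  exact ⟨fun y hy g => by simpa [commutatorElement_def] using mul_mem (b (comm_mem_lc_succ g (mem_top y))) hy⟩

theorem le_or_le_of_not_out {D : Subgroup G} (hD : ∀ x ∈ D, ¬ Out n x) : D ≤ C2 G 1 ∨ D ≤ C2 G (n - 3) := by
  by_contra k
  rw [not_or, SetLike.not_le_iff_exists, SetLike.not_le_iff_exists] at k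
  obtain ⟨⟨x, hx, a⟩, y, hy, b⟩ := k
  have c : x ∈ C2 G (n - 3) := by_contra fun e => hD x hx (out_of_not_mem h a e)
  have d : y ∈ C2 G 1 := by_contra fun e => hD y hy (out_of_not_mem h e b)
  exact hD _ (mul_mem hx hy) (out_of_not_mem h (fun e => a ((mul_mem_cancel_right d).1 e))
    fun e => b ((mul_mem_cancel_left c).1 e))

theorem pow_eq_one_of_mem (h2 : p ≠ 2) (hx : x ∈ ga G (n - 2)) : x ^ p = 1 := by
  rw [ga_eq_lc (by omega), show n - 2 - 1 = n - 4 + 1 by omega] at hx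
  exact mem_bot.1 ((h.lc_eq_bot (by omega)).le (h.pow_mem_lc h2 (by omega) hx))

variable (hne : C2 G (n - 3) ≠ C2 G 1)
include hne

theorem exc_six : 6 ≤ n := by
  obtain ⟨k, hk⟩ := even_of_exc h h4 hne
  have : n ≠ 4 := by rintro rfl; exact hne rfl
  omega

theorem exc_ne_two : p ≠ 2 := by
  have a := exc_six h h4 hne
  obtain ⟨k, rfl⟩ : ∃ k, n = k + 3 := ⟨n - 3, by omega⟩
  have := lt_of_exc h (by omega) (fun i b c => blackburn h b (by omega)) hne
  omega

theorem exc_inf : C2 G (n - 3) ⊓ C2 G 1 = ga G 2 :=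
  (inf_eq_of_ne h (lc_one_lt_C2 h (by omega) (by omega)) (h.cm_ne_top (by omega)) (lc_one_lt_C2 h le_rfl h4)
    (h.cm_ne_top h4) hne).trans ga_two.symm

omit h h4 hne hp in
theorem eqns_gam : True := by
  have := @ga.eq_1.{0}
  have := @NE.eq_1.{0}
  trivial

end H90.MX
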