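import Mathlib
import Cfsg.Agent.Base
import Cfsg.Agent.Lib.MX.Gam
import Cfsg.Agent.Lib.Fusion.EssLink
import Cfsg.Agent.Lib.Fusion.NSys

/-!
# Fusion systems on `p`-groups of maximal class: basic facts on essential subgroups (helper90)
-/

set_option autoImplicit false
set_option linter.unusedSectionVars false

namespace H90.MX

open Subgroup Cfsg Cfsg.FusionSystem H83.Krek H93
open scoped commutatorElement

universe u

variable {p n : ℕ} [hp : Fact p.Prime] {G : Type u} [Group G] [Finite G] {F : FusionSystem (⊤ : Subgroup G)}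
  {E : Subgroup G}

/-- the shape of a pearl -/
def PS (p : ℕ) (E : Type*) [Group E] : Prop := Nat.card E = p ^ 2 ∨ Nat.card E = p ^ 3 ∧ ¬ IsMulCommutative E

structure Ctx (p n : ℕ) (F : FusionSystem (⊤ : Subgroup G)) : Prop where
  mc : MC p n G
  four : 4 ≤ n
  sat : F.IsSaturated p

/-- the essential subgroups of the systems in which the centre is strongly closed -/
def St1 (p n : ℕ) (G : Type u) [Group G] : Prop := ∀ D : FusionSystem (⊤ : Subgroup G), D.IsSaturated p →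
  D.StronglyClosed (center G) → ∀ E, D.IsEssential p E → (∃ s ∈ E, Out n s) ∨ E = C2 G 1

structure Bad (p n : ℕ) (F : FusionSystem (⊤ : Subgroup G)) (E : Subgroup G) : Prop extends Ctx p n F where
  st : St1 p n G
  ess : F.IsEssential p E
  nps : ¬ PS p E
  ne : Nat.card E ≠ p ^ (n - 1)

theorem PS.le {X : Type*} [Group X] (h : PS p X) : Nat.card X ≤ p ^ 3 := by
  exact h.elim (fun e => e ▸ Nat.pow_le_pow_right hp.out.pos (by omega)) fun e => e.1.le

theorem PS.of_equiv {X Y : Type*} [Group X] [Group Y] (h : PS p X) (e : X ≃* Y) : PS p Y := by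
  have := Nat.card_congr e.toEquiv
  exact h.imp (this ▸ id) fun k => ⟨this ▸ k.1, fun c => k.2
    ⟨⟨fun a b => e.injective (by rw [map_mul, map_mul]; exact mul_comm' _ _)⟩⟩⟩

theorem ess_cent_le (hE : F.IsEssential p E) : centralizer (E : Set G) ≤ E := by
  exact fun x hx => isCentric_self_le hE.1 ⟨mem_top x, hx⟩

theorem ess_center_le (hE : F.IsEssential p E) : center G ≤ E := by
  exact (Subgroup.center_le_centralizer _).trans (ess_cent_le hE)

theorem autInducedBy_top (N : Subgroup G) [N.Normal] :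
    autInducedBy ⊤ N = (MulAut.conjNormal : G →* MulAut N).range := by
  ext α
  rw [mem_autInducedBy]
  refine ⟨fun ⟨g, _, e⟩ => ⟨g, mulAut_ext fun x hx => (extA_of_mem _ hx).trans (e x hx).symm⟩, ?_⟩
  rintro ⟨g, rfl⟩
  exact ⟨g, ⟨mem_top g, N.normalizer_eq_top.ge (mem_top g)⟩, fun x hx => extA_of_mem _ hx⟩

theorem conjAut_mem_top {t : G} (ht : t ∈ normalizer (E : Set G)) : conjAut E t ht ∈ autInducedBy ⊤ E := by
  exact conjAut_mem (mem_top t) ht

theorem conjAut_mem_aut {t : G} (ht : t ∈ normalizer (E : Set G)) : conjAut E t ht ∈ F.autGroup E := by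
  exact autInducedBy_le_autGroup F le_top (conjAut_mem_top ht)

theorem conjAut_not_mem_inn (hE : F.IsEssential p E) {t : G} (ht : t ∈ normalizer (E : Set G)) (h : t ∉ E) :
    conjAut E t ht ∉ Inn E := by
  exact fun k => h (mem_of_conjAut_mem_inn le_top (isCentric_self_le hE.1) ⟨mem_top t, ht⟩ k)

theorem isPGroup_zp {X : Type*} [Group X] {x : X} {k : ℕ} (h : x ^ p ^ k = 1) : IsPGroup p (zpowers x) := by
  rintro ⟨_, j, rfl⟩
  exact ⟨k, Subtype.ext (by
    change (x ^ j) ^ p ^ k = 1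
    rw [← zpow_natCast, ← zpow_mul, mul_comm, zpow_mul, zpow_natCast, h, one_zpow])⟩

theorem card_center_cube (h : Nat.card E = p ^ 3) (h' : ¬ IsMulCommutative E) : Nat.card (centralizerIn E E) = p := by
  rw [← center_map_eq, card_map_of_injective E.subtype_injective]
  exact (isExtraspecial_of_card_cube h (mt (commutator_eq_bot_iff E).1 h')).2

/-- a map of `F` defined on the whole group, as an automorphism -/
def autOf {σ : Equiv.Perm G} (h : Map F ⊤ σ) : MulAut G := ⟨σ, fun x y => h.map_mul (mem_top x) (mem_top y)⟩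

namespace Ctx

variable (c : Ctx p n F)
include c

theorem pg : IsPGroup p (⊤ : Subgroup G) := by
  exact c.mc.isPGroup.to_subgroup ⊤

theorem conjAut_pow {t : G} (ht : t ∈ normalizer (E : Set G)) : ∃ k, conjAut E t ht ^ p ^ k = 1 := by
  exact (isPGroup_autInducedBy c.pg E ⟨_, conjAut_mem_top ht⟩).imp fun k e => congrArg Subtype.val e

theorem conjAut_mem_ext (hE : F.IsEssential p E) {t : G} (ht : t ∈ normalizer (E : Set G)) :
    conjAut E t ht ∈ extAut F E := by
  exact autInducedBy_le_extAut (lt_of_isEssential c.pg c.sat hE) (conjAut_mem_top ht)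

theorem exists_not_mem_ext (hE : F.IsEssential p E) : ∃ g ∈ F.autGroup E, g ∉ extAut F E := by
  exact SetLike.not_le_iff_exists.1 fun e => extAut_ne_of_isEssential c.pg c.sat hE (le_antisymm (extAut_le F E) e)

/-- strong embedding, elementwise -/
theorem mem_ext_of_conj (hE : F.IsEssential p E) {x g : MulAut E} (hx : x ∈ extAut F E) (xp : ∃ k, x ^ p ^ k = 1)
    (h1 : x ∉ Inn E) (hg : g ∈ F.autGroup E) (h2 : g * x * g⁻¹ ∈ extAut F E) : g ∈ extAut F E := by
  have hs := (sylowIn_of_normalized c.pg c.sat hE.2.1).mono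
    (autInducedBy_le_extAut (lt_of_isEssential c.pg c.sat hE)) (extAut_le F E)
  obtain ⟨k, hk⟩ := xp
  obtain ⟨a, ha, h3⟩ := hs.exists_cj_le (isPGroup_zp hk) (zpowers_le.2 hx)
  obtain ⟨b, hb, h4⟩ := hs.exists_cj_le (isPGroup_zp (x := g * x * g⁻¹) (k := k) (by simp [hk])) (zpowers_le.2 h2)
  have h5 := mem_extAut_of_conj_mem (receptive_of_normalized c.pg c.sat hE.2.1)
    (mul_mem (mul_mem (extAut_le F E hb) hg) (inv_mem (extAut_le F E ha)))
    (H68.cj_le_iff'.1 h3 _ (mem_zpowers x)) (fun e => h1 (by simpa [mul_assoc] using (innNormal E).conj_mem _ e a⁻¹))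
    (by simpa [mul_assoc] using H68.cj_le_iff'.1 h4 _ (mem_zpowers _))
  simpa [mul_assoc] using mul_mem (mul_mem (inv_mem hb) h5) ha

theorem inn_of_stab (hE : F.IsEssential p E) {N : Subgroup G}
    (hN : ∀ α ∈ F.autGroup E, ∀ x ∈ E, x ∈ N → extA E α x ∈ N) {β : MulAut E} (hβ : β ∈ F.autGroup E)
    (h : β ∈ stab2 E N) : β ∈ Inn E := by
  refine (isRadical_of_isEssential c.pg hE).2.le (H70.le_pCoreOf (P := stab2 E N ⊓ F.autGroup E)
    (isPGroup_stab2 (c.mc.isPGroup.to_subgroup E) N).to_inf_left inf_le_right (fun ρ hρ => ?_) ⟨h, hβ⟩)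
  refine mem_normalizer_of_conj_mem fun α hα => ⟨conj_mem_stab2 (fun x hx => ⟨fun k => ?_, hN ρ hρ x hx⟩) hα.1,
    mul_mem (mul_mem hρ hα.2) ((F.autGroup E).inv_mem hρ)⟩
  simpa using hN _ (inv_mem hρ) _ (extA_mem ρ hx) k

theorem ps_of_out (hE : F.IsEssential p E) {s : G} (hs : Out n s) (hsE : s ∈ E) : PS p E := by
  obtain ⟨m, hm⟩ := IsPGroup.iff_card.1 (c.mc.isPGroup.to_subgroup E)
  have h1 := hs.not_mem_lc c.four
  have h2 := card_mul_le_of_lt (c.mc.isPGroup.to_subgroup E) (lt_of_le_of_ne (ess_center_le hE) fun e =>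
    h1 (center_le_lc_one c.mc (e.ge hsE)))
  rw [c.mc.card_center, ← sq, hm, Nat.pow_le_pow_iff_right hp.out.one_lt] at h2
  refine (eq_or_lt_of_le h2).imp (fun e : 2 = m => e ▸ hm) fun h3 => ?_
  have k : MC p m E := Out.mc c.mc E.subtype_injective (e := ⟨s, hsE⟩) hs h1
    (E.range_subtype.symm ▸ ess_center_le hE) hm h3
  obtain ⟨τ, hτ⟩ := exists_nc_of_isEssential c.pg c.sat hE
  obtain rfl : m = 3 := by_contra fun e => NC.not_mc hτ k (by omega)
  exact ⟨hm, fun e => k.lc_ne (i := 1) le_rfl ((commutator_eq_bot_iff E).2 e)⟩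

theorem card_inf_le (hE : F.IsEssential p E) {s : G} (hs : Out n s) (hsE : s ∈ E) :
    Nat.card (E ⊓ C2 G 1 : Subgroup G) ≤ p ^ 2 := by
  exact Nat.le_of_mul_le_mul_right ((card_mul_le_of_lt (c.mc.isPGroup.to_subgroup E) (lt_of_le_of_ne inf_le_left
    fun e => hs.not_mem c.four (e.ge hsE).2)).trans (c.ps_of_out hE hs hsE).le) hp.out.pos

theorem out_of_ps (hE : F.IsEssential p E) (h : PS p E) : ∃ s ∈ E, Out n s := by
  by_contra hc
  have h4 := c.four
  have hm := c.mc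
  have p1 := hp.out.one_lt
  have hC : ¬ E ≤ C2 G (n - 3) := fun e => by
    have a : ga G (n - 2) ≤ centralizer E := fun y hy x hx => (mem_C_iff hm h4).1 (e hx) y hy
    have b := card_ga hm h4 (i := n - 2) (by omega)
    rw [show n - (n - 2) = 2 by omega] at b
    obtain k | k := h
    · have d := card_le_of_le (fun x hx => ess_cent_le hE fun y hy => ((mem_C_iff hm h4).1 hx y
        ((eq_of_le_of_card_ge (a.trans (ess_cent_le hE)) (by rw [b, k])).ge hy)).symm : C2 G (n - 3) ≤ E)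
      rw [card_C2 hm h4 (by omega) (by omega), k, Nat.pow_le_pow_iff_right p1] at d
      omega
    · have d := card_le_of_le (le_inf (a.trans (ess_cent_le hE)) a : _ ≤ centralizerIn E E)
      exact lt_sq.not_ge (b.ge.trans (d.trans (card_center_cube k.1 k.2).le))
  have hΓ := (le_or_le_of_not_out hm h4 fun x hx k => hc ⟨x, hx, k⟩).resolve_right hC
  obtain ⟨y, hy, hy'⟩ := SetLike.not_le_iff_exists.1 hC
  have h6 := exc_six hm h4 fun e => hC (e ▸ hΓ)
  have a : ∀ u ∈ ga G (n - 3), u ∈ C2 G (n - 3) := fun u hu =>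
    lc_one_le_C2 _ (ga_two.le (ga_anti (by omega) hu))
  have b : ∀ x ∈ E, ∀ u ∈ ga G (n - 3), ⁅x, u⁆ ∈ center G := fun x hx u hu => by
    have := (ne_pred hm h4).comm hm h4 (hΓ hx) hu (by omega) (by omega)
    rwa [show n - 3 + 2 = n - 1 by omega, ga_center hm h4] at this
  have d := card_ga hm h4 (i := n - 3) (by omega)
  rw [show n - (n - 3) = 3 by omega] at d
  have hZ := ess_center_le hE
  obtain k | k := h
  · let f : ga G (n - 3) →* center G := MonoidHom.mk' (fun u => ⟨⁅y, u⁆, b y hy u u.2⟩) fun u v => Subtype.ext (by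
      have := mem_center_iff.1 (b y hy v v.2) u
      change ⁅y, (u : G) * v⁆ = ⁅y, (u : G)⁆ * ⁅y, (v : G)⁆
      rw [show ⁅y, (u : G) * v⁆ = ⁅y, (u : G)⁆ * (u * ⁅y, (v : G)⁆) * (u : G)⁻¹ by
        simp only [commutatorElement_def]; group, this]
      group)
    have e1 : f.ker.map (ga G (n - 3)).subtype < E := lt_of_le_of_ne (by
      rintro _ ⟨u, hu, rfl⟩
      have h1 : center G < E ⊓ centralizer {(u : G)} := lt_of_le_of_ne (le_inf hZ (center_le_centralizer _)) fun e =>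
        hy' (a y (ga_anti (by omega) ((ga_center hm h4).ge (e.ge ⟨hy, mem_centralizer_singleton_iff.2
          (commutatorElement_eq_one_iff_mul_comm.1 (congrArg Subtype.val hu))⟩))))
      have h2 := card_mul_le_of_lt (hm.isPGroup.to_subgroup _) h1
      rw [hm.card_center, ← sq, ← k] at h2
      exact ess_cent_le hE fun x hx => mem_centralizer_singleton_iff.1 ((eq_of_le_of_card_ge inf_le_left h2).ge hx).2)
      fun e => hy' (a y (map_subtype_le _ (e.ge hy)))
    have e2 := card_mul_le_of_lt (hm.isPGroup.to_subgroup _) e1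
    have e3 := f.ker.card_mul_index
    have e4 := f.range.card_le_card_group
    rw [card_map_of_injective (subtype_injective _), k] at e2
    rw [index_ker, d] at e3
    rw [hm.card_center] at e4
    have := e3 ▸ (Nat.mul_le_mul_left _ e4).trans e2
    rw [Nat.pow_le_pow_iff_right p1] at this
    omega
  · have e1 : center G = centralizerIn E E := eq_of_le_of_card_ge (le_inf hZ (center_le_centralizer _))
      (by rw [card_center_cube k.1 k.2, hm.card_center])
    have e2 : ga G (n - 3) ≤ E := fun u hu => by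
      have hu' : ∀ x ∈ E, x⁻¹ * (u * x * u⁻¹) ∈ center G := fun x hx => by
        simpa [commutatorElement_def, mul_assoc] using b _ (inv_mem hx) u hu
      have hn : u ∈ normalizer (E : Set G) := mem_normalizer_of_conj_mem fun x hx =>
        (mul_mem_cancel_left (inv_mem hx)).1 (hZ (hu' x hx))
      by_contra h1
      refine conjAut_not_mem_inn hE hn h1 (c.inn_of_stab hE (N := center G) (fun α hα x _ hx => ?_) (conjAut_mem_aut hn)
        ⟨fun x hx hz => ?_, fun x hx => ?_⟩)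
      · exact e1.ge (iso_mem_center (iso_extA le_top hα) (e1.le hx))
      · rw [extA_conjAut hn hx, mem_center_iff.1 hz u, mul_inv_cancel_right]
      · exact extA_conjAut hn hx ▸ hu' x hx
    exact hy' (a y ((eq_of_le_of_card_ge e2 (by rw [d, k.1])).ge hy))

theorem pearl_of_ps (hE : F.IsEssential p E) (h : PS p E) : (Nat.card E = p ^ 2 ∧ IsElementaryAbelian p E) ∨
    (Nat.card E = p ^ 3 ∧ IsExtraspecial p E ∧ (p ≠ 2 → Monoid.exponent E = p) ∧
      (p = 2 → Nonempty (E ≃* QuaternionGroup 2))) := by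
  obtain ⟨τ, hτ⟩ := exists_nc_of_isEssential c.pg c.sat hE
  have hG := c.mc.isPGroup.to_subgroup E
  refine h.imp (fun k => ⟨k, ?_⟩) fun k => ⟨k.1, isExtraspecial_of_card_cube k.1 (mt (commutator_eq_bot_iff E).1 k.2), ?_⟩
  · have a := (hτ.r2 hG (k ▸ Nat.le_of_dvd Nat.card_pos (frattini E).index_dvd_card)).index
    have b := (H5.frattini_eq_bot_iff hG).1 (card_eq_one.1 (card_eq_of_index (k := 0) k a))
    exact ⟨b.1, fun x hx => congrArg Subtype.val (b.2 ⟨x, hx⟩)⟩
  obtain ⟨h4, -⟩ | ⟨h3, -, h5⟩ | ⟨h4, h5⟩ := hτ.cube k.1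
  · exact (k.2 h4).elim
  · haveI : Nontrivial E := Finite.one_lt_card_iff_nontrivial.1 (k.1 ▸ Nat.one_lt_pow (by omega) hp.out.one_lt)
    exact ⟨fun _ => (Monoid.exponent_eq_prime_iff hp.out).2 fun g hg => orderOf_eq_prime (h5 g) hg,
      fun e => absurd (e ▸ h3) (by decide)⟩
  · exact ⟨fun e => (e h4).elim, fun _ => h5⟩

theorem pow_eq_one_of_comm (hE : F.IsEssential p E) (h : Nat.card E = p ^ 3) (hab : IsMulCommutative E) :
    ∀ x ∈ E, x ^ p = 1 := by
  obtain ⟨τ, hτ⟩ := exists_nc_of_isEssential c.pg c.sat hE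
  intro x hx
  obtain ⟨-, h4⟩ | ⟨-, -, h4⟩ | ⟨-, ⟨e⟩⟩ := hτ.cube h
  · exact congrArg Subtype.val (h4 ⟨x, hx⟩)
  · exact congrArg Subtype.val (h4 ⟨x, hx⟩)
  · refine absurd (congrArg e (mul_comm' (e.symm (.a 1)) (e.symm (.xa 0)))) ?_
    simp only [map_mul, MulEquiv.apply_symm_apply]
    decide

theorem eq_of_normal (hE : F.IsEssential p E) (hN : E.Normal) (hn : ∀ x ∈ E, ¬ Out n x) :
    E = C2 G 1 ∨ E = C2 G (n - 3) := by
  have h := c.mc
  have h4 := c.four
  have hs : Function.Surjective (⊤ : Subgroup G).subtype := fun x => ⟨⟨x, mem_top x⟩, rfl⟩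
  have h1 : ¬ E ≤ lc G 1 := fun e => not_le_lc_one (S := ⊤) ⟨card_top.trans h.card, h.three, fun k =>
    h.ne (by rw [← map_lc hs, k, Subgroup.map_bot])⟩ h4 c.sat hE (hN.subgroupOf _) fun x hx =>
      (mem_lc_map_iff hs ((ker_subtype _).le.trans bot_le)).1 (e hx)
  obtain ⟨j, hj⟩ := IsPGroup.iff_card.1 (h.isPGroup.to_subgroup E)
  have hlt : lc G 1 < E := lt_of_le_of_ne (by
    by_contra hc
    have : j + 2 ≤ n := by_contra fun k => hc (h.lc_le (i := 0) (j := n - 2) (by omega)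
      (hj ▸ Nat.pow_le_pow_right hp.out.pos (by omega)))
    exact h1 ((h.eq_lc (i := n - j - 2) (by omega) hj).le.trans (lc_anti (by omega)))) fun e => h1 e.ge
  exact (le_or_le_of_not_out h h4 hn).imp (fun e => eq_of_lc_one_lt h hlt e (h.cm_ne_top h4))
    fun e => eq_of_lc_one_lt h hlt e (h.cm_ne_top (by omega))

theorem exists_ext (hE : F.IsFullyNormalized E) {α : MulAut E} (hα : α ∈ F.autGroup E) {t : G}
    (ht : t ∈ normalizer (E : Set G)) (h : α * conjAut E t ht * α⁻¹ ∈ autInducedBy ⊤ E) :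
    ∃ f, Map F (E ⊔ zpowers t) f ∧ ∀ x ∈ E, f x = extA E α x := by
  have hσ := iso_extA le_top hα
  obtain ⟨τ, h1, h2⟩ := hσ.extend (receptive_of_normalized c.pg c.sat hE)
  exact ⟨τ, h1.mono (sup_le hσ.map.le_Next (zpowers_le.2 ((hσ.mem_Next_iff ⟨mem_top t, ht⟩).2
    (by rwa [tr_iso_extA])))), h2⟩

theorem ext_gam {P : Subgroup G} {f : G → G} (hf : Map F P f) (hP : P ≤ C2 G 1)
    (h : ∀ R, F.IsEssential p R → R = C2 G 1 ∨ Nat.card (R ⊓ C2 G 1 : Subgroup G) < Nat.card P) :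
    ∃ φ ∈ F.autGroup (C2 G 1), ∀ x ∈ P, extA (C2 G 1) φ x = f x := by
  obtain ⟨σ, h1, h2⟩ := alperin_induction c.pg c.sat (C := fun Q σ => Nat.card P ≤ Nat.card (Q ⊓ C2 G 1 : Subgroup G) →
    ∃ τ, Iso F (C2 G 1) (C2 G 1) τ ∧ ∀ x ∈ Q, x ∈ C2 G 1 → τ x = σ x) (fun Q R σ hR hσ hQ hc => by
      obtain rfl | hR := hR
      · exact ⟨σ, ⟨hσ.map.mono le_top, fun x => ga_one (G := G) ▸ aut_mem_ga (autOf hσ.map)⟩, fun _ _ _ => rfl⟩
      obtain rfl | hR := h R hR
      · exact ⟨σ, hσ, fun _ _ _ => rfl⟩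
      · exact absurd (hc.trans (card_le_of_le (inf_le_inf_right _ hQ))) hR.not_ge)
    (fun Q R σ τ hσ _ a b hm hc => by
      obtain ⟨σ', a1, a2⟩ := a hc
      have k : ∀ x ∈ Q, x ∈ C2 G 1 → σ x ∈ C2 G 1 := fun x hx hx' => a2 x hx hx' ▸ a1.mem hx'
      obtain ⟨τ', b1, b2⟩ := b (hc.trans ((hσ.mono inf_le_left).card_le fun x hx => ⟨hm x hx.1, k x hx.1 hx.2⟩))
      exact ⟨_, a1.trans b1, fun x hx hx' => by
        rw [Equiv.Perm.mul_apply, Equiv.Perm.mul_apply, a2 x hx hx', b2 _ (hm x hx) (k x hx hx')]⟩) hf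
  obtain ⟨τ, a1, a2⟩ := h1 (by rw [inf_eq_left.2 hP])
  obtain ⟨φ, b1, b2⟩ := a1.exists_aut
  exact ⟨φ, b1, fun x hx => by rw [b2 x (hP hx), a2 x hx (hP hx), h2 x hx]⟩

theorem ext_top {X : Set G} (hX : ∀ φ : MulAut G, ∀ x ∈ X, φ x ∈ X) {P : Subgroup G} {f : G → G} (hf : Map F P f)
    (hP : ∃ x ∈ P, x ∈ X) (h : ∀ R, F.IsEssential p R → Nat.card P ≤ Nat.card R → ∀ x ∈ R, x ∉ X) :
    ∃ φ : MulAut G, ∀ x ∈ P, φ x = f x := by
  obtain ⟨σ, h1, h2⟩ := alperin_induction c.pg c.sat (C := fun Q σ => Nat.card P ≤ Nat.card Q → (∃ x ∈ Q, x ∈ X) →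
    ∃ φ : MulAut G, ∀ x ∈ Q, φ x = σ x) (fun Q R σ hR hσ hQ hc ⟨x, hx, hx'⟩ => by
      obtain rfl | hR := hR
      · exact ⟨autOf hσ.map, fun _ _ => rfl⟩
      · exact absurd hx' (h R hR (hc.trans (card_le_of_le hQ)) x (hQ hx)))
    (fun Q R σ τ hσ _ a b hm hc ⟨x, hx, hx'⟩ => by
      obtain ⟨φ, a1⟩ := a hc ⟨x, hx, hx'⟩
      obtain ⟨ψ, b1⟩ := b (hc.trans (hσ.card_le hm)) ⟨_, hm x hx, a1 x hx ▸ hX φ x hx'⟩
      exact ⟨ψ * φ, fun x hx => by rw [MulAut.mul_apply, Equiv.Perm.mul_apply, a1 x hx, b1 _ (hm x hx)]⟩) hf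
  exact (h1 le_rfl hP).imp fun φ k x hx => (k x hx).trans (h2 x hx)

theorem normalized_aux (N : Subgroup G) [N.Normal] : F.IsFullyNormalized N :=
  isFullyNormalized_of_le_normalizer le_top N.normalizer_eq_top.ge

theorem exists_nz : ∃ D : FusionSystem (⊤ : Subgroup G), D.IsSaturated p ∧ D.IsSubsystemOf F ∧
    D.StronglyClosed (center G) ∧ ∀ (P : Subgroup G) (σ : Equiv.Perm G), center G ≤ P → Map F P σ →
      (∀ z ∈ center G, σ z ∈ center G) → Map D P σ := by
  have hn := c.normalized_aux (center G)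
  have : ∀ S₀ : Subgroup G, S₀ = NK ⊤ (stabP (center G)) → ∃ D : FusionSystem S₀, IsKSys F (center G) (stabP (center G)) D := by
    rintro _ rfl
    exact ⟨_, isKSys_ksys F le_top (kData_stabP _)⟩
  obtain ⟨D, hD⟩ := this ⊤ (by rw [NK_stabP, normalizerIn_def, normalizer_eq_top, inf_idem])
  refine ⟨D, hD.isSaturated c.pg c.sat (kData_stabP _) (centralized_of_normalized c.pg c.sat hn) ?_, hD.sub,
    stronglyClosed_iff_map.2 ⟨le_top, fun P f hf x hx hz => ?_⟩, fun P σ hP hσ hz =>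
      hD.map_of hσ le_top le_rfl hP ((hσ.mono hP).iso_self hz).mem_stabP⟩
  · rw [show (stabP (center G)).comap (extA (center G)) = ⊤ from top_le_iff.1 fun α _ => extA_mem_stabP α,
      inf_top_eq, inf_top_eq]
    exact sylowIn_of_normalized c.pg c.sat hn
  · obtain ⟨-, τ, -, h1, h2⟩ := (hD.2 P f).1 hf
    exact h1 x hx ▸ (h2 x).2 hz

theorem normalized_of_normal (N : Subgroup G) [N.Normal] : F.IsFullyNormalized N := by
  exact c.normalized_aux N

theorem syl_gam : H68.SylowIn p (MulAut.conjNormal : G →* MulAut (C2 G 1)).range (F.autGroup (C2 G 1)) := by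
  exact autInducedBy_top (C2 G 1) ▸ sylowIn_of_normalized c.pg c.sat (c.normalized_of_normal _)

theorem ext_of_gam : ∀ φ ∈ F.autGroup (C2 G 1), ∀ s ∉ C2 G 1,
    φ * MulAut.conjNormal s * φ⁻¹ ∈ (MulAut.conjNormal : G →* MulAut (C2 G 1)).range →
      ∃ ψ : MulAut G, ∀ x : C2 G 1, ψ x = φ x := by
  intro φ hφ s hs h
  obtain ⟨f, h1, h2⟩ := c.exists_ext (c.normalized_of_normal _) hφ (t := s) ((normalizer_eq_top _).ge (mem_top s))
    (autInducedBy_top (C2 G 1) ▸ h)
  have e := ga_sup c.mc c.four (i := 0) (ga_zero.ge (mem_top s)) (ga_one (G := G) ▸ hs)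
  rw [zero_add, ga_one, ga_zero] at e
  obtain ⟨σ, h3, h4⟩ := (e ▸ h1).exists_perm
  exact ⟨autOf h3, fun x => (h4 x (mem_top _)).trans ((h2 x x.2).trans (extA_coe φ x))⟩

end Ctx

namespace Bad

variable (b : Bad p n F E)
include b

theorem not_normal_aux : ¬ E.Normal := fun k => b.ne (by
  have := b.four
  rcases b.toCtx.eq_of_normal b.ess k fun x hx k => b.nps (b.toCtx.ps_of_out b.ess k hx) with e | e <;>
    rw [e, card_C2 b.mc b.four (by omega) (by omega)])

theorem not_out {t : G} (ht : t ∈ normalizer (E : Set G)) : ¬ Out n t := by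
  have h := fun x hx k => b.nps (b.toCtx.ps_of_out b.ess (s := x) k hx)
  exact fun k => b.not_normal_aux (k.normal b.mc b.four (le_or_le_of_not_out b.mc b.four h)
    fun x hx => (mem_normalizer_iff.1 ht x).1 hx)

theorem not_normal : ¬ E.Normal := by
  exact b.not_normal_aux

theorem le_card : p ^ 3 ≤ Nat.card E := by
  obtain ⟨m, hm⟩ := IsPGroup.iff_card.1 (b.mc.isPGroup.to_subgroup E)
  have h2 := card_mul_le_of_lt (b.mc.isPGroup.to_subgroup E) (lt_of_le_of_ne (ess_center_le b.ess) fun e =>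
    (lt_of_isEssential b.pg b.sat b.ess).not_ge fun x _ => ess_cent_le b.ess fun y hy =>
      (mem_center_iff.1 (e.ge hy) x).symm)
  rw [b.mc.card_center, ← sq, hm, Nat.pow_le_pow_iff_right hp.out.one_lt] at h2
  exact hm ▸ Nat.pow_le_pow_right hp.out.pos (lt_of_le_of_ne h2 fun e => b.nps (.inl (e ▸ hm)))

end Bad

omit hp [Finite G] in
theorem eqns_fd : True := by
  have := @PS.eq_1.{0}
  have := @St1.eq_1.{0}
  have := @autOf.eq_1.{0}
  trivial

end H90.MX
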