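import Mathlib
import Cfsg.Agent.Lib.MX.FD
import Cfsg.Agent.Lib.Fusion.Group
import Cfsg.Agent.Lib.Core.PCore

/-! Groups with a Sylow subgroup of maximal class: the normal subgroups (helper56, for S3865). -/

set_option autoImplicit false
set_option linter.unusedSectionVars false

namespace H56.Dich

open Subgroup Cfsg Cfsg.FusionSystem H83.Krek H93 H90 H90.MX
open scoped commutatorElement

universe u

section pgroup

variable {p n : ℕ} [hp : Fact p.Prime] {X : Type u} [Group X] [Finite X]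
  {F : FusionSystem (⊤ : Subgroup X)} {E : Subgroup X}

/-- the non-uniform elements of an essential subgroup with a uniform element lie in `Z₂` -/
theorem ess_mem (c : Ctx p n F) (hE : F.IsEssential p E) {s t : X} (hs : Out n s) (hsE : s ∈ E)
    (ht : ¬ Out n t) (htE : t ∈ E) : t ∈ ga X (n - 2) := by
  have h4 := c.four
  have hm := c.mc
  obtain ⟨D, h1, h2, h3⟩ : ∃ D : Subgroup X, lc X 1 ≤ D ∧ s ∉ D ∧ t ∈ D := by
    rw [out_iff hm h4] at hs ht
    by_cases h : t ∈ C2 X 1
    · exact ⟨_, lc_one_le_C2 1, hs.1, h⟩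
    · exact ⟨_, lc_one_le_C2 _, hs.2, by_contra fun e => ht ⟨h, e⟩⟩
  have hlt := card_mul_le_of_lt (hm.isPGroup.to_subgroup E)
    (lt_of_le_of_ne (inf_le_left : E ⊓ D ≤ E) fun e => h2 (e.ge hsE).2)
  have hZ := ess_center_le hE
  obtain k | k := c.ps_of_out hE hs hsE
  · rw [k, sq] at hlt
    have e := eq_of_le_of_card_ge (le_inf hZ ((center_le_lc_one hm).trans h1))
      (by rw [hm.card_center]; exact Nat.le_of_mul_le_mul_right hlt hp.out.pos)
    exact ga_anti (by omega) ((ga_center hm h4).ge (e.ge ⟨htE, h3⟩))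
  · have b : ∀ x : X, ∀ u ∈ ga X (n - 2), ⁅x, u⁆ ∈ center X := fun x u hu => by
      have := comm_mem_ga_succ x (by omega) hu
      rwa [show n - 2 + 1 = n - 1 by omega, ga_center hm h4] at this
    have e1 : center X = centralizerIn E E :=
      eq_of_le_of_card_ge (le_inf hZ (center_le_centralizer _))
        (by rw [card_center_cube k.1 k.2, hm.card_center])
    have e2 : ga X (n - 2) ≤ E := fun u hu => by
      have hu' : ∀ x ∈ E, x⁻¹ * (u * x * u⁻¹) ∈ center X := fun x _ => by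
        simpa [commutatorElement_def, mul_assoc] using b x⁻¹ u hu
      have hn : u ∈ normalizer (E : Set X) := H90.mem_normalizer_of_conj_mem fun x hx =>
        (mul_mem_cancel_left (inv_mem hx)).1 (hZ (hu' x hx))
      by_contra h1
      refine conjAut_not_mem_inn hE hn h1 (c.inn_of_stab hE (N := center X) (fun α hα x _ hx => ?_)
        (conjAut_mem_aut hn) ⟨fun x hx hz => ?_, fun x hx => ?_⟩)
      · exact e1.ge (iso_mem_center (iso_extA le_top hα) (e1.le hx))
      · rw [extA_conjAut hn hx, mem_center_iff.1 hz u, mul_inv_cancel_right]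
      · exact extA_conjAut hn hx ▸ hu' x hx
    have d := card_ga hm h4 (i := n - 2) (by omega)
    rw [show n - (n - 2) = 2 by omega] at d
    rw [k.1, pow_succ] at hlt
    have e := eq_of_le_of_card_ge (le_inf e2 ((ga_anti (by omega)).trans (ga_two.le.trans h1)))
      (by rw [d]; exact Nat.le_of_mul_le_mul_right hlt hp.out.pos)
    exact e.ge ⟨htE, h3⟩

theorem eq_top_of_out {A B K : Subgroup X} (h0 : ∃ s, s ∉ A ∧ s ∉ B) [A.Normal] [B.Normal]
    (h : A = B ∨ ∀ s : X, s ∈ zpowers (s * s)) (hK : ∀ s, s ∉ A → s ∉ B → s ∈ K) : K = ⊤ := by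
  obtain ⟨s, sA, sB⟩ := h0
  have key : ∀ A B : Subgroup X, B.Normal → s ∉ A → s ∉ B → (A = B ∨ ∀ s : X, s ∈ zpowers (s * s)) →
      (∀ s, s ∉ A → s ∉ B → s ∈ K) → ∀ x ∈ A, x ∈ K := by
    intro A B _ sA sB h hK x hx
    have h1 : x * s ∉ A := fun e => sA ((mul_mem_cancel_left hx).1 e)
    have h2 : x * s⁻¹ ∉ A := fun e => sA (inv_mem_iff.1 ((mul_mem_cancel_left hx).1 e))
    have sK := hK s sA sB
    by_cases e1 : x * s ∈ B
    · by_cases e2 : x * s⁻¹ ∈ B
      · rcases h with rfl | h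
        · exact absurd e1 h1
        · refine absurd (zpowers_le.2 ?_ (h s)) sB
          simpa [mul_assoc] using mul_mem (inv_mem e2) e1
      · exact (mul_mem_cancel_right (inv_mem sK)).1 (hK _ h2 e2)
    · exact (mul_mem_cancel_right sK).1 (hK _ h1 e1)
  refine eq_top_iff.2 fun x _ => ?_
  by_cases hA : x ∈ A
  · exact key A B inferInstance sA sB h hK x hA
  by_cases hB : x ∈ B
  · exact key B A inferInstance sB sA (h.imp Eq.symm id) (fun s a b => hK s b a) x hB
  exact hK x hA hB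

/-- the uniform elements generate -/
theorem eq_top_of_uni (hm : MC p n X) {K : Subgroup X}
    (hK : ∀ s : X, Out n s → s ∉ lc X 1 → s ∈ K) : K = ⊤ := by
  obtain h3 | h4 := eq_or_lt_of_le hm.three
  · have hne : lc X 1 ≠ ⊤ := fun e => hm.not_lc_le (i := 0) (by omega) (le_top.trans e.ge)
    exact eq_top_of_out (exists_not_mem_two hm hne hne) (Or.inl rfl) fun s h _ =>
      hK s (fun i h1 h2 => by omega) h
  refine eq_top_of_out (exists_not_mem_two hm (A := C2 X 1) (B := C2 X (n - 3))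
    (hm.cm_ne_top h4) (hm.cm_ne_top (by omega))) ?_ fun s h1 h2 => ?_
  · by_cases e : C2 X (n - 3) = C2 X 1
    · exact Or.inl e.symm
    refine Or.inr fun s => ?_
    obtain ⟨k, hk⟩ := IsPGroup.iff_orderOf.1 hm.isPGroup s
    rw [← pow_two]
    refine mem_zpowers_pow_iff.2 ?_
    rw [hk]
    exact ((Nat.coprime_primes Nat.prime_two hp.out).2 (exc_ne_two hm h4 e).symm).pow_right k
  · have := (out_iff hm h4).2 ⟨h1, h2⟩
    exact hK s this (this.not_mem_lc h4)

end pgroup

variable {G : Type u} [Group G]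

/-- the fusion system of `G` on the type of a subgroup -/
def grpF (T : Subgroup G) : FusionSystem (⊤ : Subgroup T) where
  Hom Q := {φ | ∃ g : G, ∀ x : Q, ((φ x : T) : G) = g * ((x : T) : G) * g⁻¹}
  le_of_mem _ := ⟨le_top, fun _ => trivial⟩
  injective_of_mem := by
    rintro Q φ ⟨g, e⟩ x y h
    have := e x
    rw [h, e y] at this
    exact Subtype.ext (Subtype.ext (mul_left_cancel (mul_right_cancel this))).symm
  conj_mem := fun {_ g} _ _ => ⟨g, fun _ => rfl⟩
  comp_mem := by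
    rintro Q R φ ψ ⟨g, e⟩ ⟨g', e'⟩ h
    refine ⟨g' * g, fun x => (e' _).trans ?_⟩
    change g' * ((φ x : T) : G) * g'⁻¹ = _
    rw [e x]; group
  inv_mem := by
    rintro Q φ ⟨g, e⟩
    have hi : Function.Injective φ := fun x y h => by
      have := e x
      rw [h, e y] at this
      exact Subtype.ext (Subtype.ext (mul_left_cancel (mul_right_cancel this))).symm
    have k : ∀ x : Q, (MonoidHom.ofInjective hi).symm ⟨φ x, x, rfl⟩ = x := fun x =>
      (MonoidHom.ofInjective hi).symm_apply_apply x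
    refine ⟨Q.subtype.comp (MonoidHom.ofInjective hi).symm.toMonoidHom, ⟨g⁻¹, ?_⟩, fun x =>
      congrArg Subtype.val (k x)⟩
    rintro ⟨_, x, rfl⟩
    change ((((MonoidHom.ofInjective hi).symm ⟨φ x, x, rfl⟩ : Q) : T) : G) = _ * ((φ x : T) : G) * _
    rw [k x, e x]; group

theorem grpF_real (T : Subgroup G) :
    (grpF T).IsRealizedBy (T.subtype.comp (⊤ : Subgroup T).subtype) :=
  ⟨T.subtype_injective.comp (subtype_injective _), fun _ _ _ _ => Iff.rfl⟩

theorem grpF_map {T : Subgroup G} {Q : Subgroup T} {f : T → T} (h : Map (grpF T) Q f) {x : T}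
    (hx : x ∈ Q) : IsConj (x : G) (f x) := by
  obtain ⟨φ, ⟨g, e⟩, e'⟩ := h
  exact isConj_iff.2 ⟨g, ((e' ⟨x, hx⟩).symm ▸ e ⟨x, hx⟩ :).symm⟩

variable [Finite G] {p n : ℕ} [hp : Fact p.Prime] (P : Sylow p G)

theorem exists_conj_ne
    (hno : ∀ x ∈ (P : Subgroup G), (Nat.card (centralizer ({x} : Set G))).factorization p ≠ 2)
    (s : (P : Subgroup G)) : ∃ y : (P : Subgroup G), IsConj (s : G) y ∧
      Nat.card (centralizer ({y} : Set (P : Subgroup G))) ≠ p ^ 2 := by
  obtain ⟨g, -, h1, h2⟩ := (syl_top P).exists_conj_inf (L := centralizer {(s : G)}) le_top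
    (P.isPGroup'.to_le (zpowers_le.2 s.2))
    (zpowers_le.2 (mem_centralizer_singleton_iff.2 rfl))
  have e : (centralizer {(s : G)}).map (MulAut.conj g).toMonoidHom =
      centralizer {g * s * g⁻¹} := by
    ext x
    rw [mem_map_conj, mem_centralizer_singleton_iff, mem_centralizer_singleton_iff]
    constructor
    · intro h
      calc x * (g * s * g⁻¹) = g * (g⁻¹ * x * g * s) * g⁻¹ := by group
        _ = g * s * g⁻¹ * x := by rw [h]; group
    · intro h
      calc g⁻¹ * x * g * s = g⁻¹ * (x * (g * s * g⁻¹)) * g := by group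
        _ = s * (g⁻¹ * x * g) := by rw [h]; group
  rw [e] at h2
  have hy := h1 _ (mem_zpowers _)
  refine ⟨⟨_, hy⟩, isConj_iff.2 ⟨g, rfl⟩, fun hc => hno _ hy ?_⟩
  obtain ⟨R, hR⟩ := h2.exists_sylow
  have c1 := R.card_eq_multiplicity
  have c2 : Nat.card R = p ^ 2 := by
    rw [← hc]
    rw [hR, Nat.card_congr (subgroupOfEquivOfLe inf_le_right).toEquiv,
      ← Nat.card_congr (subgroupOfEquivOfLe (inf_le_left)).toEquiv]
    congr 2
    ext x
    rw [mem_subgroupOf, mem_centralizer_singleton_iff, mem_inf, mem_centralizer_singleton_iff,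
      Subtype.ext_iff]
    exact ⟨fun h => h.2, fun h => ⟨x.2, h⟩⟩
  exact Nat.pow_right_injective hp.out.two_le (c1.symm.trans c2)

/-- the uniform elements are conjugate into `Z₂` -/
theorem uni_conj (hm : MC p n (P : Subgroup G))
    (hno : ∀ x ∈ (P : Subgroup G), (Nat.card (centralizer ({x} : Set G))).factorization p ≠ 2)
    {s : (P : Subgroup G)} (hs : Out n s) :
    ∃ w ∈ lc (P : Subgroup G) (max 1 (n - 3)), IsConj (s : G) w := by
  obtain ⟨y, hy, hc⟩ := exists_conj_ne P hno s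
  obtain h3 | h4 := eq_or_lt_of_le hm.three
  · refine ⟨y, ?_, hy⟩
    rw [show max 1 (n - 3) = 1 by omega]
    by_contra h
    exact hc (Out.card_centralizer hm (fun i h1 h2 => by omega) h)
  have c : Ctx p n (grpF (P : Subgroup G)) := ⟨hm, h4, isSaturated_of_isRealizedBy (grpF_real _) P (by
    rw [MonoidHom.range_comp, range_subtype, ← MonoidHom.range_eq_map, range_subtype])⟩
  rw [show max 1 (n - 3) = n - 2 - 1 by omega, ← ga_eq_lc (by omega)]
  by_contra hw
  obtain ⟨g, e⟩ := isConj_iff.1 hy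
  obtain ⟨φ, hφ, e1⟩ := exists_Hom_conj (grpF_real (P : Subgroup G)) (P := zpowers s) le_top g
    (fun x hx => by
      obtain ⟨i, rfl⟩ := mem_zpowers_iff.1 hx
      refine ⟨⟨y ^ i, trivial⟩, ?_⟩
      rw [ext_of_mem (mem_top _)]
      change (y : G) ^ i = g * (s : G) ^ i * g⁻¹
      rw [← e, conj_zpow])
  obtain ⟨σ, h1, h2⟩ := alperin_induction c.pg c.sat (C := fun Q σ => ∀ x ∈ Q, Out n x →
      (¬ ∃ w ∈ ga (P : Subgroup G) (n - 2), IsConj (x : G) w) → Out n (σ x))
    (fun Q R σ hR hσ hQ x hx ho hw => by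
      obtain rfl | hR := hR
      · exact ho.aut (autOf hσ.map)
      · by_contra hn
        exact hw ⟨_, ess_mem c hR ho (hQ hx) hn (hσ.mem (hQ hx)), grpF_map hσ.map (hQ hx)⟩)
    (fun Q R σ τ hσ _ a b hmem x hx ho hw => b _ (hmem x hx) (a x hx ho hw)
      fun ⟨w, h1, h2⟩ => hw ⟨w, h1, (grpF_map hσ hx).trans h2⟩) (map_fn hφ)
  have h3 := h1 s (mem_zpowers s) hs hw
  have e2 := e1 ⟨s, mem_zpowers s⟩
  rw [ext_of_mem (mem_top _), ext_of_mem (mem_top _)] at e2
  rw [h2 s (mem_zpowers s), fn_of_mem φ (mem_zpowers s),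
    show φ ⟨s, mem_zpowers s⟩ = y from Subtype.ext (e2.trans e)] at h3
  exact hc (Out.card_centralizer hm h3 (h3.not_mem_lc h4))

theorem eq_top_of_le (hres : ∀ N : Subgroup G, N.Normal → (N.index).Coprime p → N = ⊤)
    {N : Subgroup G} (hN : N.Normal) (h : (P : Subgroup G) ≤ N) : N = ⊤ :=
  hres N hN ((Nat.Prime.coprime_iff_not_dvd hp.out).2 fun e =>
    P.not_dvd_index (e.trans (index_dvd_of_le h))).symm

/-- a normal subgroup that meets `P` in `Z(P)` -/
theorem le_of_inf (hm : MC p n (P : Subgroup G)) (hcore : pPrimeCore p G = ⊥) {N : Subgroup G}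
    [hN : N.Normal] (h : N.subgroupOf P = center (P : Subgroup G)) : N ≤ P := by
  set Z : Subgroup G := (P : Subgroup G) ⊓ N with hZ
  have cZ : ∀ x ∈ (P : Subgroup G), ∀ z ∈ Z, x * z = z * x := fun x hx z hz =>
    congrArg Subtype.val (mem_center_iff.1 (h.le (show (⟨z, hz.1⟩ : (P : Subgroup G)) ∈ _ from hz.2))
      ⟨x, hx⟩)
  have PZ : (P : Subgroup G) ≤ centralizer Z := fun x hx z hz => (cZ x hx z hz).symm
  have k1 : ∀ m ∈ N, (∀ x ∈ (P : Subgroup G), m * x * m⁻¹ ∈ (P : Subgroup G)) →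
      m ∈ centralizer (Z : Set G) := by
    intro m hmN hmP
    have hz : ∀ x ∈ (P : Subgroup G), m * x * m⁻¹ * x⁻¹ ∈ Z := fun x hx =>
      mem_inf.2 ⟨mul_mem (hmP x hx) (inv_mem hx), by
        simpa [mul_assoc] using mul_mem hmN (hN.conj_mem _ (inv_mem hmN) x)⟩
    have : lc (P : Subgroup G) 1 ≤ (centralizer {m}).subgroupOf P := by
      refine commutator_le.2 fun x _ y _ => mem_centralizer_singleton_iff.2 ?_
      obtain ⟨x, hx⟩ := x
      obtain ⟨y, hy⟩ := y
      change ⁅x, y⁆ * m = m * ⁅x, y⁆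
      obtain ⟨a, ha, ea⟩ : ∃ a ∈ Z, m * x * m⁻¹ = a * x := ⟨_, hz x hx, by group⟩
      obtain ⟨b, hb, eb⟩ : ∃ b ∈ Z, m * y * m⁻¹ = b * y := ⟨_, hz y hy, by group⟩
      have c1 : Commute a ⁅x, b * y⁆ := (cZ _ (mul_mem (mul_mem (mul_mem hx (mul_mem hb.1 hy))
        (inv_mem hx)) (inv_mem (mul_mem hb.1 hy))) a ha).symm
      have c2 : Commute a (b * y) := (cZ _ (mul_mem hb.1 hy) a ha).symm
      have c3 : Commute x b := cZ x hx b hb
      have c4 : Commute b ⁅x, y⁆ := (cZ _ (mul_mem (mul_mem (mul_mem hx hy)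
        (inv_mem hx)) (inv_mem hy)) b hb).symm
      have e1 : ⁅a * x, b * y⁆ = ⁅x, b * y⁆ := by
        calc ⁅a * x, b * y⁆ = a * ⁅x, b * y⁆ * a⁻¹ * ⁅a, b * y⁆ := by
              simp only [commutatorElement_def]; group
          _ = ⁅x, b * y⁆ := by rw [c2.commutator_eq, c1.eq]; group
      have e2 : ⁅x, b * y⁆ = ⁅x, y⁆ := by
        calc ⁅x, b * y⁆ = ⁅x, b⁆ * (b * ⁅x, y⁆) * b⁻¹ := by
              simp only [commutatorElement_def]; group
          _ = ⁅x, y⁆ := by rw [c3.commutator_eq, c4.eq]; group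
      calc ⁅x, y⁆ * m = ⁅m * x * m⁻¹, m * y * m⁻¹⁆ * m := by rw [ea, eb, e1, e2]
        _ = m * ⁅x, y⁆ := by simp only [commutatorElement_def]; group
    intro z hz
    exact mem_centralizer_singleton_iff.1 (this (center_le_lc_one hm
      (h.le (show (⟨z, hz.1⟩ : (P : Subgroup G)) ∈ _ from hz.2))))
  have k2 : ∀ m ∈ N, (∀ z ∈ Z, m⁻¹ * z * m ∈ Z) → m ∈ centralizer (Z : Set G) := by
    intro m hmN hmZ
    obtain ⟨k, hk, e⟩ := ((syl_top P).mono (L := ((P : Subgroup G) ⊔ N) ⊓ centralizer Z)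
      (le_inf le_sup_left PZ) le_top).conj _ (P.isPGroup'.map (MulAut.conj m).toMonoidHom) (by
        rintro _ ⟨x, hx, rfl⟩
        refine mem_inf.2 ⟨mul_mem (mul_mem (mem_sup_right hmN) (mem_sup_left hx))
          (inv_mem (mem_sup_right hmN)), fun z hz => ?_⟩
        change z * (m * x * m⁻¹) = m * x * m⁻¹ * z
        calc z * (m * x * m⁻¹) = m * ((m⁻¹ * z * m) * x) * m⁻¹ := by group
          _ = m * x * m⁻¹ * z := by rw [← cZ x hx _ (hmZ z hz)]; group)
    obtain ⟨u, hu, m', hm', e'⟩ := mem_sup_of_normal_right.1 (mul_mem (mem_inf.1 hk).1 (mem_sup_right hmN))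
    have := k1 m' hm' fun x hx => by
      have h1 := mul_mem (mul_mem (inv_mem hu) (e _ ⟨x, hx, rfl⟩)) hu
      convert h1 using 1
      change _ = u⁻¹ * (k * (m * x * m⁻¹) * k⁻¹) * u
      rw [show m' = u⁻¹ * (k * m) by rw [← e']; group]
      group
    exact (mul_mem_cancel_left (mem_inf.1 hk).2).1 (e' ▸ mul_mem (PZ hu) this)
  obtain ⟨R, hR⟩ := ((syl_top P).inf_normal (L := N) le_top fun k _ x hx =>
    hN.conj_mem x hx k).exists_sylow
  have hB : normalizer ((R : Subgroup N) : Set N) ≤ centralizer ((R : Subgroup N) : Set N) := by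
    rw [hR]
    intro m hm z hz
    refine Subtype.ext (k2 m m.2 (fun z hz => ?_) z hz)
    exact (mem_normalizer_iff''.1 hm ⟨z, hz.2⟩).1 hz
  have hK := MonoidHom.ker_transferSylow_isComplement' R hB
  have hK1 : (MonoidHom.transferSylow R hB).ker = ⊥ := by
    have h1 := (map_mono (H1.le_pPrimeCore_of_not_dvd
      (MonoidHom.not_dvd_card_ker_transferSylow R hB))).trans (H1.map_subtype_pPrimeCore_le N)
    rw [hcore, le_bot_iff] at h1
    exact (map_eq_bot_iff_of_injective _ N.subtype_injective).1 h1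
  rw [hK1, isComplement'_bot_left, hR] at hK
  exact fun x hx => (hK.ge (mem_top ⟨x, hx⟩)).1

theorem normal_cases (hm : MC p n (P : Subgroup G)) (hcore : pPrimeCore p G = ⊥)
    (hres : ∀ N : Subgroup G, N.Normal → (N.index).Coprime p → N = ⊤)
    (hno : ∀ x ∈ (P : Subgroup G), (Nat.card (centralizer ({x} : Set G))).factorization p ≠ 2)
    (N : Subgroup G) [hN : N.Normal] :
    N = ⊥ ∨ N = ⊤ ∨ 4 ≤ n ∧ N ≤ center G ∧ Nat.card N = p := by
  have h3 := hm.three
  have big : lc (P : Subgroup G) (max 1 (n - 3)) ≤ N.subgroupOf P → N = ⊤ := fun h =>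
    eq_top_of_le P hres hN (subgroupOf_eq_top.1 (eq_top_of_uni hm fun s hs _ => by
      obtain ⟨w, hw, e⟩ := uni_conj P hm hno hs
      obtain ⟨g, e⟩ := isConj_iff.1 e.symm
      rw [mem_subgroupOf, ← e]
      exact hN.conj_mem _ (h hw) g))
  obtain ⟨k, hk⟩ := IsPGroup.iff_card.1 (hm.isPGroup.to_subgroup (N.subgroupOf P))
  obtain rfl | k1 := Nat.eq_zero_or_pos k
  · refine Or.inl (le_bot_iff.1 (hcore ▸ H1.le_pPrimeCore_of_not_dvd fun hd => ?_))
    obtain ⟨x, hx⟩ := exists_prime_orderOf_dvd_card' p hd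
    obtain ⟨g, -, e⟩ := (syl_top P).conj (zpowers (x : G)) (IsPGroup.of_card (n := 1)
      (by rw [Nat.card_zpowers, Subgroup.orderOf_coe, hx, pow_one])) le_top
    have h1 : (⟨_, e _ (mem_zpowers _)⟩ : (P : Subgroup G)) ∈ N.subgroupOf P := hN.conj_mem _ x.2 g
    rw [card_eq_one.1 (hk.trans (pow_zero p)), mem_bot, Subtype.ext_iff] at h1
    rw [show x = 1 from Subtype.ext (conj_eq_one_iff.1 h1), orderOf_one] at hx
    exact hp.out.one_lt.ne hx
  refine Or.inr ?_
  obtain h3 | h4 := eq_or_lt_of_le h3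
  · refine Or.inl (big ?_)
    rw [show max 1 (n - 3) = 0 + 1 by omega]
    exact hm.lc_le (j := 1) (by omega) (hk ▸ Nat.pow_le_pow_right hp.out.pos k1)
  obtain rfl | k2 := eq_or_lt_of_le (show 1 ≤ k from k1)
  · have e : N.subgroupOf P = center (P : Subgroup G) := by
      rw [hm.center_eq, show n - 2 = n - 3 + 1 by omega]
      exact hm.eq_lc (j := 1) (by omega) hk
    have hle := le_of_inf P hm hcore e
    refine Or.inr ⟨h4, ?_, ?_⟩
    · have := eq_top_of_le P hres (N := centralizer N) inferInstance fun x hx z hz =>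
        (congrArg Subtype.val (mem_center_iff.1
          (e.le (show (⟨z, hle hz⟩ : (P : Subgroup G)) ∈ _ from hz)) ⟨x, hx⟩)).symm
      exact fun z hz => mem_center_iff.2 fun g => (this.ge (mem_top g) z hz).symm
    · rw [← Nat.card_congr (subgroupOfEquivOfLe hle).toEquiv, hk]
      simp
  · refine Or.inl (big ?_)
    rw [show max 1 (n - 3) = n - 4 + 1 by omega]
    exact hm.lc_le (j := 2) (by omega) (hk ▸ Nat.pow_le_pow_right hp.out.pos k2)

theorem quasisimple (hm : MC p n (P : Subgroup G)) (hcore : pPrimeCore p G = ⊥)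
    (hres : ∀ N : Subgroup G, N.Normal → (N.index).Coprime p → N = ⊤)
    (hno : ∀ x ∈ (P : Subgroup G), (Nat.card (centralizer ({x} : Set G))).factorization p ≠ 2) :
    IsQuasisimple G ∧ Nat.card (center G) ≤ p := by
  have h3 := hm.three
  have hc := normal_cases P hm hcore hres hno
  have l1 : lc (P : Subgroup G) 1 ≤ (commutator G).subgroupOf P :=
    commutator_le.2 fun x _ y _ => commutator_mem_commutator (mem_top (x : G)) (mem_top (y : G))
  have c1 : commutator G ≠ ⊥ := fun e => hm.lc_ne (i := 1) (by omega) (by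
    rw [e, bot_subgroupOf] at l1
    exact le_bot_iff.1 l1)
  have c2 : center G ≠ ⊤ := fun e => c1 (le_bot_iff.1 (commutator_le.2 fun x _ y _ =>
    commutatorElement_eq_one_iff_mul_comm.2 (mem_center_iff.1 (e.ge (mem_top y)) x)))
  refine ⟨⟨⟨?_⟩, ?_⟩, ?_⟩
  · obtain e | e | ⟨h4, e, -⟩ := hc (commutator G)
    · exact absurd e c1
    · exact e
    · refine absurd (le_bot_iff.1 (commutator_le.2 fun x hx y _ => ?_)) (hm.lc_ne (i := 2) h4)
      exact commutatorElement_eq_one_iff_mul_comm.2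
        (Subtype.ext (mem_center_iff.1 (e (l1 hx)) y).symm)
  · have : Nontrivial (G ⧸ center G) := QuotientGroup.nontrivial_iff.2 c2
    refine ⟨fun M hM => ?_⟩
    have hM' := map_comap_eq_self_of_surjective (QuotientGroup.mk'_surjective (center G)) M
    have bot : M.comap (QuotientGroup.mk' (center G)) ≤ center G → M = ⊥ := fun e => by
      rw [← hM', Subgroup.map_eq_bot_iff, QuotientGroup.ker_mk']
      exact e
    obtain e | e | ⟨-, e, -⟩ := hc (M.comap (QuotientGroup.mk' (center G)))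
    · exact Or.inl (bot (e.le.trans bot_le))
    · refine Or.inr ?_
      rw [← hM', e, map_top_of_surjective _ (QuotientGroup.mk'_surjective _)]
    · exact Or.inl (bot e)
  · obtain e | e | ⟨-, -, e⟩ := hc (center G)
    · rw [e, card_bot]
      exact hp.out.pos
    · exact absurd e c2
    · exact e.le

end H56.Dich
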