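import Mathlib
import Cfsg.Agent.Base
import Cfsg.Agent.Lib.MX.Gam
import Cfsg.Agent.Lib.Core.CoprimeExt
import Cfsg.Agent.Lib.Fusion.Sat

set_option autoImplicit false
set_option linter.unusedSectionVars false

namespace H90.MX

open Subgroup Cfsg H83.Krek H93
open scoped commutatorElement

universe u

variable {G : Type u} [Group G] [Finite G] {p n m j : ℕ} [hp : Fact p.Prime]

namespace PU

open H2

theorem ext_mem {A H : Type*} [Group A] [Finite A] [Group H] [Finite H] (φ : A →* MulAut H)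
    {R N : Subgroup H} (hR : ∀ a, ∀ x ∈ R, φ a x ∈ R) (hN : ∀ a, ∀ x ∈ N, φ a x ∈ N)
    (hRN : ⁅R, R⁆ ≤ N) (hc : (Nat.card A).Coprime (Nat.card H)) {x : H} (hx : x ∈ actComm φ R ⊤)
    (hf : ∀ a, x⁻¹ * φ a x ∈ N) : x ∈ N := by
  refine (inl_mem_sdL (φ := φ)).1 (mem_of_mem_commutator_of_fixed (A := sdR φ ⊤) (K := sdL φ R)
    (sdR_le_normalizer_iff.2 fun b _ => hR b) (sdR_le_normalizer_iff.2 fun b _ => hN b) ?_
    ((sd_coprime (φ := φ) (U := R) (B := ⊤) (coprime_subgroups hc)).coprime_dvd_right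
      (relIndex_dvd_card _ _)) (sdL_actComm (φ := φ) R ⊤ ▸ inl_mem_sdL.2 hx) ?_)
  · rw [← map_commutator]
    exact map_mono hRN
  · rintro _ ⟨b, -, rfl⟩
    rw [← map_inv, commutator_inl_inr]
    exact inl_mem_sdL.2 (hf b)

theorem pow_mem_of_sylow {H : Type*} [Group H] [Finite H] {K N : Subgroup H} [N.Normal]
    (h : ∀ q, q.Prime → q ≠ p → ∀ Q : Sylow q K, (Q : Subgroup K).map K.subtype ≤ N) {x : H}
    (hx : x ∈ K) : ∃ e, x ^ p ^ e ∈ N := by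
  have e := Nat.eq_prime_pow_of_unique_prime_dvd (n := (N.subgroupOf K).index) (p := p)
    index_ne_zero_of_finite fun {q} hq hd => by
      by_contra k
      have := Fact.mk hq
      obtain ⟨Q⟩ : Nonempty (Sylow q K) := inferInstance
      exact Q.not_dvd_index (hd.trans (index_dvd_of_le (map_le_iff_le_comap.1 (h q hq k Q))))
  exact ⟨_, e ▸ (N.subgroupOf K).pow_index_mem ⟨x, hx⟩⟩

/-- elements of `H` acting trivially on `Y` modulo the kernel of `π` -/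
def tr {Γ Q : Type*} [Group Γ] [Group Q] (π : Γ →* Q) (H : Subgroup (MulAut Γ)) (Y : Subgroup Γ)
    (hY : ∀ φ ∈ H, ∀ y ∈ Y, φ y ∈ Y) : Subgroup H where
  carrier := {φ | ∀ y ∈ Y, π (φ.1 y) = π y}
  one_mem' := fun _ _ => rfl
  mul_mem' := fun {a b} ha hb y hy => (ha _ (hY _ b.2 y hy)).trans (hb y hy)
  inv_mem' := fun {a} ha y hy => by
    have := ha _ (hY _ (a⁻¹).2 y hy)
    simpa using this.symm

theorem tr_normal {Γ Q : Type*} [Group Γ] [Group Q] (π : Γ →* Q) (H : Subgroup (MulAut Γ))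
    (Y : Subgroup Γ) (hY : ∀ φ ∈ H, ∀ y ∈ Y, φ y ∈ Y) (hi : ∀ φ ∈ H, ∀ x, π x = 1 → π (φ x) = 1) :
    (tr π H Y hY).Normal := ⟨fun a ha b y hy => by
  have h1 : π (a.1 (b.1⁻¹ y)) = π (b.1⁻¹ y) := ha _ (hY _ (b⁻¹).2 y hy)
  have h2 := hi _ b.2 ((b.1⁻¹ y)⁻¹ * a.1 (b.1⁻¹ y)) (by rw [map_mul, h1]; simp)
  rw [map_mul, map_mul, map_inv, map_inv, inv_mul_eq_one, MulAut.apply_inv_self] at h2
  exact h2.symm⟩

end PU

theorem u_lemma (h : MC p n G) (h4 : 4 ≤ n) (h3 : 3 ≤ m) (hm : m ≤ n) (k : NE G m) {K : Subgroup (MulAut (C2 G 1))}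
    (hK : ¬ p ∣ Nat.card K) {s : G} (hs : s ∉ C2 G 1)
    (hn : MulAut.conjNormal s ∈ normalizer (K : Set (MulAut (C2 G 1))))
    (hi : ∀ φ ∈ K, ∀ x : C2 G 1, (x : G) ∈ ga G m → (φ x : G) ∈ ga G m)
    (h1 : ∀ φ ∈ K, ∀ x : C2 G 1, (x : G) ∈ ga G (m - 1) → (x : G)⁻¹ * φ x ∈ ga G m) :
    ∀ φ ∈ K, ∀ x : C2 G 1, (x : G)⁻¹ * φ x ∈ ga G m := by
  have ho := k.out hs
  let π : C2 G 1 →* G ⧸ ga G m := (QuotientGroup.mk' _).comp (C2 G 1).subtype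
  have hπ : ∀ a b : C2 G 1, π a = π b ↔ (a : G)⁻¹ * b ∈ ga G m := fun a b => QuotientGroup.eq
  set c := (MulAut.conjNormal s : MulAut (C2 G 1)) with hc
  have cK : ∀ φ ∈ K, c * φ * c⁻¹ ∈ K := fun φ hφ => (mem_normalizer_iff.1 hn φ).1 hφ
  have cK' : ∀ φ ∈ K, c⁻¹ * φ * c ∈ K := fun φ hφ => by
    simpa using (mem_normalizer_iff.1 (inv_mem hn) φ).1 hφ
  have eqg : ∀ {l} {D : Subgroup (C2 G 1)}, 1 ≤ l → l ≤ m → (ga G l).subgroupOf _ ≤ D →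
      (∀ x ∈ D, c x ∈ D) → ∃ i, 1 ≤ i ∧ i ≤ l ∧ ∀ x : C2 G 1, x ∈ D ↔ (x : G) ∈ ga G i :=
    fun {l D} l1 l2 e1 e2 => by
      obtain ⟨i, i1, i2, e⟩ := (H90.MX.Out.mono ho l2).eq_ga h h4 hs l1 (D := D.map (C2 G 1).subtype)
        (fun x hx => ⟨⟨x, ga_le_C2 l1 hx⟩, e1 hx, rfl⟩) (map_subtype_le _) (by
          rintro _ ⟨x, hx, rfl⟩
          exact ⟨c x, e2 x hx, rfl⟩)
      exact ⟨i, i1, i2, fun x => by
        rw [← e]; exact (mem_map_iff_mem (C2 G 1).subtype_injective).symm⟩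
  let D : Subgroup (C2 G 1) := ⨅ φ : K, π.eqLocus (π.comp φ.1.toMonoidHom)
  have mD : ∀ x, x ∈ D ↔ ∀ φ ∈ K, (x : G)⁻¹ * φ x ∈ ga G m := fun x =>
    mem_iInf.trans (Subtype.forall.trans (forall₂_congr fun φ _ => hπ x (φ x)))
  obtain ⟨i, i1, i2, hD⟩ := eqg (l := m - 1) (D := D) (by omega) (by omega)
    (fun x hx => (mD x).2 fun φ hφ => h1 φ hφ x hx) fun x hx => (mD _).2 fun φ hφ => by
      have := (ga_normal m).conj_mem _ ((mD x).1 hx _ (cK' φ hφ)) s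
      have e : φ (c x) = c ((c⁻¹ * φ * c) x) := by simp
      rw [e]
      simpa [hc, mul_assoc] using this
  rcases i1.eq_or_lt with rfl | i1
  · exact fun φ hφ x => (mD x).1 ((hD x).2 ((ga_one (G := G)).ge x.2)) φ hφ
  exfalso
  let N : Subgroup (C2 G 1) := (ga G (i + 1)).subgroupOf _
  have fN : ∀ x : C2 G 1, (x : G) ∈ ga G i → ∀ φ ∈ K, x⁻¹ * φ x ∈ N := fun x hx φ hφ =>
    ga_anti (show i + 1 ≤ m by omega) ((mD x).1 ((hD x).2 hx) φ hφ)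
  have hN : ∀ φ : K, ∀ x ∈ N, φ.1 x ∈ N := fun φ x hx => by
    simpa using N.mul_mem hx (fN x (ga_anti i.le_succ hx) φ φ.2)
  let R : Subgroup (C2 G 1) := (center (C2 G 1 ⧸ N)).comap (QuotientGroup.mk' N)
  have mR : ∀ x, x ∈ R ↔ ∀ y, ⁅y, x⁆ ∈ N := fun x => by
    rw [mem_comap, mem_center_iff, (QuotientGroup.mk'_surjective N).forall]
    refine forall_congr' fun y => ?_
    rw [← commutatorElement_eq_one_iff_mul_comm, ← map_commutatorElement]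
    exact QuotientGroup.eq_one_iff _
  have aR : ∀ φ : MulAut (C2 G 1), (∀ x ∈ N, φ x ∈ N) → ∀ x ∈ R, φ x ∈ R := fun φ e x hx =>
    (mR _).2 fun y => by simpa [map_commutatorElement] using e _ ((mR x).1 hx (φ⁻¹ y))
  have cN : ∀ x ∈ N, c x ∈ N := fun x hx => (ga_normal (i + 1)).conj_mem _ hx s
  have pG : ∀ x : G, x ^ p ^ n = 1 := fun x => h.card ▸ pow_card_eq_one'
  have cop : (Nat.card K).Coprime (p ^ n) :=
    ((Nat.Prime.coprime_iff_not_dvd hp.out).2 hK).symm.pow_right n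
  obtain ⟨l, l1, l2, hE⟩ := eqg (l := i + 1) (D := H2.actComm K.subtype R ⊤ ⊔ N) (by omega) (by omega)
    le_sup_right (by
      suffices H2.actComm K.subtype R ⊤ ⊔ N ≤
          (H2.actComm K.subtype R ⊤ ⊔ N).comap c.toMonoidHom from fun x hx => this hx
      refine sup_le (H2.actComm_le.2 fun φ _ x hx => mem_sup_left ?_) fun x hx => mem_sup_right (cN x hx)
      simpa using H2.mem_actComm (φ := K.subtype) (b := ⟨_, cK φ φ.2⟩) (mem_top _) (aR c cN x hx))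
  rcases l2.lt_or_eq with l2 | rfl
  · obtain ⟨u, u1, u2⟩ := exists_ga_gen h h4 (i := i) (by omega)
    have u3 := (hE ⟨u, ga_le_C2 (by omega) u1⟩).2 (ga_anti (by omega) u1)
    rw [← SetLike.mem_coe, mul_normal] at u3
    obtain ⟨y, y1, z, z1, e⟩ := u3
    have e' : (y : G) * z = u := congrArg Subtype.val e
    have y2 : (y : G) ∈ ga G i := (mul_mem_cancel_right (ga_anti i.le_succ z1)).1 (e' ▸ u1)
    refine u2 (e' ▸ mul_mem (show y ∈ N from ?_) z1)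
    exact PU.ext_mem K.subtype (fun φ => aR φ (hN φ)) hN
      (commutator_le.2 fun a _ b hb => (mR b).1 hb a)
      (cop.coprime_dvd_right (h.card ▸ card_subgroup_dvd_card _)) y1 fun φ => fN y y2 φ φ.2
  obtain ⟨i, rfl⟩ : ∃ j, i = j + 1 := ⟨i - 1, by omega⟩
  refine not_ga_le h h4 (i := i) (by omega) fun x hx => ?_
  obtain ⟨x, rfl⟩ : ∃ y : C2 G 1, (y : G) = x := ⟨⟨x, ga_le_C2 (by omega) hx⟩, rfl⟩
  have xR : x ∈ R := (mR x).2 fun y => k.comm h h4 y.2 hx (by omega) (by omega)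
  refine (hD x).1 ((mD x).2 fun φ hφ => ?_)
  have d1 : x⁻¹ * φ x ∈ D := (hD _).2 (ga_anti (Nat.le_succ _) ((hE _).1 (mem_sup_left
    (H2.mem_actComm (φ := K.subtype) (b := ⟨φ, hφ⟩) (mem_top _) xR))))
  obtain ⟨d, hd⟩ : ∃ d, φ x = x * d := ⟨x⁻¹ * φ x, by simp⟩
  rw [hd, inv_mul_cancel_left] at d1
  have d2 : ∀ j : ℕ, π ((φ ^ j) x) = π x * π d ^ j := fun j => by
    induction j with
    | zero => simp
    | succ j ih =>
      rw [pow_succ, MulAut.mul_apply, hd, map_mul, map_mul, ih,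
        ← (hπ _ _).2 ((mD d).1 d1 _ (K.pow_mem hφ j)), mul_assoc, pow_succ]
  have d3 := d2 (Nat.card K)
  rw [show φ ^ Nat.card K = 1 from congrArg Subtype.val (pow_card_eq_one' (x := (⟨φ, hφ⟩ : K))),
    MulAut.one_apply, left_eq_mul] at d3
  have d4 : π d ^ p ^ n = 1 := by
    rw [← map_pow, show d ^ p ^ n = 1 from Subtype.ext (pG d), map_one]
  refine (hπ _ _).1 ?_
  rw [hd, map_mul, (pow_eq_one_iff_of_coprime cop).1 ⟨d3, d4⟩, mul_one]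

theorem u_prime (h : MC p n G) (h4 : 4 ≤ n) (h3 : 3 ≤ m) (hm : m ≤ n) (k : NE G m) {H : Subgroup (MulAut (C2 G 1))}
    (hH : H68.SylowIn p (MulAut.conjNormal : G →* MulAut (C2 G 1)).range H)
    (hi : ∀ φ ∈ H, ∀ x : C2 G 1, (x : G) ∈ ga G m → (φ x : G) ∈ ga G m) {Y : Subgroup (C2 G 1)}
    (hY : ∀ φ ∈ H, ∀ y ∈ Y, φ y ∈ Y) (h1 : ∀ y : C2 G 1, (y : G) ∈ ga G (m - 2) → y ∈ Y)
    (h2 : ∀ x : C2 G 1, ∀ y ∈ Y, ⁅(x : G), (y : G)⁆ ∈ ga G m) {φ : MulAut (C2 G 1)} (hφ : φ ∈ H)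
    (hf : ∀ y ∈ Y, (y : G)⁻¹ * φ y ∈ ga G m) : ∃ e, ∀ x : C2 G 1, (x : G)⁻¹ * (φ ^ p ^ e) x ∈ ga G m := by
  let π : C2 G 1 →* G ⧸ ga G m := (QuotientGroup.mk' _).comp (C2 G 1).subtype
  have hπ : ∀ a b : C2 G 1, π b = π a ↔ (a : G)⁻¹ * b ∈ ga G m := fun a b =>
    eq_comm.trans QuotientGroup.eq
  have hi' : ∀ φ ∈ H, ∀ x, π x = 1 → π (φ x) = 1 := fun φ hφ x hx =>
    (QuotientGroup.eq_one_iff _).2 (hi φ hφ x ((QuotientGroup.eq_one_iff _).1 hx))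
  have n0 := PU.tr_normal π H Y hY hi'
  have n1 := PU.tr_normal π H ⊤ (fun _ _ _ _ => mem_top _) hi'
  set K0 := PU.tr π H Y hY
  set K1 := PU.tr π H ⊤ (fun _ _ _ _ => mem_top _)
  suffices key : ∀ q, q.Prime → q ≠ p → ∀ Q : Sylow q K0, (Q : Subgroup K0).map K0.subtype ≤ K1 by
    obtain ⟨e, he⟩ := PU.pow_mem_of_sylow key (x := ⟨φ, hφ⟩) fun y hy => (hπ _ _).2 (hf y hy)
    exact ⟨e, fun x => (hπ _ _).1 (he x (mem_top x))⟩
  intro q hq qp Q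
  have := Fact.mk hq
  have cj : ∀ (t : G) (y : C2 G 1), π (MulAut.conjNormal t y) = π y ↔ ⁅t, (y : G)⁆ ∈ ga G m :=
    fun t y => by
      rw [hπ, ← (ga_normal m).mem_comm_iff]
      simp [commutatorElement_def, mul_assoc]
  obtain ⟨s, hs⟩ := exists_out h h4
  have hs' := H90.MX.Out.not_mem hs h4
  let c : H := ⟨MulAut.conjNormal s, hH.le ⟨s, rfl⟩⟩
  have c0 : c ∉ K0 := fun e => by
    obtain ⟨y, y1, y2⟩ := exists_ga_gen h h4 (i := m - 2) (by omega)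
    have := (cj s ⟨y, ga_le_C2 (by omega) y1⟩).1 (e _ (h1 _ y1))
    exact (k.out hs').comm_not h h4 hs' y1 y2 (by omega) (by omega)
      (by rwa [show m - 2 + 2 = m by omega])
  have cp : c ^ p ^ n = 1 := Subtype.ext (by
    change MulAut.conjNormal s ^ p ^ n = 1
    rw [← map_pow, ← h.card, pow_card_eq_one', map_one])
  have c1 := (Q.normalizer_sup_eq_top).ge (mem_top c)
  rw [← SetLike.mem_coe, mul_normal] at c1
  obtain ⟨ν, ν1, κ, κ1, e⟩ := c1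
  obtain ⟨j, b, ν2⟩ := H90.exists_pow_p_part (p := p) ν n
  have ν3 : ν ^ (1 + p ^ n * j) ∉ K0 := fun e' => c0 (by
    have e1 : QuotientGroup.mk' K0 c = QuotientGroup.mk' K0 ν := by
      rw [← e]
      simp [(QuotientGroup.eq_one_iff κ).2 κ1]
    have e2 : QuotientGroup.mk' K0 (ν ^ (1 + p ^ n * j)) = 1 := (QuotientGroup.eq_one_iff _).2 e'
    rw [map_pow, ← e1, pow_add, pow_mul, ← map_pow _ c (p ^ n), cp] at e2
    simpa using e2)
  have ν4 := Subgroup.pow_mem _ ν1 (1 + p ^ n * j)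
  generalize ν ^ (1 + p ^ n * j) = μ at ν2 ν3 ν4
  obtain ⟨g, hg, g1⟩ := hH.exists_cj_le (Q := zpowers μ.1)
    (H68.isPGroup_zpowers (k := b) (congrArg Subtype.val ν2)) (zpowers_le.2 μ.2)
  obtain ⟨t, ht⟩ := H68.cj_le_iff'.1 g1 _ (mem_zpowers _)
  let g' : H := ⟨g, hg⟩
  have t1 : t ∉ C2 G 1 := fun e' => ν3 ((n0.mem_comm_iff.trans (by simp)).1
    (show g' * (μ * g'⁻¹) ∈ K0 from fun y hy => by
      have := (cj t y).2 (h2 ⟨t, e'⟩ y hy)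
      rw [ht] at this
      exact this))
  let f : H →* MulAut (C2 G 1) := H.subtype.comp (MulAut.conj g').toMonoidHom
  have fK : ∀ ψ ∈ ((Q : Subgroup K0).map K0.subtype).map f, ∃ ψ' ∈ K0, ψ'.1 = ψ := by
    rintro _ ⟨ψ, h5, rfl⟩
    exact ⟨_, n0.conj_mem _ (map_subtype_le _ h5) g', rfl⟩
  have := u_lemma h h4 h3 hm k (K := ((Q : Subgroup K0).map K0.subtype).map f) (s := t) (fun e' => by
      obtain ⟨a, ha⟩ := ((Q.isPGroup'.map K0.subtype).map f).exists_card_eq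
      exact qp ((Nat.prime_dvd_prime_iff_eq hp.out hq).1 (hp.out.dvd_of_dvd_pow (ha ▸ e'))).symm)
    t1 (ht ▸ le_normalizer_map f ⟨μ, ν4, rfl⟩)
    (fun ψ h5 => by obtain ⟨ψ, -, rfl⟩ := fK ψ h5; exact hi _ ψ.2) fun ψ h5 x hx => by
      obtain ⟨ψ, h6, rfl⟩ := fK ψ h5
      exact (hπ _ _).1 (h6 x (h1 x (ga_anti (by omega) hx)))
  intro ψ h5
  exact (n1.mem_comm_iff.trans (by simp)).1 (show g' * (ψ * g'⁻¹) ∈ K1 from fun x _ =>
    (hπ _ _).2 (this _ (mem_map_of_mem f h5) x))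

end H90.MX
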