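import Mathlib
import Cfsg.Agent.Base
import Cfsg.Agent.Lib.MX.PU

/-! Exceptional groups of maximal class: the commutator pairing and its consequences. -/

set_option autoImplicit false
set_option linter.unusedSectionVars false

namespace H90.MX

open Subgroup Cfsg H83.Krek H93
open scoped commutatorElement

universe u

variable {G : Type u} [Group G] [Finite G] {p n m j : ℕ} [hp : Fact p.Prime]

variable (h : MC p n G) (h4 : 4 ≤ n) (hne : C2 G (n - 3) ≠ C2 G 1)
include h h4 hne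

theorem EX.not_cen : ∀ a b : ℕ, 1 ≤ a → 1 ≤ b → a + b + 1 = n →
    ¬ ∀ x ∈ ga G a, ∀ y ∈ ga G b, Commute x y := by
  have card : Nat.card (C2 G 1) = Nat.card (C2 G (n - 3)) := by
    rw [card_C2 h h4 le_rfl h4, card_C2 h h4 (by omega) (by omega)]
  intro a
  induction a with
  | zero => omega
  | succ a ih =>
    intro b _ hb e k
    rcases Nat.eq_zero_or_pos a with rfl | ha
    · refine hne (eq_of_le_of_card_ge (fun x hx => (mem_C_iff h h4).2 fun y hy => ?_) card.ge).symm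
      exact k x (by rwa [zero_add, ga_one]) y (by rwa [show b = n - 2 by omega])
    obtain ⟨s, hs, hs'⟩ : ∃ s ∈ C2 G (n - 3), s ∉ C2 G 1 :=
      SetLike.not_le_iff_exists.1 fun l => hne (eq_of_le_of_card_ge l card.le)
    obtain ⟨y, hy, hy'⟩ := exists_ga_gen h h4 (i := b) (by omega)
    refine ih (b + 1) ha (by omega) (by omega) fun x hx v hv => ?_
    refine (mem_centralizer_singleton_iff.1 (ga_le_of_mem h h4 (A := centralizer {x})
      (comm_mem_ga_succ s hb hy) (((ne_pred h h4).out hs').comm_not h h4 hs' hy hy' hb (by omega))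
      (fun u hu => mem_centralizer_singleton_iff.2 (commute_of_mem_ga h h4 hu hx (by omega)))
      (mem_centralizer_singleton_iff.2 ?_) hv)).symm
    have hc : ⁅x, y⁆ ∈ ga G (n - 2) := by rw [show n - 2 = a + b by omega]; exact comm_mem_ga hx hy
    have c1 := (mem_C_iff h h4).1 hs _ hc
    have c2 := k _ (comm_mem_ga_succ s ha hx) _
      ((ga_normal b).conj_mem _ ((ga_normal b).conj_mem _ hy s) x)
    have c3 := commute_of_mem_ga h h4 hc (comm_mem_ga_succ s hb hy) (by omega)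
    have e1 : x * (s * y * s⁻¹) * x⁻¹ = ⁅x, y⁆ * (s * y * s⁻¹) := by
      calc _ = ⁅s, x⁆ * (x * (s * y * s⁻¹) * x⁻¹) * ⁅s, x⁆⁻¹ := by rw [c2.eq, mul_inv_cancel_right]
        _ = s * ⁅x, y⁆ * s⁻¹ * (s * y * s⁻¹) := by simp only [commutatorElement_def]; group
        _ = _ := by rw [c1.eq, mul_inv_cancel_right]
    have e2 : x * ⁅s, y⁆ * x⁻¹ = ⁅s, y⁆ := by
      calc _ = x * (s * y * s⁻¹) * x⁻¹ * (x * y * x⁻¹)⁻¹ := by simp only [commutatorElement_def]; group
        _ = ⁅x, y⁆ * ⁅s, y⁆ * ⁅x, y⁆⁻¹ := by rw [e1]; simp only [commutatorElement_def]; group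
        _ = _ := by rw [c3.eq, mul_inv_cancel_right]
    exact (mul_inv_eq_iff_eq_mul.1 e2).symm

theorem exc_pair {a b : ℕ} (ha : 1 ≤ a) (hb : 1 ≤ b) (e : a + b + 1 = n) {x y : G} (hx : x ∈ ga G a)
    (hx' : x ∉ ga G (a + 1)) (hy : y ∈ ga G b) (hy' : y ∉ ga G (b + 1)) : ¬ Commute x y := by
  intro c
  have h1 : ga G b ≤ centralizer {x} := ga_le_of_mem h h4 hy hy'
    (fun u hu => mem_centralizer_singleton_iff.2 (commute_of_mem_ga h h4 hu hx (by omega)))
    (mem_centralizer_singleton_iff.2 c.symm)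
  have h2 : ga G a ≤ centralizer (ga G b : Set G) := ga_le_of_mem h h4 hx hx'
    (fun u hu v hv => commute_of_mem_ga h h4 hv hu (by omega))
    (fun v hv => mem_centralizer_singleton_iff.1 (h1 hv))
  exact EX.not_cen h h4 hne a b ha hb e fun u hu v hv => (h2 hu v hv).symm

omit h h4 hne in
theorem EX.one_le {x : G} {i : ℕ} (hx : x ∈ C2 G 1) (hx' : x ∉ ga G (i + 1)) : 1 ≤ i :=
  Nat.pos_of_ne_zero fun e => hx' (by rwa [e, zero_add, ga_one])

theorem EX.partner {x : G} {i : ℕ} (h1 : 1 ≤ i) (h2 : i + 2 ≤ n) (hx : x ∈ ga G i) (hx' : x ∉ ga G (i + 1)) :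
    ∃ y ∈ ga G (n - 1 - i), ¬ Commute x y :=
  let ⟨y, hy, hy'⟩ := exists_ga_gen h h4 (i := n - 1 - i) (by omega)
  ⟨y, hy, exc_pair h h4 hne h1 (by omega) (by omega) hx hx' hy hy'⟩

theorem exc_center {x : G} (hx : x ∈ C2 G 1) (hc : ∀ y ∈ C2 G 1, Commute x y) : x ∈ center G := by
  rw [← ga_center h h4]
  by_contra k
  obtain ⟨i, a, b, c⟩ := exists_level k
  obtain ⟨y, hy, e⟩ := EX.partner h h4 hne (EX.one_le hx c) (by omega) b c
  exact e (hc y (ga_le_C2 (by omega) hy))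

omit hne in
theorem EX.zpow_of_center {z u : G} (hz : z ∈ center G) (z1 : z ≠ 1) (hu : u ∈ center G) :
    ∃ k : ℤ, u = z ^ k := by
  rw [← ga_center h h4] at hz hu
  have b : ga G (n - 1 + 1) = ⊥ := ga_eq_bot h h4 (by omega)
  obtain ⟨k, y, hy, e⟩ := exists_zpow_mul h h4 hz (by rwa [b, mem_bot]) hu
  rw [b, mem_bot] at hy
  exact ⟨k, by rw [e, hy, mul_one]⟩

theorem exc_le {E : Subgroup G} (hE : E ≤ C2 G 1) (α : MulAut E) (h1 : 1 ≤ j) (hj : ga G (j + 1) ≤ E)
    (hj' : ¬ ga G j ≤ E) {z : E} (hz : (z : G) ∈ center G) (z1 : z ≠ 1)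
    (hC : centralizer ({(α z : G)} : Set G) = E) : E ≤ ga G (n - j - 1) := by
  have z1' : (z : G) ≠ 1 := fun e => z1 (Subtype.ext e)
  have j2 : j + 2 ≤ n := by
    by_contra k
    refine hj' fun u hu => ?_
    obtain ⟨i, rfl⟩ := EX.zpow_of_center h h4 hz z1' (ga_center h h4 ▸ ga_anti (by omega) hu)
    exact zpow_mem z.2 i
  have zp : z ^ p = 1 := Subtype.ext (mem_bot.1 ((ga_eq_bot h h4 (i := n - 1 + 1) (by omega)).le
    (pow_mem_ga h h4 ((ga_center h h4).ge hz))))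
  have wp : (α z : G) ^ p = 1 := by rw [← coe_pow, ← map_pow, zp, map_one, coe_one]
  have wZ : (α z : G) ∉ ga G (n - 1) := fun k => hj' fun u _ => by
    rw [← hC]
    exact mem_centralizer_singleton_iff.2 (mem_center_iff.1 ((ga_center h h4).le k) u)
  obtain ⟨l, l1, l2, l3⟩ := exists_level wZ
  have l4 : l = n - j - 1 := by
    have a : l + j < n := not_le.1 fun k => hj' fun u hu => by
      rw [← hC]
      exact mem_centralizer_singleton_iff.2 (commute_of_mem_ga h h4 l2 hu k).symm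
    obtain ⟨y, hy, e⟩ := EX.partner h h4 hne (EX.one_le (hE (α z).2) l3) (by omega) l2 l3
    by_contra k
    have : y ∈ centralizer ({(α z : G)} : Set G) := hC.ge (hj (ga_anti (by omega) hy))
    exact e (mem_centralizer_singleton_iff.1 this).symm
  have pw : ∀ k : ℤ, (α z : G) ^ k ∈ ga G (l + 1) → (α z : G) ^ k = 1 := fun k hk => by
    obtain ⟨r, rfl⟩ := (zpow_mem_ga_iff h h4 l2 l3).1 hk
    rw [zpow_mul, zpow_natCast, wp, one_zpow]
  by_contra k
  classical
  have ex : ∃ i, ¬ E ≤ ga G (i + 1) := ⟨l - 1, by rwa [show l - 1 + 1 = n - j - 1 by omega]⟩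
  have b : Nat.find ex ≤ l - 1 := Nat.find_min' ex (by rwa [show l - 1 + 1 = n - j - 1 by omega])
  obtain ⟨x, hx, hx'⟩ := SetLike.not_le_iff_exists.1 (Nat.find_spec ex)
  have c := EX.one_le (hE hx) hx'
  have d : E ≤ ga G (Nat.find ex) := by
    simpa only [not_not, Nat.sub_add_cancel c] using Nat.find_min ex (m := Nat.find ex - 1) (by omega)
  obtain ⟨y, hy, e⟩ := EX.partner h h4 hne c (by omega) (d hx) hx'
  have yE : y ∈ E := hj (ga_anti (by omega) hy)
  have cw : ∀ v : E, ∃ k : ℤ, ⁅(α ⟨y, yE⟩ : G), (α v : G)⁆ = (α z : G) ^ k := fun v => by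
    obtain ⟨k, hk⟩ := EX.zpow_of_center h h4 hz z1' (u := ⁅y, (v : G)⁆)
      (ga_center h h4 ▸ ga_anti (by omega) (comm_mem_ga hy (d v.2)))
    have : ⁅(⟨y, yE⟩ : E), v⁆ = z ^ k := Subtype.ext hk
    refine ⟨k, ?_⟩
    have e1 := congrArg (fun u : E => (α u : G)) this
    simpa only [map_commutatorElement, map_zpow, coe_zpow, commutatorElement_def, map_mul, map_inv,
      coe_mul, coe_inv] using e1
  have ne : ⁅(α ⟨y, yE⟩ : G), (α ⟨x, hx⟩ : G)⁆ ∉ ga G (l + 1) := fun k => by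
    obtain ⟨r, hr⟩ := cw ⟨x, hx⟩
    rw [hr] at k
    rw [pw r k, commutatorElement_eq_one_iff_mul_comm, ← coe_mul, ← coe_mul, ← map_mul, ← map_mul,
      SetLike.coe_eq_coe, α.injective.eq_iff] at hr
    exact e (congrArg Subtype.val hr).symm
  have yl : (α ⟨y, yE⟩ : G) ∉ ga G l := fun k =>
    ne (comm_mem_ga k (ga_one (G := G) ▸ hE (α ⟨x, hx⟩).2))
  obtain ⟨i, i1, i2, i3⟩ := exists_level yl
  obtain ⟨v, hv, e'⟩ := EX.partner h h4 hne (EX.one_le (hE (α ⟨y, yE⟩).2) i3) (by omega) i2 i3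
  have vE : v ∈ E := hj (ga_anti (by omega) hv)
  obtain ⟨r, hr⟩ := cw (α.symm ⟨v, vE⟩)
  rw [α.apply_symm_apply] at hr
  refine e' (commutatorElement_eq_one_iff_commute.1 (hr.trans (pw r ?_)))
  rw [← hr]
  exact ga_anti (by omega) (comm_mem_ga i2 hv)

theorem exc_end {H : Subgroup (MulAut (C2 G 1))}
    (hH : H68.SylowIn p (MulAut.conjNormal : G →* MulAut (C2 G 1)).range H) {φ : MulAut (C2 G 1)} (hφ : φ ∈ H)
    {w t : C2 G 1} (hw : (w : G) ∉ center G) (φw : φ w = w⁻¹)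
    (φZ : ∀ z : C2 G 1, (z : G) ∈ center G → φ z = z⁻¹) {C₀ : Subgroup (C2 G 1)} (φC : ∀ c ∈ C₀, φ c = c)
    (hC : ∀ c ∈ C₀, Commute w c)
    (hd : ∀ x, Commute w x → ∃ (z : C2 G 1) (i : ℤ), ∃ c ∈ C₀, (z : G) ∈ center G ∧ x = z * w ^ i * c)
    (wp : w ^ p = 1) (ht : ¬ Commute w t) (htC : ∀ c ∈ C₀, Commute t c) : C₀ = ⊥ := by
  have p2 := exc_ne_two h h4 hne
  have n6 := exc_six h h4 hne
  have odd : Odd p := hp.out.odd_of_ne_two p2
  have mZ : ∀ z : C2 G 1, z ∈ center (C2 G 1) ↔ (z : G) ∈ center G := fun z =>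
    ⟨fun k => exc_center h h4 hne z.2 fun y hy =>
      (congrArg Subtype.val (mem_center_iff.1 k ⟨y, hy⟩)).symm,
      fun k => mem_center_iff.2 fun y => Subtype.ext (mem_center_iff.1 k y)⟩
  have mY : ∀ y : C2 G 1, y ∈ Subgroup.upperCentralSeries (C2 G 1) 2 ↔
      ∀ x, y * x * y⁻¹ * x⁻¹ ∈ center (C2 G 1) := fun y => by
    rw [Subgroup.mem_upperCentralSeries_succ_iff, Subgroup.upperCentralSeries_one]; rfl
  have ZY : ∀ z ∈ center (C2 G 1), z ∈ Subgroup.upperCentralSeries (C2 G 1) 2 := fun z hz =>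
    (mY z).2 fun x => by rw [← mem_center_iff.1 hz x]; simp
  have ex : ∀ c : C2 G 1, c ^ p ^ (n - 1) = 1 := fun c => by
    rw [← card_C2 h h4 le_rfl h4, pow_card_eq_one']
  have half : ∀ {K : Subgroup (C2 G 1)} {c : C2 G 1}, c * c ∈ K → c ∈ K := fun {K c} k => by
    obtain ⟨r, hr⟩ := odd.pow (n := n - 1)
    have := ex c
    rw [hr, pow_succ, pow_mul, sq] at this
    rw [eq_inv_of_mul_eq_one_right this]
    exact inv_mem (pow_mem k r)
  have wY : w ∈ Subgroup.upperCentralSeries (C2 G 1) 2 := by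
    by_contra wY
    have aY : ∀ ψ : MulAut (C2 G 1), ∀ y ∈ Subgroup.upperCentralSeries (C2 G 1) 2,
        ψ y ∈ Subgroup.upperCentralSeries (C2 G 1) 2 := fun ψ y hy =>
      characteristic_iff_le_comap.1 inferInstance ψ hy
    have key : ∀ y ∈ Subgroup.upperCentralSeries (C2 G 1) 2, ∃ z ∈ center (C2 G 1), ∃ c ∈ C₀,
        φ y = y * c * z := by
      intro y hy
      have c1 := (mY y).1 hy w
      have e1 := φZ _ ((mZ _).1 c1)
      simp only [map_mul, map_inv, φw, inv_inv] at e1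
      have e2 : φ y * w * (φ y)⁻¹ = y * w * y⁻¹ := by
        have e3 : φ y * w * (φ y)⁻¹ * w⁻¹ = y * w * y⁻¹ * w⁻¹ := by
          rw [← inv_inj]
          calc _ = w * (φ y * w⁻¹ * (φ y)⁻¹ * w) * w⁻¹ := by group
            _ = _ := by rw [e1, mem_center_iff.1 (inv_mem c1) w, mul_inv_cancel_right]
        exact mul_right_cancel e3
      obtain ⟨z, i, c, hc, hz, e⟩ := hd (y⁻¹ * φ y) (by
        rw [Commute, SemiconjBy]
        calc w * (y⁻¹ * φ y) = y⁻¹ * (y * w * y⁻¹) * φ y := by group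
          _ = _ := by rw [← e2]; group)
      have hz' := (mZ z).2 hz
      have dY : z * w ^ i * c ∈ Subgroup.upperCentralSeries (C2 G 1) 2 := e ▸ mul_mem (inv_mem hy) (aY φ y hy)
      have d1 := mul_mem dY (inv_mem (aY φ _ dY))
      rw [map_mul, map_mul, map_zpow, φw, φC c hc, φZ z hz,
        show z * w ^ i * c * (z⁻¹ * w⁻¹ ^ i * c)⁻¹ = z * (w ^ i * w ^ i) * z by group,
        mul_mem_cancel_right (ZY z hz'), mul_mem_cancel_left (ZY z hz')] at d1
      have wi : w ^ i = 1 := by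
        by_contra k
        exact wY (zpowers_le.2 (half d1) (mem_zpowers_of_mem_zpowers wp ⟨i, rfl⟩ k))
      refine ⟨z, hz', c, hc, ?_⟩
      rw [wi, mul_one, inv_mul_eq_iff_eq_mul] at e
      rw [e, mul_assoc, mem_center_iff.1 hz' c]
    have pw : ∀ y ∈ Subgroup.upperCentralSeries (C2 G 1) 2,
        y⁻¹ * (φ ^ p ^ (n - 1)) y ∈ center (C2 G 1) := by
      intro y hy
      obtain ⟨z, hz, c, hc, e⟩ := key y hy
      have : ∀ r : ℕ, ∃ z' ∈ center (C2 G 1), (φ ^ r) y = y * c ^ r * z' := by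
        intro r
        induction r with
        | zero => exact ⟨1, one_mem _, by simp⟩
        | succ r ih =>
          obtain ⟨z', hz', e'⟩ := ih
          refine ⟨z * z'⁻¹, mul_mem hz (inv_mem hz'), ?_⟩
          rw [pow_succ', MulAut.mul_apply, e', map_mul, map_mul, map_pow, φC c hc,
            φZ z' ((mZ _).1 hz'), e, mul_assoc _ z, ← mem_center_iff.1 hz (c ^ r), pow_succ']
          group
      obtain ⟨z', hz', e'⟩ := this (p ^ (n - 1))
      rwa [e', ex c, mul_one, inv_mul_cancel_left]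
    obtain ⟨e, he⟩ := u_prime h h4 (m := n - 1) (by omega) (by omega) (ne_pred h h4) hH
      (Y := Subgroup.upperCentralSeries (C2 G 1) 2)
      (fun ψ _ x hx => by
        rw [ga_center h h4, ← mZ] at hx ⊢
        exact characteristic_iff_le_comap.1 inferInstance ψ hx)
      (fun ψ _ => aY ψ)
      (fun y hy => (mY y).2 fun x => (mZ _).2 (by
        have := (ne_pred h h4).comm h h4 x.2 hy (by omega) (by omega)
        rw [show n - 1 - 2 + 2 = n - 1 by omega, ga_center h h4] at this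
        exact comm_mem_comm this))
      (fun x y hy => by
        rw [ga_center h h4]
        exact comm_mem_comm ((mZ _).1 ((mY y).1 hy x)))
      (pow_mem hφ (p ^ (n - 1))) (fun y hy => by rw [ga_center h h4]; exact (mZ _).1 (pw y hy))
    have k := he w
    obtain ⟨r, hr⟩ := (odd.pow (n := n - 1)).mul (odd.pow (n := e))
    have sq : ∀ r : ℕ, (φ ^ (2 * r)) w = w := fun r => by
      induction r with
      | zero => rfl
      | succ r ih =>
        rw [mul_add, mul_one, pow_add, MulAut.mul_apply, sq, MulAut.mul_apply, φw, map_inv, φw,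
          inv_inv, ih]
    rw [← pow_mul, hr, pow_succ', MulAut.mul_apply, sq, φw, ga_center h h4] at k
    exact hw ((mZ _).1 (inv_mem_iff.1 (half ((mZ _).2 k))))
  have cz : ∀ x, x * w * x⁻¹ * w⁻¹ ∈ center (C2 G 1) := fun x => by
    simpa [mul_assoc] using inv_mem ((mY w).1 wY x)
  let f : C2 G 1 →* C2 G 1 := MonoidHom.mk' (fun x => x * w * x⁻¹ * w⁻¹) fun x y => by
    have e := mem_center_iff.1 (cz y)
    calc x * y * w * (x * y)⁻¹ * w⁻¹ = x * (y * w * y⁻¹ * w⁻¹) * (w * x⁻¹ * w⁻¹) := by group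
      _ = _ := by rw [mul_assoc x, ← e]; group
  by_contra k
  have : Nontrivial C₀ := (nontrivial_iff_ne_bot C₀).2 k
  have := ((h.isPGroup.to_subgroup (C2 G 1)).to_subgroup C₀).center_nontrivial
  obtain ⟨⟨⟨c, hc⟩, cc⟩, c1⟩ := exists_ne (1 : center C₀)
  have cc' : ∀ c' ∈ C₀, Commute c c' := fun c' hc' =>
    (congrArg Subtype.val (mem_center_iff.1 cc ⟨c', hc'⟩)).symm
  have cZ : c ∈ center (C2 G 1) := mem_center_iff.2 fun x => by
    have t1 : ((f t : C2 G 1) : G) ≠ 1 := fun e => ht (by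
      have : t * w * t⁻¹ * w⁻¹ = 1 := Subtype.ext e
      exact (commutatorElement_eq_one_iff_commute.1 this).symm)
    obtain ⟨i, hi⟩ := EX.zpow_of_center h h4 ((mZ _).1 (cz t)) t1 ((mZ _).1 (cz x))
    have e1 : f x = f t ^ i := Subtype.ext hi
    have e2 : f ((t ^ i)⁻¹ * x) = 1 := by rw [map_mul, map_inv, map_zpow, e1, inv_mul_cancel]
    obtain ⟨z, l, c', hc', hz, e⟩ := hd _ (commutatorElement_eq_one_iff_commute.1 e2).symm
    rw [inv_mul_eq_iff_eq_mul] at e
    rw [e]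
    exact (((htC c hc).zpow_left i).mul_left (((show Commute z c from
      (mem_center_iff.1 ((mZ z).2 hz) c).symm).mul_left ((hC c hc).zpow_left l)).mul_left
        (cc' c' hc').symm)).eq
  have e := φZ c ((mZ c).1 cZ)
  rw [φC c hc, eq_inv_iff_mul_eq_one] at e
  exact c1 (Subtype.ext (Subtype.ext (mem_bot.1 (half (mem_bot.2 e)))))

end H90.MX
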