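import Mathlib
import Cfsg.Agent.Base
import Cfsg.Agent.Lib.MX.FD

set_option autoImplicit false
set_option linter.unusedSectionVars false

namespace H90.MX

open Subgroup Cfsg Cfsg.FusionSystem H83.Krek H93
open scoped commutatorElement

universe u

variable {p n : ℕ} [hp : Fact p.Prime] {G : Type u} [Group G] [Finite G] {F : FusionSystem (⊤ : Subgroup G)}
  {E : Subgroup G}

theorem Bad.lstar (b : Bad p n F E) {Z₀ : Subgroup G} (hZ : Z₀ ≤ E) {σ : Equiv.Perm G} (hσ : Iso F Z₀ (center G) σ)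
    (hn : normalizer (E : Set G) ≤ normalizer (Z₀ : Set G)) {α : MulAut E} (hα : α ∈ F.autGroup E)
    (h : ∀ x ∈ Z₀, extA E α x ∈ Z₀) : α ∈ extAut F E := by
  have c := b.toCtx
  have h4 := b.four
  obtain ⟨τ, h1, h2, -⟩ := hσ.exists_normalizer_map' c.pg c.sat (c.normalized_of_normal _)
  have hN : Map F (normalizerIn ⊤ E) τ := h1.mono (inf_le_inf_left _ hn)
  have hEN : E ≤ normalizerIn ⊤ E := le_normalizerIn le_top
  have hE := (hN.mono hEN).iso
  generalize im τ E = E' at hE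
  have hN' : Iso F (normalizerIn ⊤ E) (normalizerIn ⊤ E') τ :=
    hN.iso_of_card (fun g hg => ⟨mem_top _, hN.mem_normalizer hEN hE.2 hg hg.2⟩) (b.ess.2.1.2 E' hE.isConj)
  obtain ⟨D, d1, d2, d3, d4⟩ := c.exists_nz
  have fn : D.IsFullyNormalized E' := ⟨le_top, fun Q hQ => by
    obtain ⟨χ, hχ⟩ := isConj_iff.1 (isConj_of_sub d2 hQ)
    exact (b.ess.2.1.2 Q (hE.trans hχ).isConj).trans hN'.card_eq.le⟩
  have lt : E' < ⊤ := lt_top_iff_ne_top.2 fun e =>
    (lt_normalizerIn c.pg (lt_of_isEssential c.pg c.sat b.ess)).not_ge fun g _ => hE.mem_iff.1 (e.ge (mem_top _))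
  have hD : hE.tr α ∈ D.autGroup E' := (mem_autGroup le_top).2 (d4 _ _
    (fun z hz => by simpa using hE.mem (hZ (h2.inv_mem hz))) ((mem_autGroup le_top).1 (hE.tr_mem hα)) fun z hz => by
      have k := h2.inv_mem hz
      rw [hE.extA_tr α (by simpa using hE.mem (hZ k))]
      exact h2.mem (h _ k))
  have key : extAut D E' ≤ (extAut F E).comap (hE.tr.symm : MulAut E' →* MulAut E) :=
    extAut_le_iff.2 fun β Q f q1 q2 q3 => by
      obtain ⟨g', hg', hg1, hg2⟩ := exists_conj_mem_of_extends c.pg q1 q2 q3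
      obtain ⟨g, hg, rfl⟩ := hN'.exists_eq hg'
      obtain ⟨γ, rfl⟩ := hE.tr.surjective β
      show hE.tr.symm (hE.tr γ) ∈ extAut F E
      rw [MulEquiv.symm_apply_apply]
      refine mem_extAut_of_conj_mem (receptive_of_normalized c.pg c.sat b.ess.2.1)
        (hE.tr_mem_iff.1 (mem_autGroup_of_map ((q2.of_sub d2).mono q1.le) q3)) (conjAut_mem_top hg.2)
        (conjAut_not_mem_inn b.ess hg.2 fun k => hg1 (hE.mem k)) ?_
      rw [← hE.tr_conjAut hN hEN hg hg.2, ← map_inv, ← map_mul, ← map_mul, ← autInducedBy_normalizerIn,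
        ← hE.map_autInducedBy hN' hEN, autInducedBy_normalizerIn] at hg2
      obtain ⟨δ, hδ, e⟩ := hg2
      exact hE.tr.injective e ▸ hδ
  by_contra hc
  have ess : D.IsEssential p E' := (isEssential_iff_extAut_ne c.pg d1 lt fn).2 fun e => hc (by
    simpa using key (e.ge hD))
  rcases b.st D d1 d3 E' ess with ⟨s, hs, hs'⟩ | e
  · exact b.nps ((Ctx.ps_of_out ⟨b.mc, b.four, d1⟩ ess hs' hs).of_equiv hE.equiv.symm)
  · exact b.ne (by rw [hE.card_eq, e, card_C2 b.mc b.four (by omega) (by omega)])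

theorem Bad.mem_ext_of_fix (b : Bad p n F E) {α : MulAut E} (hα : α ∈ F.autGroup E) {z : G} (hz : z ∈ center G)
    (z1 : z ≠ 1) (h : extA E α z ∈ center G) : α ∈ extAut F E := by
  have hZ := ess_center_le b.ess
  have e : zpowers z = center G := eq_of_le_of_card_ge (zpowers_le.2 hz) (by
    rcases (Nat.dvd_prime hp.out).1 (b.mc.card_center ▸ card_dvd_of_le (zpowers_le.2 hz)) with e | e
    · exact absurd (zpowers_eq_bot.1 (card_eq_one.1 e)) z1
    · rw [e, b.mc.card_center])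
  refine b.lstar hZ (iso_refl F le_top) (le_top.trans (normalizer_eq_top _).ge) hα fun x hx => ?_
  obtain ⟨k, rfl⟩ := e.ge hx
  show extA E α (z ^ k) ∈ _
  rw [(homOn_extA α).zpow (hZ hz)]
  exact zpow_mem h k

theorem Bad.cent (b : Bad p n F E) {g : MulAut E} (hg : g ∈ F.autGroup E) (hg' : g ∉ extAut F E) {z : G}
    (hz : z ∈ center G) (z1 : z ≠ 1) : centralizer ({extA E g z} : Set G) = E := by
  have c := b.toCtx
  have zE := ess_center_le b.ess hz
  have h1 : E ≤ centralizer ({extA E g z} : Set G) := fun x hx => mem_centralizer_singleton_iff.2 (by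
    obtain ⟨y, hy, rfl⟩ := (iso_extA le_top hg).exists_eq hx
    rw [← (homOn_extA g).mul hy zE, ← (homOn_extA g).mul zE hy, mem_center_iff.1 hz y])
  refine (eq_of_le_of_not_lt h1 fun k => hg' ?_).symm
  obtain ⟨t, t1, t2, t3⟩ := H68.exists_mem_normalizer_of_lt (b.mc.isPGroup.to_subgroup _) k
  refine (inv_mem_iff (H := extAut F E)).1 (c.mem_ext_of_conj b.ess (c.conjAut_mem_ext b.ess t3) (c.conjAut_pow t3)
    (conjAut_not_mem_inn b.ess t3 t2) (inv_mem hg) (b.mem_ext_of_fix
      (mul_mem (mul_mem (inv_mem hg) (conjAut_mem_aut t3)) (inv_mem (inv_mem hg))) hz z1 ?_))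
  rw [inv_inv, extA_mul_apply, extA_mul_apply, extA_conjAut t3 (extA_mem g zE), mem_centralizer_singleton_iff.1 t1,
    mul_inv_cancel_right, extA_inv_apply]
  simpa using hz

end H90.MX
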