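import Mathlib
import Cfsg.Agent.Base
import Cfsg.Agent.Lib.Fusion.Transv

set_option autoImplicit false
set_option linter.unusedSectionVars false

namespace H90.MX

open Subgroup Cfsg

variable {p : ℕ} [hp : Fact p.Prime] {E : Type*} [Group E] [Finite E] {α β : MulAut E} {u u' : E}

theorem TV.pow_apply {γ : MulAut E} {x d : E} (h : γ x = x * d) (hd : γ d = d) (k : ℕ) :
    (γ ^ k) x = x * d ^ k := by
  induction k with
  | zero => simp
  | succ k ih => rw [pow_succ', MulAut.mul_apply, ih, map_mul, map_pow, h, hd, pow_succ', mul_assoc]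

theorem TV.fix {γ : MulAut E} {u x : E} (h : γ u = u) (hx : x ∈ zpowers u) : γ x = x := by
  obtain ⟨i, rfl⟩ := hx
  simp [h]

theorem TV.exists_hom (cu : u ∈ center E) (hα : ∀ x, x⁻¹ * α x ∈ zpowers u) :
    ∃ f : E →* E, ∀ x, α x = x * f x ∧ f x ∈ zpowers u := by
  refine ⟨MonoidHom.mk' (fun x => x⁻¹ * α x) fun x y => ?_, fun x => ⟨by simp, hα x⟩⟩
  have := mem_center_iff.1 (zpowers_le.2 cu (hα x)) y⁻¹
  rw [← mul_assoc, ← this, map_mul]; group

theorem tv_pgroup (hE : IsPGroup p E) (hα : ∀ x, x⁻¹ * α x ∈ zpowers u) (αu : α u = u)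
    (hβ : ∀ x, x⁻¹ * β x ∈ zpowers u') (βu : β u' = u') (h : β u = u) :
    IsPGroup p (closure ({α, β} : Set (MulAut E))) := by
  let W : Subgroup E := zpowers u ⊔ zpowers u'
  have UW : zpowers u ≤ W := le_sup_left
  let P : Subgroup (MulAut E) :=
    { carrier := {γ | γ u = u ∧ (∀ y ∈ W, y⁻¹ * γ y ∈ zpowers u) ∧ ∀ x, x⁻¹ * γ x ∈ W}
      one_mem' := ⟨rfl, fun y _ => by simp, fun x => by simp⟩
      mul_mem' := by
        rintro a b ⟨a1, a2, a3⟩ ⟨b1, b2, b3⟩
        refine ⟨by rw [MulAut.mul_apply, b1, a1], fun y hy => ?_, fun x => ?_⟩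
        · simpa [mul_assoc] using mul_mem (b2 y hy) (a2 (b y) (by simpa using mul_mem hy (b3 y)))
        · simpa [mul_assoc] using mul_mem (b3 x) (a3 (b x))
      inv_mem' := by
        rintro a ⟨a1, a2, a3⟩
        have a4 : ∀ x, x⁻¹ * a⁻¹ x ∈ W := fun x => by simpa using inv_mem (a3 (a⁻¹ x))
        refine ⟨by rw [MulAut.inv_def, MulEquiv.symm_apply_eq, a1], fun y hy => ?_, a4⟩
        simpa using inv_mem (a2 (a⁻¹ y) (by simpa using mul_mem hy (a4 y))) }
  have hP : IsPGroup p P := by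
    rintro ⟨γ, hγ⟩
    obtain ⟨n, hn⟩ := hE.exists_card_eq
    have h1 : ∀ y ∈ W, (γ ^ p ^ n) y = y := fun y hy => by
      rw [TV.pow_apply (d := y⁻¹ * γ y) (by simp) (TV.fix hγ.1 (hγ.2.1 y hy)), ← hn, pow_card_eq_one', mul_one]
    refine ⟨n + n, Subtype.ext (MulEquiv.ext fun x => ?_)⟩
    change (γ ^ p ^ (n + n)) x = x
    rw [pow_add, pow_mul, TV.pow_apply (d := x⁻¹ * (γ ^ p ^ n) x) (by simp)
      (h1 _ ((P.pow_mem hγ _).2.2 x)), ← hn, pow_card_eq_one', mul_one]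
  refine hP.to_le ((closure_le _).2 ?_)
  rintro γ (rfl | rfl)
  · exact ⟨αu, fun y _ => hα y, fun x => UW (hα x)⟩
  · refine ⟨h, fun y hy => ?_, fun x => (le_sup_right : _ ≤ W) (hβ x)⟩
    have : W ≤ (γ : E →* E).eqLocus (MonoidHom.id E) := sup_le (zpowers_le.2 h) (zpowers_le.2 βu)
    have e : γ y = y := this hy
    simp [e]

theorem tv_neg (cu : u ∈ center E) (cu' : u' ∈ center E) (up : u ^ p = 1) (up' : u' ^ p = 1)
    (hα : ∀ x, x⁻¹ * α x ∈ zpowers u) (αu : α u = u) (hβ : ∀ x, x⁻¹ * β x ∈ zpowers u') (βu : β u' = u')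
    (h1 : α u' ≠ u') (h2 : β u ≠ u) :
    (∃ δ ∈ closure ({α, β} : Set (MulAut E)), δ u = u⁻¹ ∧ δ u' = u'⁻¹ ∧ ∀ x, α x = x → β x = x → δ x = x) ∧
      ∀ x, ∃ (i j : ℤ) (c : E), α c = c ∧ β c = c ∧ x = u ^ i * u' ^ j * c := by
  obtain ⟨f, hf⟩ := TV.exists_hom cu hα
  obtain ⟨g, hg⟩ := TV.exists_hom cu' hβ
  have f1 : f u = 1 := by simpa [αu] using (hf u).1
  have g1 : g u' = 1 := by simpa [βu] using (hg u').1
  have f2 : zpowers u ≤ zpowers (f u') := zpowers_le.2 (H93.mem_zpowers_of_mem_zpowers up (hf u').2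
    fun h => h1 (by rw [(hf u').1, h, mul_one]))
  have g2 : zpowers u' ≤ zpowers (g u) := zpowers_le.2 (H93.mem_zpowers_of_mem_zpowers up' (hg u).2
    fun h => h2 (by rw [(hg u).1, h, mul_one]))
  have c : u * u' = u' * u := mem_center_iff.1 cu' u
  constructor
  · obtain ⟨i, hi⟩ := mem_powers_iff_mem_zpowers.2 (f2 (mem_zpowers u))
    obtain ⟨j, hj⟩ := mem_powers_iff_mem_zpowers.2 (g2 (inv_mem (mem_zpowers u')))
    simp only at hi hj
    have fx : ∀ (γ : MulAut E) (x : E) (k : ℕ), γ x = x → (γ ^ k) x = x := fun γ x k h => by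
      simpa using TV.pow_apply (d := 1) (by simpa using h) (map_one γ) k
    have a1 := fx α u i αu
    have a2 : (α ^ i) u' = u' * u := by rw [TV.pow_apply (hf u').1 (TV.fix αu (hf u').2), hi]
    have b1 := fx β u' j βu
    have b2 : (β ^ j) u = u * u'⁻¹ := by rw [TV.pow_apply (hg u).1 (TV.fix βu (hg u).2), hj]
    have w1 : (α ^ i * β ^ j * α ^ i) u = u'⁻¹ := by
      rw [MulAut.mul_apply, MulAut.mul_apply, a1, b2, map_mul, map_inv, a1, a2]; group
    have w2 : (α ^ i * β ^ j * α ^ i) u' = u := by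
      rw [MulAut.mul_apply, MulAut.mul_apply, a2, map_mul, b1, b2, ← mul_assoc, ← c, mul_inv_cancel_right, a1]
    have m : α ^ i * β ^ j * α ^ i ∈ closure ({α, β} : Set (MulAut E)) :=
      mul_mem (mul_mem (pow_mem (subset_closure (by simp)) i) (pow_mem (subset_closure (by simp)) j))
        (pow_mem (subset_closure (by simp)) i)
    refine ⟨_, mul_mem m m, by rw [MulAut.mul_apply, w1, map_inv, w2], by rw [MulAut.mul_apply, w2, w1],
      fun x hx hx' => ?_⟩
    simp only [MulAut.mul_apply, fx α x i hx, fx β x j hx']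
  · intro x
    obtain ⟨j, hj⟩ := f2 (hf x).2
    obtain ⟨i, hi⟩ := g2 (hg x).2
    simp only at hi hj
    refine ⟨i, j, (u ^ i * u' ^ j)⁻¹ * x, ?_, ?_, by group⟩
    · rw [(hf _).1]; simp [f1, hj]
    · rw [(hg _).1]; simp [g1, hi]

end H90.MX
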