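import Mathlib
import Cfsg.Agent.Base
import Cfsg.Agent.Lib.MX.FL
import Cfsg.Agent.Lib.MX.TV

/-! Two transvections of an essential subgroup. -/

set_option autoImplicit false
set_option linter.unusedSectionVars false

namespace H90.MX

open Subgroup Cfsg Cfsg.FusionSystem H83.Krek H93
open scoped commutatorElement

universe u

variable {p n : ℕ} [hp : Fact p.Prime] {G : Type u} [Group G] [Finite G] {F : FusionSystem (⊤ : Subgroup G)}
  {E : Subgroup G}

theorem FT.exists_z (h : MC p n G) (h4 : 4 ≤ n) : ∃ z : G, z ≠ 1 ∧ z ^ p = 1 ∧ center G = zpowers z := by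
  obtain ⟨z, h1, h2⟩ := exists_ga_gen h h4 (i := n - 1) (by omega)
  have e : ga G (n - 1 + 1) = ⊥ := ga_eq_bot h h4 (by omega)
  refine ⟨z, fun k => h2 (k ▸ one_mem _), mem_bot.1 (e ▸ pow_mem_ga h h4 h1), ?_⟩
  rw [← ga_center h h4, ← ga_sup h h4 h1 h2, e, bot_sup_eq]

theorem Bad.tv (b : Bad p n F E) {g : MulAut E} (hg : g ∈ F.autGroup E) (hg' : g ∉ extAut F E) {t : G}
    (ht : t ∈ normalizer (E : Set G)) (htE : t ∉ E) {u : E} (cu : u ∈ center E) (up : u ^ p = 1)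
    {α β : MulAut E} (eα : α = conjAut E t ht) (eβ : β = g * α * g⁻¹)
    (hα : ∀ x, x⁻¹ * α x ∈ zpowers u) (αu : α u = u) :
    α (g u) ≠ g u ∧ β u ≠ u ∧ β ∈ F.autGroup E ∧
      (∃ δ ∈ F.autGroup E, δ u = u⁻¹ ∧ δ (g u) = (g u)⁻¹ ∧ ∀ x, α x = x → β x = x → δ x = x) ∧
      ∀ x, ∃ (i j : ℤ) (c : E), α c = c ∧ β c = c ∧ x = u ^ i * g u ^ j * c := by
  have hβ : ∀ x, x⁻¹ * β x ∈ zpowers (g u) := fun x => by
    obtain ⟨k, e⟩ := hα (g⁻¹ x)
    refine ⟨k, ?_⟩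
    have := congrArg g e
    simpa [eβ] using this
  have βu : β (g u) = g u := by simp [eβ, αu]
  have αA : α ∈ F.autGroup E := eα ▸ conjAut_mem_aut ht
  have βA : β ∈ F.autGroup E := eβ ▸ mul_mem (mul_mem hg αA) (inv_mem hg)
  have le : closure ({α, β} : Set (MulAut E)) ≤ F.autGroup E := by
    rw [closure_le]
    rintro _ (rfl | rfl)
    exacts [αA, βA]
  have pE : IsPGroup p E := b.pg.to_le le_top
  have np : ¬ IsPGroup p (closure ({α, β} : Set (MulAut E))) := fun hP =>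
    hg' (mem_extAut_of_link b.pg b.sat b.ess.2.1 hP le (eα ▸ conjAut_mem_top ht)
      (eα ▸ conjAut_not_mem_inn b.ess ht htE) (eα ▸ conjAut_mem_top ht)
      (eα ▸ conjAut_not_mem_inn b.ess ht htE) hg (subset_closure (Or.inl rfl))
      (eβ ▸ subset_closure (Or.inr rfl)))
  have h1 : α (g u) ≠ g u := fun e => np (Set.pair_comm α β ▸ tv_pgroup pE hβ βu hα αu e)
  have h2 : β u ≠ u := fun e => np (tv_pgroup pE hα αu hβ βu e)
  obtain ⟨⟨δ, hδ, k⟩, k'⟩ := tv_neg cu (mem_center_iff.2 fun x => by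
      rw [← g.apply_symm_apply x, ← map_mul, ← map_mul, mem_center_iff.1 cu]) up
    (by rw [← map_pow, up, map_one]) hα αu hβ βu h1 h2
  exact ⟨h1, h2, βA, ⟨δ, le hδ, k⟩, k'⟩

end H90.MX
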