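import Mathlib
import Cfsg.Agent.Base
import Cfsg.Agent.Lib.MX.Gam
import Cfsg.Agent.Lib.MaxCl.Rank2

set_option autoImplicit false
set_option linter.unusedSectionVars false

namespace H90.MX

open Subgroup Cfsg H83.Krek H93
open scoped commutatorElement

universe u

variable {G : Type u} [Group G] [Finite G] {p n m j : ℕ} [hp : Fact p.Prime]

namespace PA

open Module

/-- `V` is `Ω₁ Z(X)` written additively -/
structure Md {X V : Type*} [Group X] [AddCommGroup V] [Module (ZMod p) V] (Y : Subgroup X) (π : X → V)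
    (R : MulAut X →* End (ZMod p) V) : Prop where
  mem : ∀ y, y ∈ Y ↔ y ∈ center X ∧ y ^ p = 1
  mul : ∀ x ∈ Y, ∀ y ∈ Y, π (x * y) = π x + π y
  surj : ∀ v, ∃ x ∈ Y, π x = v
  ker : ∀ x ∈ Y, π x = 0 → x = 1
  act : ∀ α, ∀ x ∈ Y, R α (π x) = π (α x)

theorem char_of {X : Type*} [Group X] {Y : Subgroup X} (h : ∀ y, y ∈ Y ↔ y ∈ center X ∧ y ^ p = 1) :
    Y.Characteristic := characteristic_iff_le_comap.2 fun φ y hy => (h _).2
  ⟨characteristic_iff_le_comap.1 inferInstance φ ((h y).1 hy).1, by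
    rw [← map_pow, ((h y).1 hy).2, map_one]⟩

theorem exists_md (X : Type u) [Group X] [Finite X] : ∃ (Y : Subgroup X) (V : Type u) (_ : AddCommGroup V)
    (_ : Module (ZMod p) V) (_ : Finite V) (π : X → V) (R : MulAut X →* End (ZMod p) V), Md Y π R := by
  classical
  let Y : Subgroup X := H81.omegaOf (center X) p fun a ha b _ h1 h2 => by
    rw [Commute.mul_pow (mem_center_iff.1 ha b).symm, h1, h2, one_mul]
  haveI : Y.Characteristic := char_of (p := p) fun _ => Iff.rfl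
  letI : CommGroup Y := { Y.toGroup with mul_comm := fun a b => Subtype.ext (mem_center_iff.1 b.2.1 a) }
  letI : Module (ZMod p) (Additive Y) := AddCommGroup.zmodModule fun v =>
    congrArg Additive.ofMul (Subtype.ext v.toMul.2.2 : v.toMul ^ p = 1)
  let π : X → Additive Y := fun x => if hx : x ∈ Y then .ofMul ⟨x, hx⟩ else 0
  have hπ : ∀ x (hx : x ∈ Y), π x = .ofMul ⟨x, hx⟩ := fun x hx => dif_pos hx
  refine ⟨Y, Additive Y, inferInstance, inferInstance, inferInstance, π,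
    (linAut Y).comp (MulAut.characteristic Y), fun _ => Iff.rfl, fun x hx y hy => ?_,
    fun v => ⟨v.toMul, v.toMul.2, hπ _ _⟩, fun x hx e => ?_, fun α x hx => ?_⟩
  · rw [hπ x hx, hπ y hy, hπ _ (mul_mem hx hy)]
    rfl
  · exact congrArg (fun v : Additive Y => (v.toMul : X)) ((hπ x hx).symm.trans e)
  · rw [hπ x hx, hπ (α x) (characteristic_iff_le_comap.1 inferInstance α hx)]
    rfl

namespace Md

variable {X V : Type*} [Group X] [AddCommGroup V] [Module (ZMod p) V] {Y : Subgroup X} {π : X → V}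
  {R : MulAut X →* End (ZMod p) V} (μ : Md Y π R) {x y : X} {α : MulAut X}
include μ

theorem aut (α : MulAut X) (hx : x ∈ Y) : α x ∈ Y := characteristic_iff_le_comap.1 (char_of μ.mem) α hx

theorem one : π 1 = 0 := by simpa using μ.mul 1 (one_mem _) 1 (one_mem _)

theorem div (hx : x ∈ Y) (hy : y ∈ Y) : π (x * y⁻¹) = π x - π y := by
  rw [eq_sub_iff_add_eq, ← μ.mul _ (mul_mem hx (inv_mem hy)) _ hy, inv_mul_cancel_right]

theorem inj (hx : x ∈ Y) (hy : y ∈ Y) (e : π x = π y) : x = y :=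
  mul_inv_eq_one.1 (μ.ker _ (mul_mem hx (inv_mem hy)) (by rw [μ.div hx hy, e, sub_self]))

theorem pow (hx : x ∈ Y) (k : ℕ) : π (x ^ k) = (k : ZMod p) • π x := by
  induction k with
  | zero => rw [pow_zero, μ.one, Nat.cast_zero, zero_smul]
  | succ k ih => rw [pow_succ, μ.mul _ (pow_mem hx k) _ hx, ih, Nat.cast_succ, add_smul, one_smul]

theorem eq_one_iff : R α = 1 ↔ ∀ y ∈ Y, α y = y :=
  ⟨fun e y hy => μ.inj (μ.aut α hy) hy (by rw [← μ.act α y hy, e]; rfl), fun e => LinearMap.ext fun v => by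
    obtain ⟨y, hy, rfl⟩ := μ.surj v
    rw [μ.act α y hy, e y hy]
    rfl⟩

theorem sub (α : MulAut X) (hx : x ∈ Y) : (R α - 1) (π x) = π (α x * x⁻¹) := by
  rw [μ.div (μ.aut α hx) hx, ← μ.act α x hx]
  rfl

end Md

theorem Md.sec {V : Type*} [AddCommGroup V] [Module (ZMod p) V] {N : Subgroup G} [N.Normal] {Y : Subgroup N}
    {π : N → V} {R : MulAut N →* End (ZMod p) V} (m : Md Y π R) {c : ℕ} (e : Y.map N.subtype = lc G c)
    (h : MC p n G) : Sec MulAut.conjNormal R (Function.extend Subtype.val π 0) c (n - 1) := by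
  have a : ∀ x : N, Function.extend Subtype.val π 0 (x : G) = π x := Subtype.val_injective.extend_apply _ _
  refine ⟨?_, fun v => ?_, ?_, fun s => ?_⟩ <;> rw [← e]
  · rintro _ ⟨x, hx, rfl⟩ _ ⟨y, hy, rfl⟩
    exact (a (x * y)).trans ((m.mul x hx y hy).trans (congrArg₂ _ (a x) (a y)).symm)
  · obtain ⟨x, hx, rfl⟩ := m.surj v
    exact ⟨x, ⟨x, hx, rfl⟩, a x⟩
  · rintro _ ⟨x, hx, rfl⟩
    rw [h.lc_eq_bot (i := n - 1) (by omega), coe_subtype, a, mem_bot, OneMemClass.coe_eq_one]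
    exact ⟨m.ker x hx, fun k => k ▸ m.one⟩
  · rintro _ ⟨x, hx, rfl⟩
    rw [coe_subtype, a, m.act _ x hx, ← a]
    rfl

theorem not_ar_aux (h : MC p (p + 1) G) : ¬ AR p G := by
  have := hp.out.two_le
  refine not_lt.2 (le_index_powerClosure h.isPGroup (fun x => h.pow_eq_one le_rfl)
    (fun a => reg1_of_card_le (h.isPGroup.to_subgroup _) (card_le_of_lt_pow (h.isPGroup.to_subgroup _) ?_))
    (h.lc_ne (by omega)) ?_)
  · exact h.card ▸ H1.card_lt_of_ne_top (sup_zpowers_ne_top h.isPGroup (h.lc_ne h.three) a)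
  · rw [h.card_lc (i := 0) (j := p - 1) (by omega)]
    exact Nat.pow_lt_pow_right this (by omega)

end PA

theorem not_ar (h : MC p n G) (hn : p + 1 ≤ n) : ¬ AR p G := by
  have := hp.out.two_le
  have k := h.quot_lc (m := p - 2) (by omega)
  rw [show p - 2 + 3 = p + 1 by omega] at k
  exact fun a => PA.not_ar_aux k (a.of_surjective (QuotientGroup.mk'_surjective _))

theorem mem_ga_of_pow (h : MC p n G) (h4 : 4 ≤ n) (hne : C2 G (n - 3) = C2 G 1) (hn : p + 2 ≤ n) {x : G}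
    (hx : x ∈ C2 G 1) (xp : x ^ p = 1) : x ∈ ga G (n + 1 - p) := by
  obtain ⟨M, h1, h2, -⟩ := h.exists_ar (by omega)
  have hc : Nat.card M = p ^ (n - 1) :=
    card_eq_of_index (i := 1) (h.card.trans (by congr 1; omega)) (by rw [pow_one, h1])
  obtain rfl : M = C2 G 1 := eq_of_le_of_card_ge (fun s hs => by_contra fun k => not_ar
    (Out.mc h M.subtype_injective (e := ⟨s, hs⟩) ((ne_of_eq h h4 hne).out k) (fun e => k (lc_one_le_C2 1 e))
      ((center_le_lc_one h).trans ((h.lc_one_le h1).trans M.range_subtype.ge)) hc (by omega)) (by omega) h2)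
    (by rw [hc, card_C2 h h4 le_rfl h4])
  have hG := h.isPGroup.to_subgroup (C2 G 1)
  have r := h2.reg1 hG
  haveI := r.omega_characteristic hG 1
  obtain ⟨i, -, hi, e⟩ := eq_ga_of_normal h h4 (map_subtype_le (r.omega hG 1))
  have a : p ^ (n - i) < p ^ p := by
    rw [← card_ga h h4 hi, ← e, card_subtype, Reg1.card_omega]
    exact h2
  rw [Nat.pow_lt_pow_iff_right hp.out.one_lt] at a
  exact ga_anti (by omega) (e.le ⟨⟨x, hx⟩, (r.mem_omega hG).2 (Subtype.ext (by simpa using xp)), rfl⟩)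

theorem commute_two (h : MC p n G) (h4 : 4 ≤ n) (hne : C2 G (n - 3) = C2 G 1) {x y : G} (hx : x ∈ ga G 2)
    (hy : y ∈ ga G (n - 3)) : Commute x y := by
  have k := ne_of_eq h h4 hne
  have a : ⁅⁅(⊤ : Subgroup G), C2 G 1⁆, ga G (n - 3)⁆ = ⊥ := by
    refine commutator_commutator_eq_bot_of_rotate ?_ ?_ <;> rw [commutator_eq_bot_iff_le_centralizer, commutator_le]
    · intro g hg z hz
      have := k.comm h h4 hg hz (by omega) (by omega)
      rw [show n - 3 + 2 = n - 1 by omega, ga_center h h4] at this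
      exact center_le_centralizer _ this
    · intro z hz g _ w hw
      have := comm_mem_comm (comm_mem_ga_succ g (by omega) hz)
      rw [show n - 3 + 1 = n - 2 by omega] at this
      exact (mem_C_iff h h4).1 (hne.ge hw) _ this
  obtain ⟨i, -, hi, e⟩ := eq_ga_of_normal h h4 (commutator_le_right ⊤ (C2 G 1))
  obtain ⟨s, hs⟩ := exists_out h h4
  obtain ⟨u, hu, hu'⟩ := exists_ga_gen h h4 (i := 1) (by omega)
  have b : i ≤ 2 := not_lt.1 fun b => hs.comm_not h h4 (hs.not_mem h4) hu hu' le_rfl (by omega)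
    (ga_anti b (e.le (commutator_mem_commutator (mem_top s) (ga_le_C2 le_rfl hu))))
  exact (commutator_eq_bot_iff_le_centralizer.1 a (e.ge (ga_anti b hx)) y hy).symm

theorem quad_ga (h : MC p n G) (h4 : 4 ≤ n) (h2 : 2 ≤ j) {t v : G} (ht : t ∈ ga G j) (hv : v ∈ C2 G 1)
    (vp : v ^ p = 1) (hc : ∀ y ∈ ga G (j + 1), Commute v y) : Commute t ⁅t, v⁆ := by
  have c1 : ∀ {a b : G}, Commute a b → ∀ N : Subgroup G, ⁅a, b⁆ ∈ N := fun c N => by
    rw [commutatorElement_eq_one_iff_commute.2 c]; exact one_mem _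
  by_cases h0 : ga G j ≤ centralizer (ga G (j + 1))
  · exact (h0 ht _ (comm_mem_comm (comm_mem_ga_succ v (by omega) ht))).symm
  have hj : j + 1 < n := not_le.1 fun k => h0 fun g _ y hy => by
    rw [mem_bot.1 ((ga_eq_bot h h4 k).le hy), one_mul, mul_one]
  obtain ⟨d, -, -, ed⟩ := eq_ga_of_normal h h4 (D := centralizer (ga G (j + 1)) ⊓ C2 G 1) inf_le_right
  have hv' : v ∈ ga G (j + 1) := ga_anti (not_le.1 fun k => h0 ((ga_anti k).trans (ed.ge.trans inf_le_left)))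
    (ed.le ⟨fun y hy => (hc y hy).symm, hv⟩)
  obtain ⟨Y, V, _, _, _, π, R, m⟩ := PA.exists_md (p := p) (ga G (j + 1))
  haveI := PA.char_of m.mem
  obtain ⟨c, -, ec⟩ := h.exists_eq_lc (N := Y.map (ga G (j + 1)).subtype)
    ((map_subtype_le _).trans ((ga_anti (by omega)).trans ga_two.le))
  have S := m.sec ec h
  have cY : ∀ y ∈ Y, ∀ g ∈ ga G (j + 1), Commute g y := fun y hy g hg =>
    congrArg Subtype.val (mem_center_iff.1 ((m.mem y).1 hy).1 ⟨g, hg⟩)
  let ι : G →* (Module.End (ZMod p) V)ˣ := R.toHomUnits.comp MulAut.conjNormal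
  have tr : ∀ g ∈ ga G (j + 1), ι g = 1 := fun g hg => Units.ext (m.eq_one_iff.2 fun y hy =>
    Subtype.ext (mul_inv_eq_of_eq_mul (cY y hy g hg)))
  obtain ⟨s, hs⟩ := exists_out h h4
  obtain ⟨j, rfl⟩ : ∃ i, j = i + 1 := ⟨j - 1, by omega⟩
  obtain ⟨x, hx, hx'⟩ := exists_ga_gen h h4 (i := j) (by omega)
  have t1 : ⁅x, s⁆ ∈ ga G (j + 1) := comm_mem_comm (comm_mem_ga_succ s (by omega) hx)
  have t2 : ⁅x, s⁆ ∉ ga G (j + 1 + 1) := fun k =>
    hs.comm_not h h4 (hs.not_mem h4) hx hx' (by omega) (by omega) (comm_mem_comm k)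
  have cm1 : ∀ g, Commute ⁅ι x, ι s⁆ (ι g) := fun g => commutatorElement_eq_one_iff_commute.1 (by
    rw [← map_commutatorElement, ← map_commutatorElement]
    exact tr _ (comm_mem_comm (comm_mem_ga_succ g (by omega) t1)))
  have q : (R (MulAut.conjNormal ⁅x, s⁆) - 1) * (R (MulAut.conjNormal ⁅x, s⁆) - 1) = 0 := by
    by_cases e : R (MulAut.conjNormal ⁅x, s⁆) = 1
    · rw [e, sub_self, mul_zero]
    haveI : Finite (Module.End (ZMod p) V) := Finite.of_injective _ DFunLike.coe_injective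
    have e1 : Units.coeHom _ ⁅ι x, ι s⁆ = R (MulAut.conjNormal ⁅x, s⁆) := by rw [← map_commutatorElement]; rfl
    obtain ⟨a, b, -, -, h1, h2, h3⟩ := quad (ρ := Units.coeHom _) (s := ι s) (x := ι x) (by
      rw [← map_pow]
      exact tr _ (ga_anti (by omega) ((ga_eq_lc (i := n - 1) (by omega)).ge (hs.pow_mem h))))
      (S.reg h (by omega) (by omega) hs) (e1 ▸ e) (e1 ▸ ⟨_, S.pow_eq_zero _⟩) (cm1 s) (cm1 x)
    rw [e1] at h2 h3
    exact LinearMap.range_le_ker_iff.1 (h2.le.trans ((range_pow_anti _ h1.le).trans h3.ge))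
  have vY : (⟨v, hv'⟩ : ga G (j + 1 + 1)) ∈ Y :=
    (m.mem _).2 ⟨mem_center_iff.2 fun y => Subtype.ext (hc y y.2).symm, Subtype.ext vp⟩
  have wY := mul_mem (m.aut (MulAut.conjNormal ⁅x, s⁆) vY) (inv_mem vY)
  have w1 : Commute ⁅x, s⁆ ⁅⁅x, s⁆, v⁆ := commutatorElement_eq_one_iff_commute.1 (congrArg Subtype.val
    (m.ker _ (mul_mem (m.aut (MulAut.conjNormal ⁅x, s⁆) wY) (inv_mem wY)) (by
      rw [← m.sub _ wY, ← m.sub _ vY, ← Module.End.mul_apply, q, LinearMap.zero_apply])))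
  have a : ga G (j + 1) ≤ centralizer {⁅⁅x, s⁆, v⁆} := ga_le_of_mem h h4 t1 t2
    (fun g hg => mem_centralizer_singleton_iff.2 (cY _ wY g hg)) (mem_centralizer_singleton_iff.2 w1)
  have b : ga G (j + 1) ≤ cm {v} (centralizer (ga G (j + 1))) := ga_le_of_mem h h4 t1 t2
    (fun g hg _ e => e ▸ c1 (hc g hg).symm _) fun _ e => e ▸ fun g hg => mem_centralizer_singleton_iff.1 (a hg)
  exact b ht v rfl t ht

theorem exists_conj_zpow (h : MC p n G) (h4 : 4 ≤ n) {y y' : G} (hy : y ∈ ga G (n - 2)) (h1 : y ∉ center G)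
    (hy' : y' ∈ ga G (n - 2)) (h2 : y' ∉ center G) : ∃ (g : G) (k : ℤ), g * y * g⁻¹ = y' ^ k := by
  have c : ∀ g, ⁅g, y⁆ ∈ ga G (n - 1) := fun g => by
    simpa only [show n - 2 + 1 = n - 1 by omega] using comm_mem_ga_succ g (by omega) hy
  have c' : ∀ {z}, z ∈ ga G (n - 1) → ∀ g, g * z = z * g := fun k => mem_center_iff.1 ((ga_center h h4).le k)
  let f : G →* G := MonoidHom.mk' (fun g => ⁅g, y⁆) fun a b => by
    rw [show ⁅a * b, y⁆ = a * ⁅b, y⁆ * a⁻¹ * ⁅a, y⁆ by group, c' (c b), mul_inv_cancel_right, c' (c a)]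
  obtain ⟨s, hs⟩ := exists_out h h4
  have e : n - 2 + 1 = n - 1 := by omega
  rw [← ga_center h h4, ← e] at h1 h2
  obtain ⟨k, z, hz, rfl⟩ := exists_zpow_mul h h4 hy' h2 hy
  rw [e] at hz
  obtain ⟨g, hg⟩ := ga_le_of_mem h h4 (A := f.range) (c s) (fun k => hs.comm_not h h4 (hs.not_mem h4) hy h1
    (by omega) (by omega) (ga_anti (by omega) k)) ((ga_eq_bot h h4 (by omega)).le.trans bot_le) ⟨s, rfl⟩ (inv_mem hz)
  exact ⟨g, k, by rw [mul_inv_eq_iff_eq_mul.1 hg, c' hz, inv_mul_cancel_left]⟩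

end H90.MX
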