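import Mathlib
import Cfsg.Agent.Base
import Cfsg.Agent.Lib.MX.FL
import Cfsg.Agent.Lib.MX.TV
import Cfsg.Agent.Lib.MX.PA
import Cfsg.Agent.Lib.MX.FT

/-! The exceptional case: essential subgroups inside the centraliser of the second centre. -/

set_option autoImplicit false
set_option linter.unusedSectionVars false

namespace H90.MX

open Subgroup Cfsg Cfsg.FusionSystem H83.Krek H93
open scoped commutatorElement

universe u

variable {p n : ℕ} [hp : Fact p.Prime] {G : Type u} [Group G] [Finite G] {F : FusionSystem (⊤ : Subgroup G)}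
  {E : Subgroup G}

theorem Bad.exc_C (b : Bad p n F E) (hne : C2 G (n - 3) ≠ C2 G 1) (hE : E ≤ C2 G (n - 3)) (hE' : ¬ E ≤ C2 G 1) :
    False := by
  have h := b.mc
  have h4 := b.four
  have h6 := exc_six h h4 hne
  have p2 := exc_ne_two h h4 hne
  have cZ : ∀ {s y : G}, s ∈ C2 G (n - 3) → y ∈ ga G (n - 2) → Commute s y :=
    fun hs hy => (mem_C_iff h h4).1 hs _ hy
  have Z2E : ga G (n - 2) ≤ E := fun y hy => ess_cent_le b.ess fun e he => (cZ (hE he) hy).eq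
  have out : ∀ {s : G}, s ∉ C2 G 1 → Out (n - 1) s := fun hs => (ne_pred h h4).out hs
  have low : ∀ {s y : G}, s ∉ C2 G 1 → y ∈ C2 G 1 → Commute s y → y ∈ ga G (n - 2) := fun hs hy hc =>
    Out.mem_ga_of_commute h h4 (out hs) hs (show 1 ≤ n - 1 by omega) hy hc
  obtain ⟨x, hxE, hx⟩ := SetLike.not_le_iff_exists.1 hE'
  obtain ⟨g, hg, hg'⟩ := b.exists_not_mem_ext b.ess
  obtain ⟨z₀, z1, zp, eZ⟩ := FT.exists_z h h4
  have zZ : z₀ ∈ center G := eZ ▸ mem_zpowers z₀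
  obtain ⟨z, rfl⟩ : ∃ z : E, (z : G) = z₀ := ⟨⟨z₀, ess_center_le b.ess zZ⟩, rfl⟩
  have cw := b.cent hg hg' zZ z1
  have cw' := b.cent (inv_mem hg) (mt (inv_mem_iff.1) hg') zZ z1
  rw [extA_coe] at cw cw'
  have wc : ∀ y ∈ E, Commute y (g z : G) := fun y hy => mem_centralizer_singleton_iff.1 (cw.ge hy)
  have w2 : (g z : G) ∉ ga G (n - 2) := fun k => b.ne (by
    rw [le_antisymm hE fun s hs => cw.le (mem_centralizer_singleton_iff.2 (cZ hs k).eq)]
    exact card_C2 h h4 (by omega) (by omega))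
  have w1 : (g z : G) ∉ C2 G 1 := fun k => w2 (low hx k (wc x hxE))
  have dec : ∀ y : E, ∃ k : ℤ, ∃ y' : E, (y' : G) ∈ ga G (n - 2) ∧ y = g z ^ k * y' := fun y => by
    obtain ⟨k, y', hy', e⟩ := exists_zpow_mul (G := G) h h4 (i := 0) (u := (g z : G)) (x := y)
      (ga_zero (G := G) ▸ mem_top _)
      (by rw [zero_add, ga_one]; exact w1) (ga_zero (G := G) ▸ mem_top _)
    have m : y' ∈ E := (mul_mem_cancel_left (zpow_mem (g z).2 k)).1 (e ▸ y.2)
    rw [zero_add, ga_one] at hy'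
    exact ⟨k, ⟨y', m⟩, low w1 hy' (wc y' m).symm, Subtype.ext e⟩
  have NC : normalizer (E : Set G) ≤ C2 G (n - 3) := fun s hs => by
    by_contra k
    by_cases k1 : s ∈ C2 G 1
    · exact b.not_out (mul_mem hs (le_normalizer hxE)) ((out_iff h h4).2
        ⟨fun e => hx ((mul_mem_cancel_left k1).1 e), fun e => k ((mul_mem_cancel_right (hE hxE)).1 e)⟩)
    · exact b.not_out hs ((out_iff h h4).2 ⟨k1, k⟩)
  obtain ⟨t, t3, t2⟩ := exists_ga_gen h h4 (i := n - 3) (by omega)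
  have e3 : n - 3 + 1 = n - 2 := by omega
  have tc : ∀ s : G, ⁅s, t⁆ ∈ ga G (n - 2) := fun s => e3 ▸ comm_mem_ga_succ s (by omega) t3
  have tE : t ∉ E := fun k => t2 (e3 ▸ low w1 (ga_le_C2 (by omega) t3) (wc t k).symm)
  have tN : t ∈ normalizer (E : Set G) := mem_normalizer_fintype fun y hy => by
    have := mul_mem hy (Z2E (tc y⁻¹))
    simpa [commutatorElement_def, mul_assoc] using this
  obtain ⟨α, eα⟩ : ∃ α, α = conjAut E t tN := ⟨_, rfl⟩
  have αv : ∀ y : E, (α y : G) = t * y * t⁻¹ := fun y => by rw [eα]; rfl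
  have αfix : ∀ y : E, α y = y ↔ Commute t y := fun y => by
    rw [Subtype.ext_iff, αv, mul_inv_eq_iff_eq_mul]; rfl
  obtain ⟨u, eu⟩ : ∃ u : E, u = (g z)⁻¹ * α (g z) := ⟨_, rfl⟩
  have uv : (u : G) = ⁅(g z : G)⁻¹, t⁆ := by
    rw [eu, coe_mul, αv, commutatorElement_def]; simp [mul_assoc]
  have u2 : (u : G) ∈ ga G (n - 2) := uv ▸ tc _
  have u1 : (u : G) ∉ center G := by
    have w1' := mt (inv_mem_iff.1) w1
    have := Out.comm_not h h4 (out w1') w1' t3 t2 (by omega) (by omega)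
    rwa [show n - 3 + 2 = n - 1 by omega, ga_center h h4, ← uv] at this
  have cen : ∀ y : E, (y : G) ∈ ga G (n - 2) → y ∈ center E := fun y hy =>
    mem_center_iff.2 fun s => Subtype.ext (cZ (hE s.2) hy).eq
  have up : u ^ p = 1 := Subtype.ext (pow_eq_one_of_mem h h4 p2 u2)
  obtain ⟨h1, -, βA, ⟨δ, δA, δu, -, δc⟩, hd⟩ := b.tv hg hg' tN tE (cen u u2) up eα rfl (fun y => by
    obtain ⟨k, y', hy', rfl⟩ := dec y
    have cu : Commute (g z) u := mem_center_iff.1 (cen u u2) _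
    rw [map_mul, map_zpow, (αfix y').2 (cZ (NC tN) hy'), show α (g z) = g z * u by rw [eu]; group,
      cu.mul_zpow, mul_assoc, ← mem_center_iff.1 (zpow_mem (cen u u2) k) y']
    exact ⟨k, by group⟩) ((αfix u).2 (cZ (NC tN) u2))
  have fz : ∀ {v : E}, v ^ p = 1 → α v ≠ v → ∀ k : ℤ, α (v ^ k) = v ^ k → v ^ k = 1 := fun vp hv k e => by
    by_contra c
    exact hv (TV.fix e (mem_zpowers_of_mem_zpowers vp ⟨k, rfl⟩ c))
  obtain ⟨i, k, c, αc, βc, e⟩ := hd z
  have αu := (αfix u).2 (cZ (NC tN) u2)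
  have αz : α z = z := (αfix z).2 (mem_center_iff.1 zZ t)
  have k1 : g u ^ k = 1 := fz (by rw [← map_pow, up, map_one]) h1 k (by
    have := αz
    rw [e, map_mul, map_mul, map_zpow, αu, αc] at this
    exact mul_left_cancel (mul_right_cancel this))
  rw [k1, mul_one] at e
  have i1 : u ^ i ≠ 1 := fun c1 => tE (cw'.le (mem_centralizer_singleton_iff.2 ((αfix _).1 (by
    rw [c1, one_mul] at e
    rw [← e] at βc
    exact g.injective (by simpa using βc))).eq))
  have nz : ∀ j : ℤ, u ^ j ≠ 1 → ((u ^ j : E) : G) ∉ center G := fun j hj m => by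
    obtain ⟨l, e⟩ := mem_zpowers_of_mem_zpowers up ⟨j, rfl⟩ hj
    exact u1 (by rw [← e]; exact zpow_mem m l)
  have z2 : (z : G) ∈ ga G (n - 2) := ga_anti (by omega) (ga_center h h4 ▸ zZ : (z : G) ∈ ga G (n - 1))
  have ec : c = (u ^ i)⁻¹ * z := by rw [e]; group
  have ui : ((u ^ i : E) : G) ∈ ga G (n - 2) := zpow_mem u2 i
  have c2 : (c : G) ∈ ga G (n - 2) := by rw [ec]; exact mul_mem (inv_mem ui) z2
  have c1 : (c : G) ∉ center G := fun m => nz i i1 (by
    rw [ec] at m; exact inv_mem_iff.1 ((mul_mem_cancel_right zZ).1 m))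
  have eδ : δ z = (u ^ i)⁻¹ * c := by rw [e, map_mul, map_zpow, δu, δc c αc βc, inv_zpow]
  have d1 : (δ z : G) ∉ center G := fun m => nz (i * 2) (fun c2 => i1 (by
      rw [zpow_mul] at c2
      have o := Nat.dvd_gcd (orderOf_dvd_of_pow_eq_one (n := 2) (by exact_mod_cast c2))
        (orderOf_dvd_of_pow_eq_one (x := u ^ i) (n := p) (by
          rw [← zpow_natCast, ← zpow_mul, mul_comm, zpow_mul, zpow_natCast, up, one_zpow]))
      rwa [(Nat.coprime_primes Nat.prime_two hp.out).2 p2.symm, Nat.dvd_one, orderOf_eq_one_iff] at o)) (by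
    rw [eδ, ec, ← mul_assoc, ← mul_inv_rev, ← zpow_add, ← mul_two] at m
    exact inv_mem_iff.1 ((mul_mem_cancel_right zZ).1 m))
  obtain ⟨γ, l, eγ⟩ := exists_conj_zpow h h4 c2 c1 (y' := δ z) (by rw [eδ]; exact mul_mem (inv_mem ui) c2) d1
  have cE : zpowers (c : G) ≤ E := zpowers_le.2 c.2
  have m1 : ∀ j : ℤ, cj γ ((c : G) ^ j) = (δ (z ^ (l * j)) : E) := fun j => by
    rw [map_zpow δ, coe_zpow, zpow_mul, ← eγ, conj_zpow]; rfl
  have iso : Iso F (zpowers (c : G)) (center G) (extA E δ⁻¹ * cj γ) :=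
    ((map_cj F le_top (mem_top γ)).mul ((mem_autGroup le_top).1 (inv_mem δA)) (by
      rintro _ ⟨j, rfl⟩
      exact m1 j ▸ SetLike.coe_mem _)).iso_of_card (by
      rintro _ ⟨j, rfl⟩
      show extA E δ⁻¹ (cj γ ((c : G) ^ j)) ∈ _
      rw [m1, extA_coe]
      simpa using zpow_mem zZ _) (by
      rw [eZ, Nat.card_zpowers, Nat.card_zpowers, orderOf_eq_prime zp z1,
        orderOf_eq_prime (pow_eq_one_of_mem h h4 p2 c2) fun k => c1 (k ▸ one_mem _)])
  refine hg' (b.mem_ext_of_conj b.ess (b.conjAut_mem_ext b.ess tN) (b.conjAut_pow tN)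
    (conjAut_not_mem_inn b.ess tN tE) hg (eα ▸ b.lstar cE iso (fun s hs => ?_) βA ?_))
  · refine centralizer_le_normalizer _ ?_
    rintro _ ⟨j, rfl⟩
    exact ((cZ (NC hs) c2).zpow_right j).symm.eq
  · rintro _ ⟨j, rfl⟩
    refine ⟨j, ?_⟩
    show (c : G) ^ j = extA E _ ((c : G) ^ j)
    rw [← coe_zpow, extA_coe, map_zpow, βc]

end H90.MX
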