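import Mathlib
import Cfsg.Agent.Base
import Cfsg.Agent.Lib.MX.FL
import Cfsg.Agent.Lib.MX.TV
import Cfsg.Agent.Lib.MX.EX
import Cfsg.Agent.Lib.MX.FT

/-! The exceptional case: essential subgroups inside the two-step centraliser. -/

set_option autoImplicit false
set_option linter.unusedSectionVars false

namespace H90.MX

open Subgroup Cfsg Cfsg.FusionSystem H83.Krek H93
open scoped commutatorElement

universe u

variable {p n : ℕ} [hp : Fact p.Prime] {G : Type u} [Group G] [Finite G] {F : FusionSystem (⊤ : Subgroup G)}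
  {E : Subgroup G}

theorem Bad.exc_gam (b : Bad p n F E) (hne : C2 G (n - 3) ≠ C2 G 1) (hE : E ≤ C2 G 1) : False := by
  classical
  have h := b.mc
  have h4 := b.four
  obtain ⟨g, hg, hg'⟩ := b.exists_not_mem_ext b.ess
  obtain ⟨z₀, z1, zp, eZ⟩ := FT.exists_z h h4
  have zZ : z₀ ∈ center G := eZ ▸ mem_zpowers z₀
  obtain ⟨z, rfl⟩ : ∃ z : E, (z : G) = z₀ := ⟨⟨z₀, ess_center_le b.ess zZ⟩, rfl⟩
  have cw := b.cent hg hg' zZ z1
  rw [extA_coe] at cw
  have ex : ∃ j, ga G (j + 1 + 1) ≤ E := ⟨n, (ga_eq_bot h h4 (by omega)).le.trans bot_le⟩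
  obtain ⟨j, j1, hj, hj'⟩ : ∃ j, 1 ≤ j ∧ ga G (j + 1) ≤ E ∧ ¬ ga G j ≤ E := by
    refine ⟨Nat.find ex + 1, by omega, Nat.find_spec ex, fun k => ?_⟩
    rcases e : Nat.find ex with _ | i
    · rw [e, zero_add, ga_one] at k
      exact b.ne (by rw [le_antisymm hE k]; exact card_C2 h h4 le_rfl (by omega))
    · exact Nat.find_min ex (by omega : i < Nat.find ex) (by rwa [e] at k)
  have jn : j < n := by
    by_contra k
    exact hj' ((ga_eq_bot h h4 (by omega)).le.trans bot_le)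
  have le := exc_le h h4 hne hE g j1 hj hj' zZ (fun e => z1 (congrArg Subtype.val e)) cw
  obtain ⟨t, tj, tE⟩ := SetLike.not_le_iff_exists.1 hj'
  have tc : ∀ y ∈ E, ⁅y, t⁆ ∈ center G := fun y hy => by
    have := comm_mem_ga (le hy) tj
    rwa [show n - j - 1 + j = n - 1 by omega, ga_center h h4] at this
  have tN : t ∈ normalizer (E : Set G) := mem_normalizer_fintype fun y hy => by
    have := mul_mem hy (ess_center_le b.ess (tc _ (inv_mem hy)))
    simpa [commutatorElement_def, mul_assoc] using this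
  obtain ⟨α, eα⟩ : ∃ α, α = conjAut E t tN := ⟨_, rfl⟩
  have αv : ∀ y : E, (α y : G) = t * y * t⁻¹ := fun y => by rw [eα]; rfl
  have αfix : ∀ y : E, α y = y ↔ Commute t y := fun y => by
    rw [Subtype.ext_iff, αv, mul_inv_eq_iff_eq_mul]; rfl
  have zp' : z ^ p = 1 := Subtype.ext zp
  obtain ⟨h1, -, -, ⟨δ, δA, δz, δw, δc⟩, hd⟩ := b.tv hg hg' tN tE (u := z)
    (mem_center_iff.2 fun s => Subtype.ext (mem_center_iff.1 zZ s)) zp' eα rfl (fun y => by
      obtain ⟨k, e⟩ := eZ.le (tc _ (inv_mem y.2))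
      exact ⟨k, Subtype.ext (e.trans (by rw [coe_mul, αv, commutatorElement_def]; simp [mul_assoc]))⟩)
    ((αfix z).2 (mem_center_iff.1 zZ t))
  obtain ⟨D, Ds, DF, Dc, hD⟩ := b.exists_nz
  have cD : Ctx p n D := ⟨h, h4, Ds⟩
  have δk : ∀ k : ℤ, extA E δ ((z : G) ^ k) = ((z : G) ^ k)⁻¹ := fun k => by
    rw [← coe_zpow, extA_coe, map_zpow, δz, inv_zpow]; rfl
  obtain ⟨φ, φD, hφ⟩ := cD.ext_gam (hD E (extA E δ) (ess_center_le b.ess) ((mem_autGroup le_top).1 δA) (by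
      intro y hy
      obtain ⟨k, rfl⟩ := eZ.le hy
      exact δk k ▸ inv_mem hy)) hE fun R hR => (b.st D Ds Dc R hR).symm.imp_right fun ⟨s, h1, h2⟩ =>
    (cD.card_inf_le hR h2 h1).trans_lt ((Nat.pow_lt_pow_right hp.out.one_lt (by omega)).trans_le b.le_card)
  have φv : ∀ y : E, φ (inclusion hE y) = inclusion hE (δ y) := fun y => Subtype.ext (by
    rw [← extA_coe]; exact (hφ y y.2).trans (extA_coe δ y))
  have wc : ∀ y : G, Commute (g z : G) y ↔ y ∈ E := fun y =>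
    ⟨fun k => cw.le (mem_centralizer_singleton_iff.2 k.symm), fun k =>
      (mem_centralizer_singleton_iff.1 (cw.ge k)).symm⟩
  let C₀ : Subgroup E := α.toMonoidHom.eqLocus (MonoidHom.id E) ⊓ (g * α * g⁻¹).toMonoidHom.eqLocus (MonoidHom.id E)
  have bot := exc_end h h4 hne b.syl_gam (autGroup_mono DF _ φD) (w := inclusion hE (g z))
    (t := ⟨t, ga_le_C2 j1 tj⟩) (C₀ := C₀.map (inclusion hE))
    (fun k => tE ((wc t).1 (mem_center_iff.1 k t).symm)) (by rw [φv, δw, map_inv])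
    (fun y hy => by
      obtain ⟨k, e⟩ := eZ.le hy
      obtain rfl : y = inclusion hE (z ^ k) := Subtype.ext e.symm
      rw [φv, map_zpow δ, δz, inv_zpow, map_inv])
    (by rintro _ ⟨c, hc, rfl⟩; rw [φv, δc c hc.1 hc.2])
    (by rintro _ ⟨c, -, rfl⟩; exact Subtype.ext ((wc c).2 c.2))
    (fun x hx => by
      obtain ⟨i, k, c, h1, h2, e⟩ := hd ⟨x, (wc x).1 (congrArg Subtype.val hx)⟩
      exact ⟨inclusion hE (z ^ i), k, _, ⟨c, ⟨h1, h2⟩, rfl⟩, zpow_mem zZ i,
        Subtype.ext (congrArg (fun y : E => (y : G)) e)⟩)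
    (by rw [← map_pow, ← map_pow, zp', map_one, map_one])
    (fun k => tE ((wc t).1 (congrArg Subtype.val k)))
    (by rintro _ ⟨c, hc, rfl⟩; exact Subtype.ext ((αfix c).1 hc.1))
  have c1 : Nat.card E ≤ Nat.card (zpowers z × zpowers (g z)) :=
    Nat.card_le_card_of_surjective (fun x => x.1.1 * x.2.1) fun x => by
      obtain ⟨i, k, c, h1, h2, e⟩ := hd x
      have : inclusion hE c = 1 := mem_bot.1 (bot.le ⟨c, ⟨h1, h2⟩, rfl⟩)
      rw [(map_eq_one_iff _ (inclusion_injective hE)).1 this, mul_one] at e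
      exact ⟨(⟨_, i, rfl⟩, ⟨_, k, rfl⟩), e.symm⟩
  rw [Nat.card_prod, Nat.card_zpowers, Nat.card_zpowers, g.orderOf_eq,
    orderOf_eq_prime zp' fun e => z1 (congrArg Subtype.val e), ← sq] at c1
  exact absurd (b.le_card.trans c1) (Nat.pow_lt_pow_right hp.out.one_lt (by omega)).not_ge

end H90.MX
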