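import Mathlib
import Cfsg.Agent.Base
import Cfsg.Agent.Lib.MX.PA

/-! Weights of an automorphism on the factors `γ_i / γ_(i+1)` of a group of maximal class. -/

set_option autoImplicit false
set_option linter.unusedSectionVars false

namespace H90.MX

open Subgroup Cfsg H83.Krek H93
open scoped commutatorElement

universe u

variable {G : Type u} [Group G] [Finite G] {p n m j : ℕ} [hp : Fact p.Prime]

namespace PW

/-- the quotient map modulo `γ_(i+1)` -/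
abbrev pr (G : Type u) [Group G] (i : ℕ) : G →* G ⧸ ga G (i + 1) := QuotientGroup.mk' _

theorem pr_one {i : ℕ} {x : G} : pr G i x = 1 ↔ x ∈ ga G (i + 1) := QuotientGroup.eq_one_iff _

theorem pr_eq {i : ℕ} {x y : G} : pr G i x = pr G i y ↔ x⁻¹ * y ∈ ga G (i + 1) := QuotientGroup.eq

/-- `φ` acts on `γ_i / γ_(i+1)` as the scalar `c` -/
def Wt (φ : MulAut G) (i : ℕ) (c : ZMod p) : Prop :=
  ∃ k : ℤ, (k : ZMod p) = c ∧ ∀ x ∈ ga G i, pr G i (φ x) = pr G i x ^ k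

theorem half {Q : Type*} [Group Q] (f : G →* Q) (A : Subgroup G) (w : Q)
    (hc : ∀ x ∈ A, ∀ g, Commute g ⁅f x, w⁆) {s u : G} (hs : s ∈ A) (hu : u ∈ A) (h1 : ⁅f u, w⁆ = 1) (i : ℤ) :
    ⁅f (s ^ i * u), w⁆ = ⁅f s, w⁆ ^ i := by
  let F : A →* Q := MonoidHom.mk' (fun x => ⁅f x, w⁆) fun x y => by
    have e : ⁅f (x * y : A), w⁆ = f x * ⁅f y, w⁆ * (f x)⁻¹ * ⁅f x, w⁆ := by
      simp only [commutatorElement_def, coe_mul, map_mul]; group
    rw [e, (hc y y.2 (f x)).eq, mul_inv_cancel_right, (hc x x.2 _).eq]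
  have := map_mul F (⟨s, hs⟩ ^ i) ⟨u, hu⟩
  rw [map_zpow] at this
  exact this.trans ((congrArg _ h1).trans (mul_one _))

theorem step (P : ℕ → Prop) {a b : ℕ} (h : a ≤ b) (ha : P a) (hb : ¬ P b) :
    ∃ i, a ≤ i ∧ i < b ∧ P i ∧ ¬ P (i + 1) := by
  induction b, h using Nat.le_induction with
  | base => exact absurd ha hb
  | succ b h ih =>
    by_cases k : P b
    · exact ⟨b, h, b.lt_succ_self, k, hb⟩
    · exact (ih k).imp fun i k => ⟨k.1, k.2.1.trans b.lt_succ_self, k.2.2⟩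

variable (h : MC p n G) (h4 : 4 ≤ n) {φ : MulAut G} {i : ℕ} {a b c : ZMod p}
include h h4

theorem cast_eq {u : G} (hu : u ∈ ga G i) (hu' : u ∉ ga G (i + 1)) {k l : ℤ}
    (e : pr G i u ^ k = pr G i u ^ l) : (k : ZMod p) = l := by
  rw [← map_zpow, ← map_zpow, pr_eq, ← zpow_neg, ← zpow_add, zpow_mem_ga_iff h h4 hu hu'] at e
  exact (ZMod.intCast_eq_intCast_iff_dvd_sub _ _ _).2 (by rwa [sub_eq_neg_add])

theorem wt_gen {u : G} (hu : u ∈ ga G i) (hu' : u ∉ ga G (i + 1)) {k : ℤ}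
    (e : pr G i (φ u) = pr G i u ^ k) : Wt φ i (k : ZMod p) := by
  refine ⟨k, rfl, fun x hx => ?_⟩
  obtain ⟨l, y, hy, rfl⟩ := exists_zpow_mul h h4 hu hu' hx
  rw [map_mul, map_mul, map_mul, pr_one.2 hy, pr_one.2 ((aut_mem_ga φ).2 hy), mul_one, mul_one, map_zpow,
    map_zpow, map_zpow, e, ← zpow_mul, ← zpow_mul, mul_comm]

theorem wt_ex (φ : MulAut G) (hi : i < n) : ∃ c : ZMod p, Wt φ i c := by
  obtain ⟨u, hu, hu'⟩ := exists_ga_gen h h4 hi
  obtain ⟨k, y, hy, e⟩ := exists_zpow_mul h h4 hu hu' ((aut_mem_ga φ).2 hu)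
  exact ⟨k, wt_gen h h4 hu hu' (by rw [e, map_mul, pr_one.2 hy, mul_one, map_zpow])⟩

theorem wt_uniq (hi : i < n) (ha : Wt φ i a) (hb : Wt φ i b) : a = b := by
  obtain ⟨u, hu, hu'⟩ := exists_ga_gen h h4 hi
  obtain ⟨k, rfl, e⟩ := ha
  obtain ⟨l, rfl, e'⟩ := hb
  exact cast_eq h h4 hu hu' ((e u hu).symm.trans (e' u hu))

theorem wt_ne (hi : i < n) (ha : Wt φ i a) : a ≠ 0 := by
  obtain ⟨u, hu, hu'⟩ := exists_ga_gen h h4 hi
  obtain ⟨k, rfl, e⟩ := ha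
  intro k0
  refine hu' ((aut_mem_ga φ).1 (pr_one.1 ?_))
  rw [e u hu, ← map_zpow, pr_one, zpow_mem_ga_iff h h4 hu hu']
  exact (ZMod.intCast_zmod_eq_zero_iff_dvd _ _).1 k0

theorem wt_mul {l r : ℕ} (hr : 1 ≤ r) (H1 : ∀ x ∈ ga G i, ∀ z ∈ ga G l, ⁅x, z⁆ ∈ ga G r)
    (H2 : ∀ x ∈ ga G (i + 1), ∀ z ∈ ga G l, ⁅x, z⁆ ∈ ga G (r + 1))
    (H3 : ∀ x ∈ ga G i, ∀ z ∈ ga G (l + 1), ⁅x, z⁆ ∈ ga G (r + 1)) {s y : G} (hs : s ∈ ga G i)
    (hy : y ∈ ga G l) (hn : ⁅s, y⁆ ∉ ga G (r + 1)) (ha : Wt φ i a) (hb : Wt φ l b) : Wt φ r (a * b) := by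
  obtain ⟨k, rfl, e⟩ := ha
  obtain ⟨t, rfl, e'⟩ := hb
  have cen : ∀ x ∈ ga G i, ∀ z ∈ ga G l, ∀ g, Commute g ⁅pr G r x, pr G r z⁆ := fun x hx z hz g => by
    obtain ⟨g, rfl⟩ := QuotientGroup.mk'_surjective _ g
    rw [← map_commutatorElement, ← commutatorElement_eq_one_iff_commute, ← map_commutatorElement]
    exact pr_one.2 (comm_mem_ga_succ g hr (H1 x hx z hz))
  have u1 : (s ^ k)⁻¹ * φ s ∈ ga G (i + 1) := pr_eq.1 (by rw [e s hs, map_zpow])
  have u2 : (y ^ t)⁻¹ * φ y ∈ ga G (l + 1) := pr_eq.1 (by rw [e' y hy, map_zpow])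
  have hy' := (aut_mem_ga φ).2 hy
  have k1 := half (pr G r) (ga G i) (pr G r (φ y)) (fun x hx => cen x hx _ hy') hs
    (ga_anti i.le_succ u1) (by rw [← map_commutatorElement]; exact pr_one.2 (H2 _ u1 _ hy')) k
  have k2 := half (pr G r) (ga G l) (pr G r s)
    (fun z hz g => by rw [← commutatorElement_inv]; exact (cen s hs z hz g).inv_right) hy
    (ga_anti l.le_succ u2) (by
      rw [← commutatorElement_inv, ← map_commutatorElement, pr_one.2 (H3 _ hs _ u2), inv_one]) t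
  rw [mul_inv_cancel_left] at k1 k2
  rw [← Int.cast_mul]
  refine wt_gen h h4 (H1 s hs y hy) hn ?_
  rw [map_commutatorElement, map_commutatorElement, map_commutatorElement, k1,
    ← commutatorElement_inv, k2, ← inv_zpow, commutatorElement_inv, ← zpow_mul, mul_comm]

theorem chain (k : NE G m) (hm : m ≤ n) (ha : Wt φ 0 a) (hb : Wt φ i b) (hi : 1 ≤ i) (r : ℕ)
    (hr : i + r + 1 ≤ m) : Wt φ (i + r) (a ^ r * b) := by
  induction r with
  | zero => rwa [pow_zero, one_mul]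
  | succ r ih =>
    obtain ⟨s, -, hs⟩ := exists_ga_gen h h4 (i := 0) (by omega)
    obtain ⟨y, hy, hy'⟩ := exists_ga_gen h h4 (i := i + r) (by omega)
    rw [zero_add, ga_one] at hs
    rw [pow_succ', mul_assoc]
    exact wt_mul h h4 (i := 0) (l := i + r) (r := i + r + 1) (by omega)
      (fun x _ z hz => comm_mem_ga_succ x (by omega) hz)
      (fun x hx z hz => k.comm h h4 (ga_one (G := G) ▸ hx) hz (by omega) (by omega))
      (fun x _ z hz => comm_mem_ga_succ x (by omega) hz) (ga_zero (G := G) ▸ mem_top s) hy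
      ((k.out hs).comm_not h h4 hs hy hy' (by omega) (by omega)) ha (ih (by omega))

theorem wt_exc (hne : C2 G (n - 3) ≠ C2 G 1) (ha : Wt φ 1 a) (hb : Wt φ (n - 2) b) :
    Wt φ (n - 1) (a * b) := by
  obtain ⟨s, hs, hs'⟩ := exists_ga_gen h h4 (i := 1) (by omega)
  have k : ¬ ∀ y ∈ ga G (n - 2), Commute s y := fun k =>
    hs' ((exc_inf h h4 hne).le ⟨(mem_C_iff h h4).2 k, ga_one (G := G) ▸ hs⟩)
  push Not at k
  obtain ⟨y, hy, hc⟩ := k
  exact wt_mul h h4 (i := 1) (l := n - 2) (r := n - 1) (by omega)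
    (fun x hx z hz => ga_anti (by omega) (comm_mem_ga hx hz))
    (fun x hx z hz => ga_anti (by omega) (comm_mem_ga hx hz))
    (fun x hx z hz => ga_anti (by omega) (comm_mem_ga hx hz)) hs hy
    (fun e => hc (commutatorElement_eq_one_iff_commute.1 (mem_bot.1 ((ga_eq_bot h h4 (by omega)).le e)))) ha hb

theorem unip (hφ : ∀ i, ∀ x ∈ ga G i, x⁻¹ * φ x ∈ ga G (i + 1)) (r : ℕ) :
    ∀ i, ∀ x ∈ ga G i, x⁻¹ * (φ ^ p ^ r) x ∈ ga G (i + r + 1) := by
  induction r with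
  | zero => rwa [pow_zero, pow_one]
  | succ r ih =>
    intro i x hx
    rw [pow_succ, pow_mul]
    generalize φ ^ p ^ r = ψ at ih
    have hd := ih i x hx
    have he : (x⁻¹ * ψ x)⁻¹ * ψ (x⁻¹ * ψ x) ∈ ga G (i + (r + 1) + 1) := ga_anti (by omega) (ih _ _ hd)
    obtain ⟨d, e⟩ : ∃ d, ψ x = x * d := ⟨x⁻¹ * ψ x, by group⟩
    rw [e, inv_mul_cancel_left] at hd
    rw [e, inv_mul_cancel_left] at he
    have k1 : ∀ t : ℕ, pr G (i + (r + 1)) ((ψ ^ t) d) = pr G (i + (r + 1)) d := fun t => by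
      induction t with
      | zero => rfl
      | succ t ih =>
        rw [pow_succ, MulAut.mul_apply, ← mul_inv_cancel_left d (ψ d), map_mul, map_mul, ih,
          pr_one.2 ((aut_mem_ga _).2 he), mul_one]
    have k2 : ∀ t : ℕ, pr G (i + (r + 1)) ((ψ ^ t) x) = pr G (i + (r + 1)) (x * d ^ t) := fun t => by
      induction t with
      | zero => simp
      | succ t ih => rw [pow_succ, MulAut.mul_apply, e, map_mul, map_mul, ih, k1, ← map_mul, pow_succ, mul_assoc]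
    refine pr_eq.1 ?_
    rw [k2, map_mul, (pr_one (i := i + (r + 1))).2 (pow_mem_ga h h4 hd), mul_one]

end PW

open PW

theorem w_par (h : MC p n G) (h4 : 4 ≤ n) (hne : C2 G (n - 3) ≠ C2 G 1) (φ : MulAut G) (hj : j + 2 = n ∨ j + 3 = n)
    {x y : G} (hx : x ∉ C2 G 1) (hx' : x * φ x ∈ C2 G 1) (hy : y ∈ ga G j) (hy' : y ∉ ga G (j + 1))
    (hy'' : y * φ y ∈ ga G (j + 1)) (hf : ∀ z ∈ ga G (j + 1), φ z = z) : False := by
  have inv : ∀ {i : ℕ} {u : G}, u ∈ ga G i → u ∉ ga G (i + 1) → u * φ u ∈ ga G (i + 1) →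
      Wt φ i (-1 : ZMod p) := fun a b c => by
    have := wt_gen h h4 (φ := φ) a b (k := -1) (by
      rw [← map_zpow, zpow_neg_one, eq_comm, pr_eq, inv_inv]; exact c)
    rwa [Int.cast_neg, Int.cast_one] at this
  have h6 := exc_six h h4 hne
  have ha := inv (i := 0) (ga_zero (G := G) ▸ mem_top x) (ga_one (G := G) ▸ hx) (ga_one (G := G) ▸ hx')
  have hj' := inv hy hy' hy''
  obtain ⟨b, hb⟩ := wt_ex h h4 φ (i := 1) (by omega)
  obtain ⟨k, hk⟩ := even_of_exc h h4 hne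
  have c1 := chain h h4 (ne_pred h h4) (by omega) ha hb le_rfl (n - 3) (by omega)
  have c2 := chain h h4 (ne_pred h h4) (by omega) ha hb le_rfl (n - 4) (by omega)
  rw [Odd.neg_one_pow ⟨k - 2, by omega⟩, show 1 + (n - 3) = n - 2 by omega] at c1
  rw [Even.neg_one_pow ⟨k - 2, by omega⟩, show 1 + (n - 4) = n - 3 by omega] at c2
  have c3 := wt_uniq h h4 (by omega) (wt_exc h h4 hne hb c1) (b := 1)
    ⟨1, Int.cast_one, fun z hz => by rw [hf z (ga_anti (by omega) hz), zpow_one]⟩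
  have c4 : b * b = 1 := by
    rcases hj with e | e
    · have := wt_uniq h h4 (by omega) c1 ((show j = n - 2 by omega) ▸ hj')
      linear_combination (-b - 1) * this
    · have := wt_uniq h h4 (by omega) c2 ((show j = n - 3 by omega) ▸ hj')
      linear_combination (b - 1) * this
  have c5 : ((2 : ℕ) : ZMod p) = 0 := by
    rw [Nat.cast_ofNat]; linear_combination -c3 - c4
  exact exc_ne_two h h4 hne ((Nat.prime_dvd_prime_iff_eq hp.out Nat.prime_two).1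
    ((ZMod.natCast_eq_zero_iff _ _).1 c5))

theorem w_one (h : MC p n G) (h4 : 4 ≤ n) (hne : C2 G (n - 3) = C2 G 1) (hab : ¬ IsMulCommutative (C2 G 1))
    (φ : MulAut G) {s : G} (hs : s ∉ C2 G 1) (hs' : s⁻¹ * φ s ∈ C2 G 1) : ∃ k, φ ^ p ^ k = 1 := by
  have ha : Wt φ 0 (1 : ZMod p) := by
    have := wt_gen h h4 (φ := φ) (i := 0) (ga_zero (G := G) ▸ mem_top s) (ga_one (G := G) ▸ hs) (k := 1)
      (by rw [zpow_one, eq_comm, pr_eq]; exact ga_one (G := G) ▸ hs')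
    rwa [Int.cast_one] at this
  obtain ⟨b, hb⟩ := wt_ex h h4 φ (i := 1) (by omega)
  have all : ∀ i, 1 ≤ i → i < n → Wt φ i b := fun i h1 h2 => by
    have := chain h h4 (ne_of_eq h h4 hne) le_rfl ha hb le_rfl (i - 1) (by omega)
    rwa [one_pow, one_mul, show 1 + (i - 1) = i by omega] at this
  have bot : ∀ {x : G}, x ∈ ga G n → x = 1 := fun k => mem_bot.1 ((ga_eq_bot h h4 le_rfl).le k)
  obtain ⟨r, r1, r2, r3, r4⟩ := step (fun r => ∀ x ∈ ga G 1, ∀ z ∈ ga G 1, ⁅x, z⁆ ∈ ga G r) (a := 1) (b := n)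
    (by omega) (fun x hx z hz => ga_anti (by omega) (comm_mem_ga hx hz)) fun k =>
      hab ⟨⟨fun x z => Subtype.ext (commutatorElement_eq_one_iff_commute.1
        (bot (k x ((ga_one (G := G)).ge x.2) z ((ga_one (G := G)).ge z.2)))).eq⟩⟩
  obtain ⟨i, i1, i2, i3, i4⟩ := step (fun i => ¬ ∀ x ∈ ga G i, ∀ z ∈ ga G 1, ⁅x, z⁆ ∈ ga G (r + 1))
    (a := 1) (b := n) (by omega) r4 (not_not.2 fun x hx z _ => by
      rw [bot hx, commutatorElement_one_left]; exact one_mem _)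
  obtain ⟨l, l1, l2, l3, l4⟩ := step (fun l => ¬ ∀ x ∈ ga G i, ∀ z ∈ ga G l, ⁅x, z⁆ ∈ ga G (r + 1))
    (a := 1) (b := n) (by omega) i3 (not_not.2 fun x _ z hz => by
      rw [bot hz, commutatorElement_one_right]; exact one_mem _)
  push Not at l3
  obtain ⟨x, hx, z, hz, hc⟩ := l3
  have e := wt_uniq h h4 r2 (wt_mul h h4 r1 (fun x hx z hz => r3 x (ga_anti i1 hx) z (ga_anti l1 hz))
    (fun x hx z hz => not_not.1 i4 x hx z (ga_anti l1 hz)) (not_not.1 l4) hx hz hc (all i i1 i2) (all l l1 l2))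
    (all r r1 r2)
  obtain rfl : b = 1 := mul_left_cancel₀ (wt_ne h h4 (by omega) hb) (e.trans (mul_one b).symm)
  have k : ∀ i, ∀ x ∈ ga G i, x⁻¹ * φ x ∈ ga G (i + 1) := fun i x hx => by
    by_cases hx' : x ∈ ga G (i + 1)
    · exact mul_mem (inv_mem hx') ((aut_mem_ga φ).2 hx')
    have hi : i < n := not_le.1 fun c => hx' (by rw [bot (ga_anti c hx)]; exact one_mem _)
    obtain ⟨t, e1, e2⟩ : Wt φ i (1 : ZMod p) := by
      rcases Nat.eq_zero_or_pos i with rfl | c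
      exacts [ha, all i c hi]
    obtain ⟨w, hw⟩ := (ZMod.intCast_eq_intCast_iff_dvd_sub 1 t p).1 (by rw [e1, Int.cast_one])
    refine pr_eq.1 ?_
    rw [e2 x hx, show t = 1 + p * w by omega, zpow_add, zpow_one, zpow_mul, zpow_natCast, ← map_pow,
      pr_one.2 (pow_mem_ga h h4 hx), one_zpow, mul_one]
  refine ⟨n, MulEquiv.ext fun x => ?_⟩
  exact (inv_mul_eq_one.1 (bot (ga_anti (by omega) (unip h h4 k n 0 x (ga_zero (G := G) ▸ mem_top x))))).symm

theorem w_two (h : MC p n G) (h4 : 4 ≤ n) (hne : C2 G (n - 3) = C2 G 1) (φ : MulAut G) {k : ℕ}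
    (hk : orderOf (k : ZMod p) = p - 1) {z v u t : G} (hz : z ∈ center G) (z1 : z ≠ 1) (φz : φ z = z ^ k)
    (hv : v ∈ ga G (n - 2)) (hv' : v ∉ center G) (φv : φ v = v) (hu : u ∈ C2 G 1) (up : u ^ p = 1)
    (φu : φ u ^ k = u) (ht : t ∈ ga G 2) (htu : ¬ Commute t u) : False := by
  obtain ⟨a, ha⟩ := wt_ex h h4 φ (i := 0) (by omega)
  have ne := ne_of_eq h h4 hne
  have c1 := wt_gen h h4 (φ := φ) (i := n - 1) (ga_center h h4 ▸ hz)
    (fun e => z1 (mem_bot.1 ((ga_eq_bot h h4 (by omega)).le e))) (k := k) (by rw [φz, map_pow, zpow_natCast])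
  have c2 := wt_gen h h4 (φ := φ) hv (by rwa [show n - 2 + 1 = n - 1 by omega, ga_center h h4]) (k := 1)
    (by rw [φv, zpow_one])
  have c3 := chain h h4 ne le_rfl ha c2 (by omega) 1 (by omega)
  rw [show n - 2 + 1 = n - 1 by omega, Int.cast_one, mul_one, pow_one] at c3
  obtain rfl : a = k := (wt_uniq h h4 (by omega) c3 c1).trans (Int.cast_natCast k)
  obtain ⟨i, i1, i2, i3⟩ := exists_level (m := n - 3) fun e => htu (commute_two h h4 hne ht e)
  have i0 : 1 ≤ i := Nat.pos_of_ne_zero fun e => i3 (by rwa [e, zero_add, ga_one])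
  obtain ⟨w, hw⟩ := wt_ex h h4 φ (i := i) (by omega)
  have c4 := chain h h4 ne le_rfl ha hw i0 (n - 3 - i + 1) (by omega)
  rw [show i + (n - 3 - i + 1) = n - 2 by omega] at c4
  have c5 := wt_uniq h h4 (by omega) c4 c2
  obtain ⟨w, rfl, e⟩ := hw
  have c6 := cast_eq h h4 i2 i3 (k := w * k) (l := 1) (by
    rw [zpow_mul, ← e u i2, zpow_natCast, ← map_pow, φu, zpow_one])
  rw [Int.cast_mul, Int.cast_natCast, mul_comm] at c6
  rw [pow_succ, mul_assoc, c6, Int.cast_one, mul_one, ← orderOf_dvd_iff_pow_eq_one, hk] at c5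
  have c7 := Nat.le_of_dvd (by omega) c5
  have := hp.out.two_le
  exact i3 (ga_anti (by omega) (mem_ga_of_pow h h4 hne (by omega) hu up))

end H90.MX
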