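import Mathlib
import Cfsg.Agent.Base
import Cfsg.Agent.Lib.MX.CA

set_option autoImplicit false
set_option linter.unusedSectionVars false

namespace H90.MX

open Module LinearMap Subgroup Cfsg

variable {p : ℕ} [hp : Fact p.Prime] {H V : Type*} [Group H] [Finite H] [AddCommGroup V] [Module (ZMod p) V] [Finite V]

namespace RA

theorem exists_sylow (hT : ¬ p ^ 2 ∣ Nat.card H) {s : H} (sp : s ^ p = 1) (s1 : s ≠ 1) :
    ∃ P : Sylow p H, (P : Subgroup H) = zpowers s := by
  have o : Nat.card (zpowers s) = p := by rw [Nat.card_zpowers, orderOf_eq_prime sp s1]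
  obtain ⟨P, hP⟩ := (IsPGroup.of_card (n := 1) (o.trans (pow_one p).symm)).exists_le_sylow
  refine ⟨P, (eq_of_le_of_card_ge hP ?_).symm⟩
  obtain ⟨n, hn⟩ := IsPGroup.iff_card.1 P.isPGroup'
  rw [o, hn]
  have : n ≤ 1 := by
    by_contra c
    exact hT ((pow_dvd_pow p (by omega)).trans (hn ▸ card_subgroup_dvd_card _))
  exact (Nat.pow_le_pow_right hp.out.pos this).trans_eq (pow_one p)

theorem exists_conj (hT : ¬ p ^ 2 ∣ Nat.card H) {s u : H} (sp : s ^ p = 1) (s1 : s ≠ 1) (up : u ^ p = 1)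
    (u1 : u ≠ 1) : ∃ (g : H) (i : ℕ), ¬ p ∣ i ∧ u = g * s ^ i * g⁻¹ := by
  obtain ⟨P, hP⟩ := exists_sylow hT sp s1
  obtain ⟨Q, hQ⟩ := exists_sylow hT up u1
  obtain ⟨g, hg⟩ := MulAction.exists_smul_eq H P Q
  have hu : u ∈ ((g • P : Sylow p H) : Subgroup H) := by rw [hg, hQ]; exact mem_zpowers u
  rw [Sylow.coe_subgroup_smul, hP] at hu
  obtain ⟨x, hx, e⟩ := hu
  obtain ⟨i, rfl⟩ := (mem_powers_iff_mem_zpowers).2 hx
  have e : g * s ^ i * g⁻¹ = u := e
  refine ⟨g, i, ?_, e.symm⟩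
  rintro ⟨j, rfl⟩
  rw [pow_mul, sp, one_pow, mul_one, mul_inv_cancel] at e
  exact u1 e.symm

omit hp in
theorem inv_mem_sub (S : Submonoid H) {x : H} (hx : x ∈ S) : x⁻¹ ∈ S :=
  Submonoid.powers_le.2 hx (mem_powers_iff_mem_zpowers.2 (inv_mem (mem_zpowers x)))

section Lin

variable {k W : Type*} [Field k] [AddCommGroup W] [Module k W] {N : End k W}

theorem step {j : ℕ} {v : W} (hv : v ∈ range (N ^ j)) : N v ∈ range (N ^ (j + 1)) :=
  range_pow_succ N j ▸ Submodule.mem_map_of_mem hv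

theorem down {j : ℕ} {v : W} (hv : v ∈ range (N ^ (j + 1))) : v ∈ range (N ^ j) := range_pow_anti N j.le_succ hv

theorem P_step {A : End k W} {a : k} (h : CA.P N A a) {j : ℕ} {v : W} (hv : v ∈ range (N ^ j)) :
    (A - 1) v - a • N v ∈ range (N ^ (j + 2)) := by
  obtain ⟨g, rfl, rfl⟩ := h
  obtain ⟨z, rfl⟩ := hv
  refine ⟨Polynomial.aeval N g.divX z, ?_⟩
  have e : (1 + Polynomial.aeval N (Polynomial.X * g) - 1) * N ^ j - g.coeff 0 • (N * N ^ j) =
      N ^ (j + 2) * Polynomial.aeval N g.divX := by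
    have : Polynomial.X * g * Polynomial.X ^ j - Polynomial.C (g.coeff 0) * (Polynomial.X * Polynomial.X ^ j) =
        Polynomial.X ^ (j + 2) * g.divX := by
      conv_lhs => rw [← Polynomial.X_mul_divX_add g]
      simp only [Polynomial.coeff_add, Polynomial.mul_coeff_zero, Polynomial.coeff_X_zero, zero_mul, zero_add,
        Polynomial.coeff_C_zero]
      ring
    have h2 := congrArg (Polynomial.aeval N) this
    rw [add_sub_cancel_left]
    simpa only [map_sub, map_mul, map_pow, Polynomial.aeval_X, Polynomial.aeval_C, Algebra.smul_def] using h2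
  exact (LinearMap.congr_fun e z).symm

theorem not_mem [Module.Finite k W] (h : Reg N) {v : W} (hv : v ∉ range (N ^ (0 + 1))) {j : ℕ} (hj : j < finrank k W) :
    (N ^ j) v ∉ range (N ^ (j + 1)) := fun c => h.not_range_le hj (by
  rintro _ ⟨y, rfl⟩
  obtain ⟨a, t, ht⟩ := h.exists_smul (j := 0) (w := v) (by simp) hv (v := y) (by simp)
  rw [show y = a • v + (N ^ (0 + 1)) t by rw [ht]; abel, map_add, map_smul]
  exact add_mem (Submodule.smul_mem _ _ c) ⟨t, by rw [zero_add, pow_one, pow_succ, End.mul_apply]⟩)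

theorem fin {a w c : k} (a1 : a ≠ 1) (c0 : c ≠ 0) (c1 : c ≠ 1) (c2 : c ≠ -1)
    (h : ∀ j < 3, (a ^ j * w - c) * (a ^ j * w - 1) = 0) : False := by
  have h0 := h 0 (by omega)
  have h1 := h 1 (by omega)
  have h2 := h 2 (by omega)
  simp only [mul_eq_zero, sub_eq_zero, pow_zero, one_mul, pow_one] at h0 h1 h2
  have q : c * c ≠ 1 := fun e => (mul_self_eq_one_iff.1 e).elim c1 c2
  rcases h0 with rfl | rfl
  · rcases h1 with h1 | h1
    · exact a1 (mul_right_cancel₀ c0 (h1.trans (one_mul _).symm))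
    · rw [sq, mul_assoc, h1, mul_one] at h2
      rcases h2 with rfl | h2
      · exact q h1
      · exact a1 h2
  · rw [mul_one] at h1 h2
    rcases h1 with rfl | h1
    · rcases h2 with h2 | h2
      · exact c1 (mul_right_cancel₀ c0 ((sq a).symm.trans (h2.trans (one_mul _).symm)))
      · exact q ((sq a).symm.trans h2)
    · exact a1 h1

theorem idem_pow {e : End k W} (ee : e * e = e) (c : k) (m : ℕ) : (1 + (c - 1) • e) ^ m = 1 + (c ^ m - 1) • e := by
  induction m with
  | zero => simp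
  | succ m ih =>
    rw [pow_succ, ih, add_mul, mul_add, mul_add, one_mul, one_mul, mul_one, smul_mul_smul_comm, ee, add_assoc,
      ← add_smul, ← add_smul]
    congr 2
    ring

end Lin

end RA

open RA

theorem reg_of_order (ρ : H →* End (ZMod p) V) (hT : ¬ p ^ 2 ∣ Nat.card H) {s u : H} (sp : s ^ p = 1) (s1 : s ≠ 1)
    (hr : Reg (ρ s - 1)) (hC : ∀ x, Commute x s → ∃ k, x ^ p ^ k = 1) (up : u ^ p = 1) (u1 : u ≠ 1) :
    Reg (ρ u - 1) ∧ ∀ x, Commute x u → ∃ k, x ^ p ^ k = 1 := by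
  obtain ⟨g, i, hi, rfl⟩ := exists_conj hT sp s1 up u1
  refine ⟨CA.reg_conj ρ ?_ g, fun x hx => ?_⟩
  · rw [map_pow]
    exact ((CA.P_self (ρ s)).pow i).reg hr (by simpa using mt (ZMod.natCast_eq_zero_iff i p).1 hi)
  · have h1 : Commute (g⁻¹ * x * g) (s ^ i) := by
      have := hx.eq
      show _ * _ = _ * _
      calc g⁻¹ * x * g * s ^ i = g⁻¹ * (x * (g * s ^ i * g⁻¹)) * g := by group
        _ = _ := by rw [this]; group
    obtain ⟨j, hj⟩ : s ∈ zpowers (s ^ i) := mem_zpowers_pow_iff.2 (by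
      rw [orderOf_eq_prime sp s1]
      exact (hp.out.coprime_iff_not_dvd.2 hi).symm)
    obtain ⟨k, hk⟩ := hC _ (by simpa only [hj] using h1.zpow_right j)
    refine ⟨k, ?_⟩
    have := conj_pow (i := p ^ k) (a := g) (b := g⁻¹ * x * g)
    rwa [hk, mul_one, mul_inv_cancel, show g * (g⁻¹ * x * g) * g⁻¹ = x by group] at this

theorem flag_absurd (ρ : H →* End (ZMod p) V) (inj : Function.Injective ρ) (hT : ¬ p ^ 2 ∣ Nat.card H) {u τ : H}
    (up : u ^ p = 1) (hr : Reg (ρ u - 1)) (h3 : 3 ≤ finrank (ZMod p) V) (hd : finrank (ZMod p) V ≤ p)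
    (hC : ∀ x, Commute x u → ∃ k, x ^ p ^ k = 1) {e : End (ZMod p) V} (ee : e * e = e) (e0 : e ≠ 0) {c : ZMod p}
    (c0 : c ≠ 0) (c1 : c ≠ 1) (c2 : c ≠ -1) (hτ : ρ τ = 1 + (c - 1) • e)
    (he : ∀ j, ∀ v ∈ range ((ρ u - 1) ^ j), e v ∈ range ((ρ u - 1) ^ j)) : False := by
  have u1 : u ≠ 1 := by
    rintro rfl
    have := hr.2
    rw [map_one, sub_self, ker_zero, finrank_top] at this
    omega
  obtain ⟨N, hN⟩ : ∃ N, N = ρ u - 1 := ⟨_, rfl⟩
  rw [← hN] at hr he
  let B : Submonoid H :=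
    { carrier := {x | ∀ j, ∀ v ∈ range (N ^ j), ρ x v ∈ range (N ^ j)}
      one_mem' := fun j v hv => by rwa [map_one]
      mul_mem' := fun {x y} hx hy j v hv => by rw [map_mul]; exact hx j _ (hy j v hv) }
  let U₀ : Submonoid H :=
    { carrier := {x | ∀ j, ∀ v ∈ range (N ^ j), (ρ x - 1) v ∈ range (N ^ (j + 1))}
      one_mem' := fun j v _ => by rw [map_one, sub_self]; exact zero_mem _
      mul_mem' := fun {x y} hx hy j v hv => by
        have h1 := hy j v hv
        have h2 := hx j _ (add_mem (down h1) hv)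
        have := add_mem h2 h1
        convert this using 1
        simp }
  let U : Subgroup H := { U₀ with inv_mem' := fun hx => inv_mem_sub U₀ hx }
  have hU : IsPGroup p U := fun x => ⟨1, Subtype.ext (inj (by
    have key : ∀ j v, ((ρ x - 1) ^ j) v ∈ range (N ^ j) := fun j v => by
      induction j with
      | zero => simp
      | succ j ih => rw [pow_succ' (ρ x - 1), End.mul_apply]; exact x.2 j _ ih
    rw [SubgroupClass.coe_pow, map_pow, OneMemClass.coe_one, map_one]
    refine pow_char_of_nil (LinearMap.ext fun v => ?_)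
    have := key p v
    rw [hr.pow_eq_zero_iff.2 hd, range_zero] at this
    rwa [pow_one]))⟩
  have τB : τ ∈ B := fun j v hv => by
    rw [hτ]
    exact add_mem hv (Submodule.smul_mem _ _ (he j v hv))
  have e1 : ρ (τ * u * τ⁻¹) - 1 = ρ τ * N * ρ τ⁻¹ := by
    rw [hN, mul_sub, sub_mul, mul_one, ← map_mul, ← map_mul, ← map_mul, mul_inv_cancel, map_one]
  obtain ⟨P, hP⟩ := exists_sylow hT up u1
  have hPU : U = P := P.is_maximal' hU (hP ▸ zpowers_le.2 fun j v hv => hN ▸ step hv)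
  have m : τ * u * τ⁻¹ ∈ U := fun j v hv => by
    rw [e1]
    exact τB _ _ (step (inv_mem_sub B τB j v hv))
  rw [hPU, hP] at m
  obtain ⟨a, ha⟩ := (mem_powers_iff_mem_zpowers).2 m
  have ha : u ^ a = τ * u * τ⁻¹ := ha
  have a1 : (a : ZMod p) ≠ 1 := fun a1 => by
    have h1 : u ^ a = u := by
      have : u ^ a = u ^ 1 := pow_eq_pow_iff_modEq.2 (by
        rw [orderOf_eq_prime up u1]
        exact (ZMod.natCast_eq_natCast_iff a 1 p).1 (by simpa using a1))
      rwa [pow_one] at this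
    obtain ⟨k, hk⟩ := hC τ (mul_inv_eq_iff_eq_mul.1 (ha.symm.trans h1))
    have h2 : τ ^ (p - 1) = 1 := inj (by
      rw [map_pow, hτ, idem_pow ee, ZMod.pow_card_sub_one_eq_one c0, sub_self, zero_smul, add_zero, map_one])
    have h4 := pow_gcd_eq_one.2 ⟨hk, h2⟩
    have h5 : Nat.Coprime p (p - 1) := hp.out.coprime_iff_not_dvd.2 (Nat.not_dvd_of_pos_of_lt (by omega) (by omega))
    rw [h5.pow_left k, pow_one] at h4
    rw [h4, map_one, left_eq_add] at hτ
    exact (smul_eq_zero.1 hτ).elim (sub_ne_zero.2 c1) e0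
  have Pa : CA.P N (ρ (τ * u * τ⁻¹)) a := by
    simpa only [← ha, map_pow, hN, mul_one] using (CA.P_self (ρ u)).pow a
  have e2 : ρ τ * N = (ρ (τ * u * τ⁻¹) - 1) * ρ τ := by
    rw [e1, mul_assoc, ← map_mul, inv_mul_cancel, map_one, mul_one]
  obtain ⟨v, -, hv⟩ := SetLike.not_le_iff_exists.1 (hr.not_range_le (j := 0) (by omega))
  obtain ⟨w, hw⟩ := hr.exists_smul (j := 0) (w := v) (by simp) hv (v := ρ τ v) (by simp)
  have key : ∀ j, ρ τ ((N ^ j) v) - ((a : ZMod p) ^ j * w) • (N ^ j) v ∈ range (N ^ (j + 1)) := fun j => by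
    induction j with
    | zero => simpa using hw
    | succ j ih =>
      have h1 := P_step Pa (τB j _ ⟨v, rfl⟩)
      have h2 := Submodule.smul_mem _ (a : ZMod p) (step ih)
      convert add_mem h1 h2 using 1
      rw [pow_succ' N j, End.mul_apply, ← End.mul_apply (ρ τ) N, e2, End.mul_apply, map_sub N, map_smul]
      module
  refine fin (w := w) a1 c0 c1 c2 fun j hj => ?_
  by_contra hne
  refine not_mem hr hv (j := j) (by omega) ?_
  have h1 := key j
  generalize (a : ZMod p) ^ j * w = l at h1 hne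
  generalize (N ^ j) v = z at h1
  have h2 := τB _ _ h1
  have h4 : e (e z) = e z := by rw [← End.mul_apply, ee]
  have h5 := sub_mem (Submodule.smul_mem _ (c + 1 - l) h1) h2
  refine (Submodule.smul_mem_iff _ hne).1 ?_
  convert h5 using 1
  simp only [hτ, LinearMap.add_apply, End.one_apply, LinearMap.smul_apply, map_sub, map_add, map_smul, h4]
  module

end H90.MX
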