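import Mathlib
import Cfsg.Agent.Base
import Cfsg.Agent.Lib.MX.Defs

set_option autoImplicit false
set_option linter.unusedSectionVars false

namespace H90.MX

open Module LinearMap Subgroup Cfsg

variable {p : ℕ} [hp : Fact p.Prime] {H V : Type*} [Group H] [Finite H] [AddCommGroup V] [Module (ZMod p) V] [Finite V]

theorem RB.sq_zero {e e' N : End (ZMod p) V} (ee : e * e = e) {c : ZMod p} (h : e * e' * e = c • e) (hN : Reg N)
    (hi : ∀ U : Submodule (ZMod p) V, (∀ v ∈ U, e v ∈ U) → (∀ v ∈ U, e' v ∈ U) → ∀ v ∈ U, N v ∈ U)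
    (ee' : e' * e' = e') (y : V) : (N ^ 2) (e y) = 0 := by
  let U : Submodule (ZMod p) V := Submodule.span (ZMod p) (Set.range ![e y, e' (e y)])
  have m0 : e y ∈ U := Submodule.subset_span ⟨0, rfl⟩
  have m1 : e' (e y) ∈ U := Submodule.subset_span ⟨1, rfl⟩
  have inv : ∀ A : End (ZMod p) V, A (e y) ∈ U → A (e' (e y)) ∈ U → ∀ v ∈ U, A v ∈ U := by
    intro A h0 h1 v hv
    have : U ≤ U.comap A := Submodule.span_le.2 (by
      rintro _ ⟨i, rfl⟩
      fin_cases i
      exacts [h0, h1])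
    exact this hv
  have hU := hi U (inv e (by rw [← Module.End.mul_apply, ee]; exact m0) (by
      have : e (e' (e y)) = c • e y := LinearMap.congr_fun h y
      rw [this]; exact U.smul_mem c m0))
    (inv e' m1 (by rw [← Module.End.mul_apply e' e', ee']; exact m1))
  have h2 : finrank (ZMod p) U ≤ 2 := finrank_range_le_card (R := ZMod p) ![e y, e' (e y)]
  have h3 := hN.finrank_map hU
  have h4 := hN.finrank_map (U := U.map N) (by
    rintro _ ⟨v, hv, rfl⟩; exact ⟨_, hU v hv, rfl⟩)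
  have h5 : (U.map N).map N = ⊥ := Submodule.finrank_eq_zero.1 (by omega)
  have : N (N (e y)) ∈ (U.map N).map N := ⟨_, ⟨_, m0, rfl⟩, rfl⟩
  rw [h5] at this
  rw [pow_two]; exact this

theorem two_le (h2 : p ≠ 2) {e e' N : End (ZMod p) V} (ee : e * e = e) (ee' : e' * e' = e') {r : ℕ} (hr : ¬ p ∣ r)
    (u1 : (1 - 2 * e) * (1 - 2 * e') ≠ 1) (ur : ((1 - 2 * e) * (1 - 2 * e')) ^ r = 1) (hN : Reg N)
    (hc : Commute N ((e - e') ^ 2))
    (hi : ∀ U : Submodule (ZMod p) V, (∀ v ∈ U, e v ∈ U) → (∀ v ∈ U, e' v ∈ U) → ∀ v ∈ U, N v ∈ U) :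
    finrank (ZMod p) V ≤ 2 := by
  rcases subsingleton_or_nontrivial V with hV | hV
  · exact absurd (Subsingleton.elim _ _) u1
  haveI : CharP (End (ZMod p) V) p :=
    charP_of_injective_algebraMap (algebraMap (ZMod p) (End (ZMod p) V)).injective p
  have e2 : ∀ x, e * (e * x) = e * x := fun x => by rw [← mul_assoc, ee]
  have e2' : ∀ x, e' * (e' * x) = e' * x := fun x => by rw [← mul_assoc, ee']
  have hC : (e - e') ^ 2 = e + e' - e * e' - e' * e := by
    rw [pow_two, sub_mul, mul_sub, mul_sub, ee, ee']; abel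
  have hh : (1 - 2 * e) * (1 - 2 * e) = 1 := by
    have : (1 - 2 * e) * (1 - 2 * e) = 1 - 4 * e + 4 * (e * e) := by noncomm_ring
    rw [this, ee]; abel
  have hh' : (1 - 2 * e') * (1 - 2 * e') = 1 := by
    have : (1 - 2 * e') * (1 - 2 * e') = 1 - 4 * e' + 4 * (e' * e') := by noncomm_ring
    rw [this, ee']; abel
  have h4 : (4 : ZMod p) • (e - e') ^ 2 =
      (1 + 1) - (1 - 2 * e) * (1 - 2 * e') - (1 - 2 * e') * (1 - 2 * e) := by
    rw [hC, show (4 : ZMod p) = ((4 : ℕ) : ZMod p) by simp, Nat.cast_smul_eq_nsmul]; noncomm_ring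
  have uu : ((1 - 2 * e) * (1 - 2 * e')) * ((1 - 2 * e') * (1 - 2 * e)) = 1 := by
    rw [mul_assoc, ← mul_assoc (1 - 2 * e'), hh', one_mul, hh]
  have uu' : ((1 - 2 * e') * (1 - 2 * e)) * ((1 - 2 * e) * (1 - 2 * e')) = 1 := by
    rw [mul_assoc, ← mul_assoc (1 - 2 * e), hh, one_mul, hh']
  generalize (1 - 2 * e) * (1 - 2 * e') = u at *
  generalize (1 - 2 * e') * (1 - 2 * e) = u' at *
  have cu : Commute u u' := uu.trans uu'.symm
  have ur' : u' ^ r = 1 := by
    have := cu.mul_pow r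
    rw [uu, one_pow, ur, one_mul] at this
    exact this.symm
  have cop : Nat.Coprime p r := (Nat.Prime.coprime_iff_not_dvd hp.out).2 hr
  have r0 : 0 < r := Nat.pos_of_ne_zero (by rintro rfl; exact hr (dvd_zero p))
  obtain ⟨m, hm1, hm2⟩ : ∃ m, p ^ m ≡ 1 [MOD r] ∧ finrank (ZMod p) V ≤ p ^ m := by
    refine ⟨r.totient * finrank (ZMod p) V, ?_, ?_⟩
    · simpa [pow_mul] using (Nat.ModEq.pow_totient cop).pow (finrank (ZMod p) V)
    · exact (Nat.le_mul_of_pos_left _ (Nat.totient_pos.2 r0)).trans (Nat.lt_pow_self hp.out.one_lt).le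
  have fix : ∀ w : End (ZMod p) V, w ^ r = 1 → w ^ p ^ m = w := fun w hw => by
    rw [pow_eq_pow_mod _ hw, hm1, ← pow_eq_pow_mod _ hw, pow_one]
  have n4 : (4 : ZMod p) ≠ 0 := by
    have : (2 : ZMod p) ≠ 0 := fun h => h2 ((Nat.prime_dvd_prime_iff_eq hp.out Nat.prime_two).1
      ((ZMod.natCast_eq_zero_iff 2 p).1 (by exact_mod_cast h)))
    rw [show (4 : ZMod p) = 2 * 2 by norm_num]; exact mul_ne_zero this this
  have hF : ((e - e') ^ 2) ^ p ^ m = (e - e') ^ 2 := by
    have c1 : Commute (1 + 1 : End (ZMod p) V) u := (Commute.one_left u).add_left (Commute.one_left u)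
    have c2 : Commute (1 + 1 - u : End (ZMod p) V) u' :=
      ((Commute.one_left u').add_left (Commute.one_left u')).sub_left cu
    have := congrArg (· ^ p ^ m) h4
    rw [smul_pow, ZMod.pow_card_pow, sub_pow_char_pow_of_commute _ _ c2, sub_pow_char_pow_of_commute _ _ c1,
      add_pow_char_pow_of_commute _ _ (Commute.refl 1), one_pow, fix u ur, fix u' ur', ← h4] at this
    exact smul_right_injective _ n4 this
  obtain ⟨c, hc0⟩ : ∃ c : ZMod p, (e - e') ^ 2 = c • 1 := by
    obtain ⟨f, hf⟩ := hN.exists_aeval hc.symm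
    refine ⟨f.coeff 0, ?_⟩
    have h5 : (e - e') ^ 2 = N * Polynomial.aeval N f.divX + f.coeff 0 • 1 := by
      have := congrArg (Polynomial.aeval N) (Polynomial.X_mul_divX_add f)
      rw [map_add, map_mul, Polynomial.aeval_X, Polynomial.aeval_C, Algebra.algebraMap_eq_smul_one] at this
      rw [hf, this]
    have c3 : Commute N (Polynomial.aeval N f.divX) := by
      simpa using commute_aeval N Polynomial.X f.divX
    have h6 : N ^ p ^ m = 0 := hN.pow_eq_zero_iff.2 hm2
    rw [← hF, h5, add_pow_char_pow_of_commute _ _ ((Commute.one_right _).smul_right _), c3.mul_pow, h6,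
      zero_mul, zero_add, smul_pow, one_pow, ZMod.pow_card_pow]
  have c0 : c ≠ 0 := by
    rintro rfl
    rw [hc0, zero_smul, smul_zero] at h4
    have h5 : (u - 1) ^ 2 = 0 := by
      have : (u - 1) ^ 2 = -(u * (1 + 1 - u - u')) + (1 - u * u') := by noncomm_ring
      rw [this, ← h4, uu]; simp
    have h6 : u ^ p ^ 1 = 1 := pow_char_of_nil (pow_eq_zero_of_le (by simpa using hp.out.two_le) h5)
    rw [pow_one] at h6
    have h7 := pow_gcd_eq_one.2 ⟨h6, ur⟩
    rw [cop, pow_one] at h7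
    exact u1 h7
  rw [hC] at hc0
  have a1 : e * e' * e = (1 - c) • e := by
    have : e * (e + e' - e * e' - e' * e) = e * (c • 1) := by rw [hc0]
    rw [mul_sub, mul_sub, mul_add, ee, e2, ← mul_assoc, mul_smul_comm, mul_one] at this
    rw [sub_smul, one_smul, ← this]; abel
  have a2 : e' * e * e' = (1 - c) • e' := by
    have : e' * (e + e' - e * e' - e' * e) = e' * (c • 1) := by rw [hc0]
    rw [mul_sub, mul_sub, mul_add, ee', e2', ← mul_assoc, mul_smul_comm, mul_one] at this
    rw [sub_smul, one_smul, ← this]; abel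
  refine hN.pow_eq_zero_iff.1 (LinearMap.ext fun v => ?_)
  have b : c • v = e (v - e' v) + e' (v - e v) := by
    have := LinearMap.congr_fun hc0 v
    simp only [LinearMap.sub_apply, LinearMap.add_apply, Module.End.mul_apply, LinearMap.smul_apply,
      Module.End.one_apply] at this
    rw [← this, map_sub, map_sub]; abel
  have : (N ^ 2) (c • v) = (N ^ 2) (e (v - e' v) + e' (v - e v)) := by rw [b]
  rw [map_add, RB.sq_zero ee a1 hN hi ee', RB.sq_zero ee' a2 hN (fun U h h' => hi U h' h) ee, add_zero,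
    map_smul] at this
  exact (smul_eq_zero.1 this).resolve_left c0

end H90.MX
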