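import Mathlib
import Cfsg.Agent.Base
import Cfsg.Agent.Lib.MX.Defs
import Cfsg.Agent.Lib.SL2.Dickson

set_option autoImplicit false
set_option linter.unusedSectionVars false

namespace H90.MX

open Module LinearMap Subgroup Cfsg

namespace RC

open MatrixGroups

theorem a4 : ∀ g : alternatingGroup (Fin 4), g ^ 2 = 1 ∨ g ^ 3 = 1 ∨ g ^ 5 = 1 := by decide +kernel

theorem a5 : ∀ g : alternatingGroup (Fin 5), g ^ 2 = 1 ∨ g ^ 3 = 1 ∨ g ^ 5 = 1 := by decide +kernel

theorem s4 : ∀ g : Equiv.Perm (Fin 4), g ^ 2 = 1 ∨ g ^ 3 = 1 ∨ g ^ 4 = 1 := by decide +kernel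

theorem s4' : ∀ g h : Equiv.Perm (Fin 4), g ^ 4 = 1 → h ^ 4 = 1 → g ^ 2 * h ^ 2 = h ^ 2 * g ^ 2 := by
  decide +kernel

theorem comm_of {J : Type*} [Group J] {x y : J} {m : ℕ} (hm : 2 ≤ m) (hx : orderOf x = 2 * m)
    (hy : orderOf y = 2 * m)
    (h : IsCyclic J ∨ (∃ k, 2 ≤ k ∧ (∃ r : J, orderOf r = k) ∧ Nonempty (J ≃* DihedralGroup k)) ∨
      Nonempty (J ≃* alternatingGroup (Fin 4)) ∨ Nonempty (J ≃* Equiv.Perm (Fin 4)) ∨
      Nonempty (J ≃* alternatingGroup (Fin 5))) : x ^ m * y ^ m = y ^ m * x ^ m := by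
  have k : ∀ {L : Type} [Group L] (e : J ≃* L) {z : J} {n : ℕ}, orderOf z = 2 * m → e z ^ n = 1 →
      2 * m ∣ n := fun e z n hz h => by
    rwa [← hz, orderOf_dvd_iff_pow_eq_one, ← e.map_eq_one_iff, map_pow]
  have k2 : ∀ n, n = 2 ∨ n = 3 ∨ n = 5 → ¬ 2 * m ∣ n := fun n hn h => by
    have h1 := Nat.le_of_dvd (by omega) h
    have h2 := Dvd.dvd.trans (dvd_mul_right 2 m) h
    omega
  have k3 : ∀ {L : Type} [Group L] (e : J ≃* L), (∀ g : L, g ^ 2 = 1 ∨ g ^ 3 = 1 ∨ g ^ 5 = 1) → False :=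
    fun e h => by
      rcases h (e x) with h | h | h <;> exact k2 _ (by simp) (k e hx h)
  rcases h with h | ⟨n, -, -, ⟨e⟩⟩ | ⟨⟨e⟩⟩ | ⟨⟨e⟩⟩ | ⟨⟨e⟩⟩
  · exact h.isMulCommutative.is_comm.comm _ _
  · have k4 : ∀ z : J, orderOf z = 2 * m → ∃ i, e z = .r i := fun z hz => by
      rcases h : e z with i | i
      · exact ⟨i, rfl⟩
      · exact absurd (k e hz (n := 2) (by rw [h, sq, DihedralGroup.sr_mul_self])) (k2 _ (by simp))
    obtain ⟨i, hi⟩ := k4 x hx
    obtain ⟨j, hj⟩ := k4 y hy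
    have : Commute x y := e.injective (by rw [map_mul, map_mul, hi, hj]; simp [add_comm])
    exact (this.pow_pow m m).eq
  · exact (k3 e a4).elim
  · have k4 : ∀ z : J, orderOf z = 2 * m → e z ^ 4 = 1 := fun z hz => by
      rcases s4 (e z) with h | h | h
      exacts [absurd (k e hz h) (k2 _ (by simp)), absurd (k e hz h) (k2 _ (by simp)), h]
    obtain rfl : m = 2 := by
      have := Nat.le_of_dvd (by omega) (k e hx (k4 x hx))
      omega
    exact e.injective (by simpa only [map_mul, map_pow] using s4' _ _ (k4 x hx) (k4 y hy))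
  · exact (k3 e a5).elim

variable {K W H : Type*} [Field K] [AddCommGroup W] [Module K W] [Group H]

theorem exists_J (ρ : H →* End K W) [Finite H] (U : Submodule K W) (h2 : finrank K U = 2) :
    ∃ (St : Subgroup H) (ψ : St →* PGL(2, K)), (∀ g, g ∈ St ↔ ∀ w ∈ U, ρ g w ∈ U) ∧
      ∀ g : St, ψ g = 1 ↔ ∃ t : K, ∀ w ∈ U, ρ g w = t • w := by
  have : Module.Finite K U := Module.finite_of_finrank_pos (by omega)
  let S : Submonoid H :=
    { carrier := {g | ∀ w ∈ U, ρ g w ∈ U}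
      one_mem' := fun w hw => by simpa using hw
      mul_mem' := fun {a b} ha hb w hw => by rw [map_mul]; exact ha _ (hb w hw) }
  let St : Subgroup H :=
    { S with
      inv_mem' := fun {a} ha => by
        have : a⁻¹ = a ^ (Nat.card H - 1) := by
          rw [inv_eq_iff_mul_eq_one, ← pow_succ', Nat.sub_add_cancel Nat.card_pos, pow_card_eq_one']
        exact this ▸ S.pow_mem ha _ }
  let φ : St →* End K U :=
    { toFun := fun g => (ρ g).restrict g.2
      map_one' := by ext; simp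
      map_mul' := fun a b => by ext; simp }
  let b := Module.finBasisOfFinrankEq K U h2
  let φ' : St →* Matrix (Fin 2) (Fin 2) K := (toMatrixAlgEquiv b : End K U →* _).comp φ
  refine ⟨St, Matrix.ProjGenLinGroup.mk.comp φ'.toHomUnits, fun g => Iff.rfl, fun g => ?_⟩
  rw [MonoidHom.comp_apply, Matrix.ProjGenLinGroup.mk_eq_one,
    Matrix.GeneralLinearGroup.mem_center_iff_val_mem_range_scalar]
  refine exists_congr fun t => ?_
  change algebraMap K _ t = toMatrixAlgEquiv b (φ g) ↔ _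
  rw [← (toMatrixAlgEquiv b).commutes, (toMatrixAlgEquiv b).injective.eq_iff]
  exact ⟨fun h w hw => (congrArg (fun f : End K U => (f ⟨w, hw⟩ : W)) h).symm,
    fun h => LinearMap.ext fun w => Subtype.ext (h w w.2).symm⟩

theorem pow_eq {e : End K W} (ee : e * e = e) (c : K) (i : ℕ) :
    (1 + (c - 1) • e) ^ i = 1 + (c ^ i - 1) • e := by
  induction i with
  | zero => simp
  | succ i ih =>
    rw [pow_succ, ih, add_mul, mul_add, mul_add, smul_mul_smul_comm, ee, one_mul, one_mul, mul_one,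
      pow_succ]
    module

theorem exists_eig [IsAlgClosed K] [Module.Finite K W] {u : End K W} {r : ℕ} (hr : (r : K) ≠ 0)
    (u1 : u ≠ 1) (ur : u ^ r = 1) : ∃ (ζ : K) (v : W), ζ ≠ 1 ∧ v ≠ 0 ∧ u v = ζ • v := by
  have hi : ∀ w ∈ LinearMap.range (u - 1), u w ∈ LinearMap.range (u - 1) := by
    rintro _ ⟨w, rfl⟩
    exact ⟨u w, by simp⟩
  have : Nontrivial (LinearMap.range (u - 1)) := Submodule.nontrivial_iff_ne_bot.2 fun h =>
    u1 (sub_eq_zero.1 (range_eq_bot.1 h))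
  obtain ⟨ζ, hζ⟩ := Module.End.exists_eigenvalue (u.restrict hi)
  obtain ⟨⟨_, w, rfl⟩, h1⟩ := hζ.exists_hasEigenvector
  have h2 : u ((u - 1) w) = ζ • (u - 1) w := congrArg Subtype.val h1.apply_eq_smul
  have h3 : (u - 1) w ≠ 0 := fun e => h1.2 (Subtype.ext e)
  refine ⟨ζ, _, ?_, h3, h2⟩
  rintro rfl
  have h4 : ∀ i : ℕ, (u ^ i) ((u - 1) w) = (u - 1) w := fun i => by
    induction i with
    | zero => rfl
    | succ i ih => rw [pow_succ, Module.End.mul_apply, h2, one_smul, ih]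
  have h5 := congrArg (fun f : End K W => f w) (geom_sum_mul u r)
  simp only [ur, sub_self, Module.End.mul_apply, LinearMap.sum_apply, h4, Finset.sum_const,
    Finset.card_range, LinearMap.zero_apply] at h5
  rw [← Nat.cast_smul_eq_nsmul K] at h5
  exact h3 ((smul_eq_zero.1 h5).resolve_left hr)

theorem core {p : ℕ} [Fact p.Prime] [CharP K p] [IsAlgClosed K] [Module.Finite K W] [Finite H]
    (h5 : 5 ≤ p) (hJ : ¬ p ∣ Nat.card H) (ρ : H →* End K W) {x y : H} {e e' : End K W}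
    (ee : e * e = e) (ee' : e' * e' = e') {c : K} (hc : orderOf c = p - 1)
    (hx : ρ x = 1 + (c - 1) • e) (hy : ρ y = 1 + (c - 1) • e') {r : ℕ} (hr : r.Prime) (r2 : r ≠ 2)
    (rp : r ≠ p) (u1 : (1 - 2 * e) * (1 - 2 * e') ≠ 1) (ur : ((1 - 2 * e) * (1 - 2 * e')) ^ r = 1) :
    False := by
  have hp : p.Prime := Fact.out
  obtain ⟨m, hm⟩ : ∃ m, p - 1 = 2 * m := by
    obtain ⟨k, hk⟩ := hp.odd_of_ne_two (by omega)
    exact ⟨k, by omega⟩
  have hm2 : 2 ≤ m := by omega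
  have two : (2 : K) ≠ 0 := fun h => by
    have := Nat.le_of_dvd two_pos ((CharP.cast_eq_zero_iff K p 2).1 (by simpa using h))
    omega
  have cm : c ^ m = -1 := by
    have h1 : c ^ m * c ^ m = 1 := by rw [← pow_add, ← two_mul, ← hm, ← hc, pow_orderOf_eq_one]
    refine (mul_self_eq_one_iff.1 h1).resolve_left fun h => ?_
    have := Nat.le_of_dvd (by omega) (orderOf_dvd_of_pow_eq_one h)
    omega
  have inv : ∀ {e : End K W}, e * e = e → (1 - 2 * e) * (1 - 2 * e) = 1 := fun {e} ee => by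
    have : (1 - 2 * e) * (1 - 2 * e) = 1 - 4 * e + 4 * (e * e) := by noncomm_ring
    rw [this, ee]; abel
  have pm : ∀ {e : End K W} {x : H}, e * e = e → ρ x = 1 + (c - 1) • e → ρ (x ^ m) = 1 - 2 * e :=
    fun {e x} ee hx => by
      rw [map_pow, hx, pow_eq ee, cm, two_mul]; module
  have ev : ∀ (e : End K W) w, e w = (2 : K)⁻¹ • (w - (1 - 2 * e : End K W) w) := fun e w => by
    rw [eq_inv_smul_iff₀ two, two_mul, two_smul]; simp
  have hh := inv ee
  have hh' := inv ee'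
  have px := pm ee hx
  have py := pm ee' hy
  have e1 := ev e
  have e2 := ev e'
  generalize (1 - 2 * e : End K W) = h at *
  generalize (1 - 2 * e' : End K W) = h' at *
  have r0 : (r : K) ≠ 0 := fun k =>
    rp ((Nat.prime_dvd_prime_iff_eq hp hr).1 ((CharP.cast_eq_zero_iff K p r).1 k)).symm
  obtain ⟨ζ, v, z1, v0, hv⟩ := exists_eig r0 u1 ur
  have a1 : ∀ w, h (h w) = w := fun w => by rw [← Module.End.mul_apply, hh]; rfl
  have a2 : ∀ w, h' (h' w) = w := fun w => by rw [← Module.End.mul_apply, hh']; rfl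
  have zr : ζ ^ r = 1 := by
    have : ∀ i : ℕ, ((h * h') ^ i) v = ζ ^ i • v := fun i => by
      induction i with
      | zero => simp
      | succ i ih => rw [pow_succ', Module.End.mul_apply, ih, map_smul, hv, smul_smul, pow_succ]
    have := this r
    rw [ur, Module.End.one_apply, eq_comm, ← sub_eq_zero] at this
    refine sub_eq_zero.1 ((smul_eq_zero.1 (?_ : _ • v = 0)).resolve_right v0)
    rw [sub_smul, one_smul, this]
  have z0 : ζ ≠ 0 := fun k => by simp [k, hr.ne_zero] at zr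
  have z4 : ζ ^ 4 ≠ 1 := fun k => z1 (by
    have h1 := Nat.dvd_gcd (orderOf_dvd_of_pow_eq_one k) (orderOf_dvd_of_pow_eq_one zr)
    have h2 : Nat.Coprime (2 ^ 2) r := ((Nat.coprime_primes Nat.prime_two hr).2 r2.symm).pow_left 2
    rw [show Nat.gcd 4 r = 1 from h2] at h1
    simpa using h1)
  have b1 : h' v = ζ • h v := by rw [← map_smul, ← hv, Module.End.mul_apply, a1]
  have b2 : h' (h v) = ζ⁻¹ • v := by
    rw [eq_inv_smul_iff₀ z0, ← map_smul, ← b1, a2]
  have ind : ∀ s t : K, s • v + t • h v = 0 → s = 0 ∧ t = 0 := fun s t k => by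
    have k1 := congrArg h k
    have k2 := congrArg h' k
    simp only [map_add, map_smul, a1, b1, b2, map_zero] at k1 k2
    have k3 : (t * (ζ ^ 2 - 1)) • v = 0 := by
      have : (t * (ζ ^ 2 - 1)) • v = ζ ^ 2 • (s • h v + t • v) - ζ • (s • ζ • h v + t • ζ⁻¹ • v) := by
        match_scalars <;> (field_simp; try ring)
      rw [this, k1, k2]; simp
    have t0 : t = 0 := ((mul_eq_zero.1 ((smul_eq_zero.1 k3).resolve_right v0)).resolve_right fun k =>
      z4 (by rw [show ζ ^ 4 = (ζ ^ 2) ^ 2 by ring, sub_eq_zero.1 k, one_pow]))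
    rw [t0, zero_smul, add_zero] at k
    exact ⟨(smul_eq_zero.1 k).resolve_right v0, t0⟩
  let U : Submodule K W := Submodule.span K (Set.range ![v, h v])
  have m1 : v ∈ U := Submodule.subset_span ⟨0, rfl⟩
  have m2 : h v ∈ U := Submodule.subset_span ⟨1, rfl⟩
  have st : ∀ f : End K W, f v ∈ U → f (h v) ∈ U → ∀ w ∈ U, f w ∈ U := fun f k1 k2 => by
    change U ≤ U.comap f
    refine Submodule.span_le.2 ?_
    rintro _ ⟨i, rfl⟩
    fin_cases i
    exacts [k1, k2]
  have s1 := st h m2 (by rw [a1]; exact m1)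
  have s2 := st h' (b1 ▸ U.smul_mem _ m2) (b2 ▸ U.smul_mem _ m1)
  obtain ⟨St, ψ, k1, k2⟩ := exists_J ρ U
    ((finrank_span_eq_card (LinearIndependent.pair_iff.2 ind)).trans (by simp))
  have mem : ∀ {e h : End K W} {x : H}, (∀ w, e w = (2 : K)⁻¹ • (w - h w)) → (∀ w ∈ U, h w ∈ U) →
      ρ x = 1 + (c - 1) • e → x ∈ St := fun {e h x} e1 s1 hx => (k1 x).2 fun w hw => by
    rw [hx, LinearMap.add_apply, LinearMap.smul_apply, e1]
    exact U.add_mem hw (U.smul_mem _ (U.smul_mem _ (U.sub_mem hw (s1 w hw))))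
  have mx := mem e1 s1 hx
  have my := mem e2 s2 hy
  have ord : ∀ {e : End K W} {x : H} (mx : x ∈ St) {s : K}, s ≠ 0 → e * e = e →
      e v = (2 : K)⁻¹ • (v - s • h v) → ρ x = 1 + (c - 1) • e →
      orderOf (ψ.rangeRestrict ⟨x, mx⟩) = 2 * m := fun {e x} mx {s} s0 ee e1 hx => by
    rw [← hm, ← hc, orderOf_eq_orderOf_iff]
    intro i
    rw [← map_pow, Subtype.ext_iff]
    refine (k2 _).trans ?_
    simp only [SubgroupClass.coe_pow, map_pow, hx, pow_eq ee]
    refine ⟨fun ⟨t, ht⟩ => ?_, fun k => ⟨1, fun w _ => by simp [k]⟩⟩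
    have := ht v m1
    rw [LinearMap.add_apply, LinearMap.smul_apply, e1, Module.End.one_apply] at this
    have := (ind (1 + (c ^ i - 1) * 2⁻¹ - t) (-((c ^ i - 1) * 2⁻¹ * s))
      (by linear_combination (norm := module) this)).2
    simpa [s0, two, sub_eq_zero] using this
  have ox := ord mx one_ne_zero ee (by rw [e1, one_smul]) hx
  have oy := ord my z0 ee' (by rw [e2, b1]) hy
  have : Finite ψ.range := Finite.of_surjective _ ψ.rangeRestrict_surjective
  have cm' : Commute _ _ := comm_of hm2 ox oy (H29.dickson_tame p ψ.range fun k => hJ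
    (k.trans ((card_dvd_of_surjective _ ψ.rangeRestrict_surjective).trans
      (card_subgroup_dvd_card St))))
  have fin : ψ.rangeRestrict ((⟨x, mx⟩ ^ m * ⟨y, my⟩ ^ m) ^ 2) = 1 := by
    rw [map_pow, map_mul, map_pow, map_pow, cm'.mul_pow, ← pow_mul, ← pow_mul, mul_comm m 2,
      ← ox, pow_orderOf_eq_one, ox, ← oy, pow_orderOf_eq_one, one_mul]
  obtain ⟨t, ht⟩ := (k2 _).1 (congrArg Subtype.val fin)
  simp only [SubgroupClass.coe_pow, Subgroup.coe_mul, sq, map_mul, px, py] at ht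
  have t1 := ht v m1
  have t2 := ht _ m2
  simp only [Module.End.mul_apply, b1, b2, map_smul, a1] at t1 t2
  have t3 := (ind (ζ * ζ - t) 0 (by linear_combination (norm := module) t1)).1
  have t4 := (ind 0 (ζ⁻¹ * ζ⁻¹ - t) (by linear_combination (norm := module) t2)).2
  refine z4 ?_
  have : ζ * ζ = ζ⁻¹ * ζ⁻¹ := by linear_combination t3 - t4
  field_simp at this
  exact this

theorem bc {p : ℕ} [Fact p.Prime] {F V : Type*} [Field F] [AddCommGroup V] [Module F V]
    [Module.Finite F V] (K : Type*) [Field K] [Algebra F K] [CharP K p] [IsAlgClosed K] [Finite H]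
    (h5 : 5 ≤ p) (hJ : ¬ p ∣ Nat.card H) (ρ : H →* End F V) {x y : H} {e e' : End F V}
    (ee : e * e = e) (ee' : e' * e' = e') {c : F} (hc : orderOf c = p - 1)
    (hx : ρ x = 1 + (c - 1) • e) (hy : ρ y = 1 + (c - 1) • e') {r : ℕ} (hr : r.Prime) (r2 : r ≠ 2)
    (rp : r ≠ p) (u1 : (1 - 2 * e) * (1 - 2 * e') ≠ 1) (ur : ((1 - 2 * e) * (1 - 2 * e')) ^ r = 1) :
    False := by
  obtain ⟨bc, hbc⟩ : ∃ bc : End F V →ₐ[F] End K (TensorProduct F K V), Function.Injective bc :=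
    ⟨Module.End.baseChangeHom F K V, LinearMap.baseChangeHom_injective F V K⟩
  obtain ⟨ρ', hρ⟩ : ∃ ρ' : H →* End K (TensorProduct F K V), ∀ g, ρ' g = bc (ρ g) :=
    ⟨(bc : _ →* _).comp ρ, fun _ => rfl⟩
  have k : ∀ {x : H} {e : End F V}, ρ x = 1 + (c - 1) • e →
      ρ' x = 1 + (algebraMap F K c - 1) • bc e := fun {x e} h => by
    rw [hρ, h, map_add, map_one, map_smul, ← map_one (algebraMap F K), ← map_sub, algebraMap_smul]
  have k2 : (1 - 2 * bc e) * (1 - 2 * bc e') = bc ((1 - 2 * e) * (1 - 2 * e')) := by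
    simp only [map_mul, map_sub, map_one, map_ofNat]
  have k3 : orderOf (algebraMap F K c) = p - 1 :=
    (orderOf_injective (algebraMap F K : F →* K) (algebraMap F K).injective c).trans hc
  have k4 : bc e * bc e = bc e := by rw [← map_mul, ee]
  have k5 : bc e' * bc e' = bc e' := by rw [← map_mul, ee']
  have k6 : (1 - 2 * bc e) * (1 - 2 * bc e') ≠ 1 := fun h => u1 (hbc (by rw [← k2, h, map_one]))
  have k7 : ((1 - 2 * bc e) * (1 - 2 * bc e')) ^ r = 1 := by rw [k2, ← map_pow, ur, map_one]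
  exact core h5 hJ ρ' k4 k5 k3 (k hx) (k hy) hr r2 rp k6 k7

end RC

variable {p : ℕ} [hp : Fact p.Prime] {H V : Type*} [Group H] [Finite H] [AddCommGroup V] [Module (ZMod p) V] [Finite V]

theorem tame_absurd (h5 : 5 ≤ p) (hJ : ¬ p ∣ Nat.card H) (ρ : H →* End (ZMod p) V) {x y : H} {e e' : End (ZMod p) V}
    (ee : e * e = e) (ee' : e' * e' = e') {c : ZMod p} (hc : orderOf c = p - 1) (hx : ρ x = 1 + (c - 1) • e)
    (hy : ρ y = 1 + (c - 1) • e') {r : ℕ} (hr : r.Prime) (r2 : r ≠ 2) (rp : r ≠ p)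
    (u1 : (1 - 2 * e) * (1 - 2 * e') ≠ 1) (ur : ((1 - 2 * e) * (1 - 2 * e')) ^ r = 1) : False := by
  exact RC.bc (AlgebraicClosure (ZMod p)) h5 hJ ρ ee ee' hc hx hy hr r2 rp u1 ur

end H90.MX
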