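import Mathlib
import Cfsg.Agent.Base
import Cfsg.Agent.Lib.MX.RA
import Cfsg.Agent.Lib.MX.RB
import Cfsg.Agent.Lib.MX.RC
import Cfsg.Agent.Lib.MX.Q2
import Cfsg.Agent.Lib.FGS.HHFpf
import Cfsg.Agent.S0200

set_option autoImplicit false
set_option linter.unusedSectionVars false

namespace H90.MX

open Module LinearMap Subgroup Cfsg

variable {p : ℕ} [hp : Fact p.Prime] {H V : Type*} [Group H] [Finite H] [AddCommGroup V] [Module (ZMod p) V] [Finite V]

namespace RM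

omit hp in
theorem closure_sub (S : Submonoid H) {x y z : H} (hx : x ∈ S) (hy : y ∈ S) (hz : z ∈ closure ({x, y} : Set H)) :
    z ∈ S := by
  induction hz using closure_induction with
  | mem z hz => rcases hz with rfl | rfl <;> assumption
  | one => exact one_mem _
  | mul a b _ _ ha hb => exact mul_mem ha hb
  | inv a _ ha => exact RA.inv_mem_sub S ha

theorem comm_sq {A : Type*} [Ring A] {e e' : A} (ee : e * e = e) (ee' : e' * e' = e') : Commute e ((e - e') ^ 2) := by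
  have h1 : ∀ z, e * (e * z) = e * z := fun z => by rw [← mul_assoc, ee]
  show _ * _ = _ * _
  simp only [sq, mul_sub, sub_mul, mul_assoc, ee, ee', h1]
  abel

theorem not_dvd_two (h5 : 5 ≤ p) : ¬ p ∣ 2 := fun c => by
  have := Nat.le_of_dvd two_pos c
  omega

theorem two_ne (h5 : 5 ≤ p) : (2 : ZMod p) ≠ 0 := fun c =>
  not_dvd_two h5 ((ZMod.natCast_eq_zero_iff 2 p).1 (by exact_mod_cast c))

theorem normal_two (h5 : 5 ≤ p) (ρ : H →* End (ZMod p) V) (inj : Function.Injective ρ) {s : H} (sp : s ^ p = 1)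
    (hr : Reg (ρ s - 1)) (hC : ∀ x, Commute x s → ∃ k, x ^ p ^ k = 1) {N : Subgroup H} (hN : N.Normal)
    (h2 : IsPGroup 2 N) {h : H} (hh : h ∈ N) (h1 : h ≠ 1) : p ≤ finrank (ZMod p) V := by
  obtain ⟨n, hn⟩ := IsPGroup.iff_card.1 h2
  have nd : ¬ p ∣ Nat.card N := fun c => not_dvd_two h5 (hp.out.dvd_of_dvd_pow (hn ▸ c))
  have fpf : ∀ k ∈ N, s * k = k * s → k = 1 := fun k hk e => by
    obtain ⟨j, hj⟩ := hC k e.symm
    exact Q2.eq_one_of_pow hj (congrArg Subtype.val (pow_card_eq_one' (x := (⟨k, hk⟩ : N)))) nd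
  have := H76.hall_higman_fpf ρ (p := p) (x := s) (K := N) (n := 0)
    (f := (Polynomial.X - Polynomial.C 1) ^ finrank (ZMod p) V)
    (fun g => ⟨1, Subtype.ext (by
      obtain ⟨g, j, rfl⟩ := g
      show (s ^ j) ^ p ^ 1 = 1
      rw [pow_one, ← zpow_natCast, ← zpow_mul, mul_comm, zpow_mul, zpow_natCast, sp, one_zpow])⟩)
    (by rw [normalizer_eq_top]; exact mem_top _) (hp.out.coprime_iff_not_dvd.2 nd).symm
    (mt (ZMod.natCast_eq_zero_iff _ p).1 nd) (fun k _ e => inj (e.trans (map_one ρ).symm))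
    (by rw [zero_add, pow_one, sp]; exact one_mem _)
    (fun c => h1 (fpf h hh (by simpa using (c h hh).symm)))
    ((Polynomial.monic_X_sub_C 1).pow _).ne_zero
    (by rw [map_pow, map_sub, Polynomial.aeval_X, Polynomial.C_1, map_one]; exact hr.pow_eq_zero_iff.2 le_rfl)
    fpf (Or.inr zero_le_one)
  rwa [(Polynomial.monic_X_sub_C 1).natDegree_pow, Polynomial.natDegree_X_sub_C, mul_one, zero_add, pow_one] at this

omit [Finite H] [Finite V] in
theorem inv_flag (ρ : H →* End (ZMod p) V) {u h : H} (hi : h * u * h⁻¹ = u⁻¹) (j : ℕ) {v : V}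
    (hv : v ∈ range ((ρ u - 1) ^ j)) : ρ h v ∈ range ((ρ u - 1) ^ j) := by
  obtain ⟨z, rfl⟩ := hv
  have e1 : ρ h * (ρ u - 1) = (ρ u - 1) * -ρ u⁻¹ * ρ h := by
    rw [mul_neg, sub_mul, ← map_mul, mul_inv_cancel, map_one, one_mul, neg_sub, sub_mul, one_mul, mul_sub, mul_one,
      ← map_mul, ← map_mul, mul_inv_eq_iff_eq_mul.1 hi]
  have c : Commute (ρ u - 1) (-ρ u⁻¹) :=
    (((Commute.refl u).inv_right.map ρ).sub_left (Commute.one_left _)).neg_right
  refine ⟨((-ρ u⁻¹) ^ j * ρ h) z, ?_⟩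
  rw [← End.mul_apply, ← End.mul_apply, ← mul_assoc, ← c.mul_pow, (SemiconjBy.pow_right e1 j).eq]

end RM

open RM

theorem r2_main (ρ : H →* End (ZMod p) V) (inj : Function.Injective ρ) (hT : ¬ p ^ 2 ∣ Nat.card H) {s : H}
    (sp : s ^ p = 1) (hr : Reg (ρ s - 1)) (h3 : 3 ≤ finrank (ZMod p) V) (hd : finrank (ZMod p) V + 1 ≤ p)
    (hC : ∀ x, Commute x s → ∃ k, x ^ p ^ k = 1) {e : End (ZMod p) V} (ee : e * e = e) (e0 : e ≠ 0)
    (hτ : ∀ c : ZMod p, c ≠ 0 → ∃ g, ρ g = 1 + (c - 1) • e) : False := by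
  have h5 : 5 ≤ p := by
    by_contra c
    obtain rfl : p = 4 := by omega
    exact absurd hp.out (by decide)
  have s1 : s ≠ 1 := by
    rintro rfl
    have := hr.2
    rw [map_one, sub_self, ker_zero, finrank_top] at this
    omega
  obtain ⟨h, hh⟩ := hτ (-1) (neg_ne_zero.2 one_ne_zero)
  have h2 : h ^ 2 = 1 := inj (by rw [map_pow, hh, RA.idem_pow ee, map_one]; simp)
  have t2 : ∀ f : End (ZMod p) V, 1 + ((-1 : ZMod p) - 1) • f = 1 - 2 * f := fun f => by
    rw [two_mul]; module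
  have h1 : h ≠ 1 := by
    rintro rfl
    rw [map_one, left_eq_add] at hh
    refine (smul_eq_zero.1 hh).elim (fun c => two_ne h5 ?_) e0
    linear_combination -c
  by_cases hO : ∃ N : Subgroup H, N.Normal ∧ IsPGroup 2 N ∧ h ∈ N
  · obtain ⟨N, a, b, c⟩ := hO
    have := normal_two h5 ρ inj sp hr hC a b c h1
    omega
  obtain ⟨u₁, a1, a2, a3⟩ := Cfsg.Agent.S0200.result h (orderOf_eq_prime h2 h1) fun N a b c => hO ⟨N, a, b, c⟩
  obtain ⟨r, rp, hr1⟩ := Nat.exists_prime_and_dvd (mt orderOf_eq_one_iff.1 a1)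
  obtain ⟨u, ou, hi⟩ : ∃ u : H, orderOf u = r ∧ h * u * h⁻¹ = u⁻¹ :=
    ⟨u₁ ^ (orderOf u₁ / r), orderOf_pow_orderOf_div (orderOf_pos _).ne' hr1, by rw [← conj_pow, a3, inv_pow]⟩
  have u1 : u ≠ 1 := fun c => rp.ne_one (by rw [← ou, c, orderOf_one])
  have ur : u ^ r = 1 := ou ▸ pow_orderOf_eq_one u
  obtain ⟨m, hm⟩ := a2.of_dvd_nat hr1
  obtain ⟨c, hc⟩ := IsCyclic.exists_ofOrder_eq_natCard (α := (ZMod p)ˣ)
  rw [Nat.card_eq_fintype_card, ZMod.card_units, ← orderOf_units] at hc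
  obtain ⟨x, hx⟩ := hτ c c.ne_zero
  by_cases e1 : r = p
  · obtain ⟨b1, b2⟩ := reg_of_order ρ hT sp s1 hr hC (e1 ▸ ur) u1
    have q : (c : ZMod p) ^ 2 ≠ 1 := fun k => by
      have := Nat.le_of_dvd two_pos (hc ▸ orderOf_dvd_of_pow_eq_one k)
      omega
    refine flag_absurd ρ inj hT (e1 ▸ ur) b1 h3 (by omega) b2 ee e0 c.ne_zero (fun k => q (by simp [k]))
      (fun k => q (by simp [k])) hx fun j v hv => (Submodule.smul_mem_iff _ (two_ne h5)).1 ?_
    convert sub_mem hv (inv_flag ρ hi j hv) using 1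
    rw [hh, LinearMap.add_apply, LinearMap.smul_apply, End.one_apply]
    module
  obtain ⟨g, hg⟩ : ∃ g, h * (g * h * g⁻¹) = u := ⟨u ^ m, by
    have b1 : h * u ^ m * h = (u ^ m)⁻¹ := by
      rw [← inv_pow, ← hi, conj_pow, inv_eq_of_mul_eq_one_right ((sq h).symm.trans h2)]
    rw [← mul_assoc, ← mul_assoc, b1, ← mul_inv_rev, ← pow_add, inv_eq_iff_mul_eq_one, ← pow_succ, ← two_mul, ← hm, ur]⟩
  have cj : ∀ {z : H} {a : ZMod p}, ρ z = 1 + a • e → ρ (g * z * g⁻¹) = 1 + a • (ρ g * e * ρ g⁻¹) := fun k => by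
    rw [map_mul, map_mul, k, mul_add, add_mul, mul_one, ← map_mul, mul_inv_cancel, map_one, mul_smul_comm,
      smul_mul_assoc]
  have ee' : ρ g * e * ρ g⁻¹ * (ρ g * e * ρ g⁻¹) = ρ g * e * ρ g⁻¹ := by
    rw [mul_assoc, ← mul_assoc (ρ g⁻¹), ← mul_assoc (ρ g⁻¹), ← map_mul, inv_mul_cancel, map_one, one_mul,
      ← mul_assoc, mul_assoc (ρ g), ee]
  have hu : ρ u = (1 - 2 * e) * (1 - 2 * (ρ g * e * ρ g⁻¹)) := by rw [← hg, map_mul, cj hh, hh, t2, t2]
  have hy := cj hx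
  generalize ρ g * e * ρ g⁻¹ = e' at *
  generalize g * x * g⁻¹ = y at *
  have v1 : (1 - 2 * e) * (1 - 2 * e') ≠ 1 := hu ▸ fun k => u1 (inj (k.trans (map_one ρ).symm))
  have vr : ((1 - 2 * e) * (1 - 2 * e')) ^ r = 1 := by rw [← hu, ← map_pow, ur, map_one]
  by_cases hJ : p ∣ Nat.card (closure ({x, y} : Set H))
  · obtain ⟨⟨u₀, hu₀⟩, o⟩ := exists_prime_orderOf_dvd_card' p hJ
    rw [← orderOf_coe] at o
    have o : orderOf u₀ = p := o
    obtain ⟨b1, -⟩ := reg_of_order ρ hT sp s1 hr hC (u := u₀) (o ▸ pow_orderOf_eq_one u₀)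
      fun k => hp.out.ne_one (by rw [← o, k, orderOf_one])
    have := two_le (by omega) ee ee' (fun k => e1 ((Nat.prime_dvd_prime_iff_eq hp.out rp).1 k).symm) v1 vr b1
      (Commute.sub_left ?_ (Commute.one_left _)) fun U a a' v hv => sub_mem ?_ hv
    · omega
    · refine closure_sub ((Submonoid.centralizer {(e - e') ^ 2}).comap ρ) ?_ ?_ hu₀ _ rfl |>.symm
      · rintro _ rfl
        exact (hx ▸ (Commute.one_left _).add_left ((comm_sq ee ee').smul_left _)).eq.symm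
      · rintro _ rfl
        have := comm_sq ee' ee
        rw [← neg_sq, neg_sub] at this
        exact (hy ▸ (Commute.one_left _).add_left (this.smul_left _)).eq.symm
    · refine closure_sub (S :=
        { carrier := {z | ∀ v ∈ U, ρ z v ∈ U}
          one_mem' := fun v hv => by rwa [map_one]
          mul_mem' := fun a b v hv => by rw [map_mul]; exact a _ (b v hv) }) (fun v hv => ?_) (fun v hv => ?_) hu₀ v hv
      · rw [hx]
        exact add_mem hv (U.smul_mem _ (a v hv))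
      · rw [hy]
        exact add_mem hv (U.smul_mem _ (a' v hv))
  · exact tame_absurd h5 hJ (ρ.comp (Subgroup.subtype _)) (x := ⟨x, subset_closure (by simp)⟩)
      (y := ⟨y, subset_closure (by simp)⟩) ee ee' hc hx hy rp (by omega) e1 v1 vr

theorem r2_two (h5 : 5 ≤ p) (ρ : H →* End (ZMod p) V) (inj : Function.Injective ρ) (hT : ¬ p ^ 2 ∣ Nat.card H) {s : H}
    (s1 : s ≠ 1) (qs : (ρ s - 1) ^ 2 = 0) (hC : ∀ x, Commute x s → ∃ k, x ^ p ^ k = 1) : (zpowers s).Normal := by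
  have sp : s ^ p = 1 := inj (by
    simpa using pow_char_of_nil (p := p) (e := 1) (pow_eq_zero_of_le (by rw [pow_one]; omega) qs))
  have o : Nat.card (zpowers s) = p := by rw [Nat.card_zpowers, orderOf_eq_prime sp s1]
  by_contra hn
  rw [← normalizer_eq_top_iff] at hn
  obtain ⟨P, hP⟩ := RA.exists_sylow hT sp s1
  have hM : IsStronglyPEmbedded p (normalizer (zpowers s : Set H)) :=
    H68.spe_iff_sylow.2 ⟨o ▸ card_subgroup_dvd_card _, hn, P, fun Q hQ hQ1 => by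
      rw [hP] at hQ
      rw [eq_of_le_of_card_ge hQ (by
        rcases (Nat.dvd_prime hp.out).1 (o ▸ card_dvd_of_le hQ) with e | e
        · exact absurd (card_eq_one.1 e) hQ1
        · rw [e, o])]⟩
  obtain ⟨g, -, hg⟩ := SetLike.exists_of_lt (lt_top_iff_ne_top.2 hn)
  have sM := le_normalizer (mem_zpowers s)
  obtain ⟨h, h2, hc, e, -⟩ := exists_inv h5 ρ inj hM sM
    (fun k => hg (H68.spe_mem_of_conj_mem hM sM s1 (k := 1) (by rwa [pow_one]) k)) s1 qs (Q2.quad_conj ρ qs g)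
  obtain ⟨k, hk⟩ := hC h hc
  rw [Q2.eq_one_of_pow hk h2 (not_dvd_two h5), map_one, one_mul, eq_neg_iff_add_eq_zero, ← two_smul (ZMod p)] at e
  exact s1 (inj ((sub_eq_zero.1 ((smul_eq_zero.1 e).resolve_left (two_ne h5))).trans (map_one ρ).symm))

end H90.MX
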