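import Mathlib
import Cfsg.Agent.Base
import Cfsg.Agent.Lib.MX.PW
import Cfsg.Agent.Lib.MX.PU
import Cfsg.Agent.Lib.MX.RM

set_option autoImplicit false
set_option linter.unusedSectionVars false

namespace H90.MX

open Subgroup Cfsg H83.Krek H93
open scoped commutatorElement

universe u

variable {G : Type u} [Group G] [Finite G] {p n m j : ℕ} [hp : Fact p.Prime]

theorem nx_end (h : MC p n G) (h4 : 4 ≤ n) (h5 : 5 ≤ p) (hne : C2 G (n - 3) = C2 G 1)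
    (hab : ¬ IsMulCommutative (C2 G 1)) {H : Subgroup (MulAut (C2 G 1))}
    (hH : H68.SylowIn p (MulAut.conjNormal : G →* MulAut (C2 G 1)).range H)
    (hext : ∀ φ ∈ H, ∀ s ∉ C2 G 1, φ * MulAut.conjNormal s * φ⁻¹ ∈ (MulAut.conjNormal : G →* MulAut (C2 G 1)).range →
      ∃ ψ : MulAut G, ∀ x : C2 G 1, ψ x = φ x)
    (σ : ℕ → MulAut (C2 G 1)) (hσ : ∀ k, ¬ p ∣ k → σ k ∈ H)
    (h1 : ∀ y ∈ center (C2 G 1), y ^ p = 1 → ∃ u v, y = u * v ∧ u ^ p = 1 ∧ ∀ k, ¬ p ∣ k → σ k u = u ^ k ∧ σ k v = v)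
    (h2 : ∃ z : C2 G 1, (z : G) ∈ center G ∧ σ 2 z ≠ z)
    (h3 : ∃ u : C2 G 1, u ^ p = 1 ∧ (∃ t ∈ ga G 2, ¬ Commute t u) ∧ ∀ k, ¬ p ∣ k → σ k u ^ k = u) : False := by
  obtain ⟨Y, V, _, _, _, π, R, μ⟩ := PA.exists_md (p := p) (C2 G 1)
  haveI := PA.char_of μ.mem
  have zY : ∀ y : C2 G 1, (y : G) ∈ ga G (n - 2) → y ∈ Y := fun y hy => (μ.mem y).2
    ⟨mem_center_iff.2 fun g => Subtype.ext ((mem_C_iff h h4).1 (hne.ge g.2) y hy),
      Subtype.ext (pow_eq_one_of_mem h h4 (by omega) hy)⟩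
  have cY : ∀ y ∈ Y, ∀ g ∈ C2 G 1, Commute g y := fun y hy g hg =>
    congrArg Subtype.val (mem_center_iff.1 ((μ.mem y).1 hy).1 ⟨g, hg⟩)
  have R1 : ∀ g : G, R (MulAut.conjNormal g) = 1 ↔ g ∈ C2 G 1 := fun g => μ.eq_one_iff.trans
    ⟨fun e => hne.le ((mem_C_iff h h4).2 fun y hy => mul_inv_eq_iff_eq_mul.1
      (congrArg Subtype.val (e ⟨y, ga_le_C2 (by omega) hy⟩ (zY _ hy)))),
      fun hg y hy => Subtype.ext (mul_inv_eq_of_eq_mul (cY y hy g hg))⟩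
  obtain ⟨c, c1, cn, ec⟩ := eq_ga_of_normal h h4 (map_subtype_le Y)
  have mY : ∀ {y : C2 G 1}, (y : G) ∈ ga G c → y ∈ Y := fun k => (mem_map_iff_mem (subtype_injective _)).1 (ec.ge k)
  have c2 : 2 ≤ c := not_lt.1 fun k => hab ⟨⟨fun a b => Subtype.ext
    (cY b (mY (ga_anti (by omega) (ga_one.ge b.2))) a a.2)⟩⟩
  have S := μ.sec (ec.trans (ga_eq_lc c2)) h
  obtain ⟨s, hs⟩ := exists_out h h4
  have hs' := hs.not_mem h4
  have hr := S.reg h (by omega) (by omega) hs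
  have hd : Module.finrank (ZMod p) V + 1 ≤ p := by
    have a := S.finrank_le h (by omega) (by omega) hs
    by_contra b
    have := le_of_ga_le h h4 (i := c) (j := n + 1 - p) (by omega) (ec.ge.trans (by
      rintro _ ⟨y, hy, rfl⟩
      exact mem_ga_of_pow h h4 hne (by omega) y.2 (congrArg Subtype.val ((μ.mem y).1 hy).2)))
    omega
  let ρ₀ := R.comp H.subtype
  have b0 : ∀ {x : G}, x ∈ ga G n ↔ x = 1 := by rw [ga_eq_bot h h4 le_rfl]; exact mem_bot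
  have hK : ρ₀.ker ≤ hH.toSylow := IsPGroup.le_sylow_of_normal (fun φ => by
    obtain ⟨e, he⟩ := u_prime h h4 (by omega) le_rfl (ne_of_eq h h4 hne) hH
      (fun φ _ x hx => b0.2 (by rw [OneMemClass.coe_eq_one.1 (b0.1 hx), map_one]; rfl)) (fun φ _ y => μ.aut φ) zY
      (fun x y hy => b0.2 (commutatorElement_eq_one_iff_commute.2 (cY y hy x x.2))) φ.1.2
      fun y hy => b0.2 (inv_mul_eq_one.2 (congrArg Subtype.val (μ.eq_one_iff.1 φ.2 y hy)).symm)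
    exact ⟨e, Subtype.ext (Subtype.ext (MulEquiv.ext fun x => Subtype.ext (inv_mul_eq_one.1 (b0.1 (he x))).symm))⟩) _
  let ι₀ : G →* H := MulAut.conjNormal.codRestrict H fun g => hH.le ⟨g, rfl⟩
  let q := QuotientGroup.mk' ρ₀.ker
  let ι := q.comp ι₀
  let ρ := QuotientGroup.lift ρ₀.ker ρ₀ fun _ h => h
  have inj : Function.Injective ρ := (injective_iff_map_eq_one _).2 fun x =>
    QuotientGroup.induction_on x fun φ e => (QuotientGroup.eq_one_iff φ).2 e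
  have ι1 : ∀ g, ι g = 1 ↔ g ∈ C2 G 1 := fun g => (QuotientGroup.eq_one_iff _).trans (R1 g)
  have hT : ¬ p ^ 2 ∣ Nat.card (H ⧸ ρ₀.ker) := fun d => by
    have a := ((hH.toSylow.mapSurjective (QuotientGroup.mk'_surjective ρ₀.ker)).pow_dvd_card_of_pow_dvd_card d).trans
      (card_dvd_of_le (K := ι.range) (by
        rintro _ ⟨φ, ⟨g, e⟩, rfl⟩
        exact ⟨g, congrArg q (Subtype.ext e)⟩))
    rw [← index_ker] at a
    have := Nat.le_of_dvd hp.out.pos (a.trans ((index_dvd_of_le fun g => (ι1 g).2).trans (index_C2 h le_rfl h4).dvd))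
    nlinarith
  have ext : ∀ φ : H, q φ * ι s * (q φ)⁻¹ ∈ ι.range → ∃ ψ : MulAut G, ∀ x : C2 G 1, ψ x = φ.1 x := fun φ ⟨g, e⟩ =>
    hext φ φ.2 s hs' ((mul_mem_cancel_left (inv_mem (MonoidHom.mem_range.2 ⟨g, rfl⟩))).1
      (hK (QuotientGroup.eq.1 (e : q (ι₀ g) = q (φ * ι₀ s * φ⁻¹)))))
  have hC : ∀ x, Commute x (ι s) → ∃ k, x ^ p ^ k = 1 := fun x cx => by
    obtain ⟨φ, rfl⟩ := QuotientGroup.mk'_surjective _ x
    have e := mul_inv_eq_of_eq_mul cx.eq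
    obtain ⟨ψ, hψ⟩ := ext φ ⟨s, e.symm⟩
    have a : ι₀ (ψ s) = φ * ι₀ s * φ⁻¹ := Subtype.ext (MulEquiv.ext fun x => Subtype.ext (by
      have := hψ (φ.1⁻¹ x)
      rw [MulAut.apply_inv_self] at this
      refine Eq.trans ?_ (hψ (MulAut.conjNormal s (φ.1⁻¹ x)))
      rw [MulAut.conjNormal_apply, map_mul, map_mul, map_inv, this]
      rfl))
    obtain ⟨k, hk⟩ := w_one h h4 hne hab ψ hs' ((ι1 _).1 (by
      rw [map_mul, map_inv, inv_mul_eq_one]
      exact e.symm.trans (congrArg q a).symm))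
    have b : ∀ (m : ℕ) (x : C2 G 1), (ψ ^ m) x = (φ.1 ^ m) x := fun m => by
      induction m with
      | zero => exact fun _ => rfl
      | succ m ih => exact fun x => by rw [pow_succ, pow_succ, MulAut.mul_apply, MulAut.mul_apply, hψ, ih]
    exact ⟨k, by rw [← map_pow, show φ ^ p ^ k = 1 from Subtype.ext (MulEquiv.ext fun x => Subtype.ext
      ((b _ x).symm.trans (by rw [hk]; rfl))), map_one]⟩
  have p2 : ¬ p ∣ 2 := fun d => by have := Nat.le_of_dvd two_pos d; omega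
  generalize he : R (σ 2) - 1 = e
  have se : ∀ y ∈ Y, e (π y) = π (σ 2 y * y⁻¹) := fun y hy => he ▸ μ.sub _ hy
  have dec : ∀ y ∈ Y, ∃ u ∈ Y, ∃ v ∈ Y, y = u * v ∧ e (π y) = π u ∧ ∀ k, ¬ p ∣ k → σ k u = u ^ k ∧ σ k v = v :=
    fun y hy => by
    obtain ⟨u, v, rfl, -, a⟩ := h1 y ((μ.mem y).1 hy).1 ((μ.mem y).1 hy).2
    have b : σ 2 (u * v) * (u * v)⁻¹ = u := by rw [map_mul, (a 2 p2).1, (a 2 p2).2]; group
    have c : u ∈ Y := b ▸ mul_mem (μ.aut _ hy) (inv_mem hy)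
    exact ⟨u, c, v, (mul_mem_cancel_left c).1 hy, rfl, by rw [se _ hy, b], a⟩
  have ee : e * e = e := LinearMap.ext fun w => by
    obtain ⟨y, hy, rfl⟩ := μ.surj w
    obtain ⟨u, hu, v, -, -, a, b⟩ := dec y hy
    rw [Module.End.mul_apply, a, se u hu, (b 2 p2).1, sq, mul_inv_cancel_right]
  have hτ : ∀ k, ¬ p ∣ k → R (σ k) = 1 + ((k : ZMod p) - 1) • e := fun k hk => LinearMap.ext fun w => by
    obtain ⟨y, hy, rfl⟩ := μ.surj w
    obtain ⟨u, hu, v, hv, rfl, a, b⟩ := dec y hy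
    rw [μ.act _ _ hy, map_mul, (b k hk).1, (b k hk).2, μ.mul _ (pow_mem hu k) _ hv, μ.pow hu, LinearMap.add_apply,
      LinearMap.smul_apply, a, Module.End.one_apply, μ.mul _ hu _ hv]
    module
  obtain ⟨z, hz, hz'⟩ := h2
  have hzY := zY z (ga_anti (by omega) ((ga_center h h4).ge hz))
  have e0 : e (π z) ≠ 0 := fun a => hz' (mul_inv_eq_one.1
    (μ.ker _ (mul_mem (μ.aut _ hzY) (inv_mem hzY)) ((se z hzY).symm.trans a)))
  have nd : ∀ c : ZMod p, c ≠ 0 → ¬ p ∣ c.val := fun c hc d =>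
    hc ((ZMod.natCast_zmod_val c).symm.trans ((ZMod.natCast_eq_zero_iff _ _).2 d))
  by_cases d3 : 3 ≤ Module.finrank (ZMod p) V
  · exact r2_main ρ inj hT (s := ι s) (by rw [← map_pow, ι1]; exact lc_one_le_C2 1 (h.pow_mem_lc_one s)) hr d3 hd hC ee
      (fun a => e0 (by rw [a]; rfl)) fun c hc => ⟨q ⟨_, hσ _ (nd c hc)⟩,
        (hτ _ (nd c hc)).trans (by rw [ZMod.natCast_zmod_val])⟩
  have qs := hr.pow_eq_zero_iff.2 (Nat.le_of_lt_succ (not_le.1 d3))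
  have hN := r2_two h5 ρ inj hT (s := ι s) (fun a => hs' ((ι1 s).1 a)) qs hC
  obtain ⟨k, k0, hk⟩ : ∃ k : ℕ, ¬ p ∣ k ∧ orderOf (k : ZMod p) = p - 1 := by
    obtain ⟨g, hg⟩ := IsCyclic.exists_ofOrder_eq_natCard (α := (ZMod p)ˣ)
    exact ⟨_, nd g g.ne_zero, by rw [ZMod.natCast_zmod_val, orderOf_units, hg, Nat.card_eq_fintype_card, ZMod.card_units]⟩
  have k1 : (k : ZMod p) - 1 ≠ 0 := fun a => by
    rw [sub_eq_zero.1 a, orderOf_one] at hk
    omega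
  obtain ⟨ψ, hψ⟩ := ext ⟨_, hσ k k0⟩ (zpowers_le.2 (MonoidHom.mem_range.2 ⟨s, rfl⟩) (hN.conj_mem _ (mem_zpowers _) _))
  have z1 : (z : G) ≠ 1 := fun a => hz' (by rw [OneMemClass.coe_eq_one.1 a, map_one])
  have sp : ∀ w : C2 G 1, (w : G) ∈ center G → ∃ i : ℕ, π w = (i : ZMod p) • π z := fun w hw => by
    obtain ⟨i, hi⟩ := mem_powers_iff_mem_zpowers.2 ((eq_zpowers_of_card h.card_center hz z1).ge hw)
    exact ⟨i, by rw [← μ.pow hzY, show z ^ i = w from Subtype.ext hi]⟩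
  have zk : π (σ k z) = (k : ZMod p) • π z := by
    obtain ⟨i, hi⟩ := sp (σ k z) (hψ z ▸ characteristic_iff_le_comap.1 inferInstance ψ hz)
    have a := congrArg e hi
    rw [← μ.act _ _ hzY, hτ k k0, ← Module.End.mul_apply, mul_add, mul_smul_comm, ee, mul_one, map_smul] at a
    rw [hi, smul_left_injective (ZMod p) e0 (a.symm.trans (by simp [sub_smul]) : _ = (k : ZMod p) • e (π z))]
  have ez : e (π z) = π z := smul_right_injective V k1 (by
    rw [← μ.act _ _ hzY, hτ k k0] at zk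
    exact (eq_sub_of_add_eq' zk).trans (by simp [sub_smul]))
  obtain ⟨v, hv, v1, ev, σv⟩ : ∃ v ∈ Y, v ≠ 1 ∧ e (π v) = 0 ∧ σ k v = v := by_contra fun a => by
    have b : e = 1 := LinearMap.ext fun w => by
      obtain ⟨y, hy, rfl⟩ := μ.surj w
      obtain ⟨u, hu, v, hv, rfl, b, c⟩ := dec y hy
      obtain rfl : v = 1 := by_contra fun d =>
        a ⟨v, hv, d, by rw [se v hv, (c 2 p2).2, mul_inv_cancel, μ.one], (c k k0).2⟩
      rw [b, mul_one]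
      rfl
    have c : ρ (q ⟨_, hσ k k0⟩) = (k : ZMod p) • 1 := (hτ k k0).trans (by rw [b, sub_smul, one_smul, add_sub_cancel])
    obtain ⟨j, hj⟩ := hC (q ⟨_, hσ k k0⟩) (Commute.of_map inj (c ▸ (Commute.one_left _).smul_left _))
    have d := congrArg (fun x => ρ x (π z)) hj
    simp only [map_pow, c, smul_pow, one_pow, ZMod.pow_card_pow, map_one] at d
    exact e0 (ez.trans ((smul_eq_zero_iff_right k1).1 (by rw [sub_smul, one_smul]; exact sub_eq_zero.2 d)))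
  have wY := mul_mem (μ.aut (MulAut.conjNormal s) hv) (inv_mem hv)
  have w1 : Commute s ⁅s, (v : G)⁆ := commutatorElement_eq_one_iff_commute.1 (congrArg Subtype.val
    (μ.ker _ (mul_mem (μ.aut (MulAut.conjNormal s) wY) (inv_mem wY)) (by
      rw [← μ.sub _ wY, ← μ.sub _ hv, ← Module.End.mul_apply, ← sq, qs, LinearMap.zero_apply])))
  obtain ⟨u, up, ⟨t, ht, htu⟩, σu⟩ := h3
  refine w_two h h4 hne ψ hk hz z1 ((hψ z).trans (congrArg Subtype.val
    (μ.inj (μ.aut _ hzY) (pow_mem hzY k) (zk.trans (μ.pow hzY k).symm)))) (hs.mem_ga_of_comm h h4 hs' v.2 (by omega) ?_)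
    (fun a => v1 ?_) ((hψ v).trans (congrArg Subtype.val σv)) u.2 (congrArg Subtype.val up)
    (hψ u ▸ congrArg Subtype.val (σu k k0)) ht htu
  · rw [show n - 2 + 1 = n - 1 by omega]
    exact hs.mem_ga_of_commute h h4 hs' (by omega) (MulAut.conjNormal s v * v⁻¹).2 w1
  · obtain ⟨i, hi⟩ := sp v a
    exact μ.ker v hv (by rw [← ev, hi, map_smul, ez])

end H90.MX
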