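import Mathlib
import Cfsg.Agent.Base
import Cfsg.Agent.Lib.MX.B1
import Cfsg.Agent.Lib.MX.Red

set_option autoImplicit false
set_option linter.unusedSectionVars false

namespace H90.MX

open Subgroup Cfsg

variable {p : ℕ} [hp : Fact p.Prime]

namespace TOR

open Module

theorem spe_map {A B : Type*} [Group A] [Finite A] [Group B] [Finite B] (π : A →* B)
    (hπ : Function.Surjective π) {M : Subgroup A} (hK : π.ker ≤ M) (hM : M ≠ ⊤)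
    (spe : ∀ x ∈ M, ∀ g, (∃ k, x ^ p ^ k = 1) → π x ≠ 1 → g * x * g⁻¹ ∈ M → g ∈ M)
    {a : A} (haM : a ∈ M) (a1 : π a ≠ 1) (ap : ∃ k, a ^ p ^ k = 1) :
    IsStronglyPEmbedded p (M.map π) := by
  have cm := comap_map_eq_self hK
  refine H68.spe_iff_normalizer.2 ⟨fun e => hM (by rw [← cm, e, comap_top]), ?_, fun X h1 h2 h3 => ?_⟩
  · obtain ⟨k, hk⟩ := ap
    obtain ⟨i, -, hi⟩ := (Nat.dvd_prime_pow hp.out).1
      (orderOf_dvd_of_pow_eq_one (show π a ^ p ^ k = 1 by rw [← map_pow, hk, map_one]))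
    refine Dvd.dvd.trans ?_ (orderOf_dvd_natCard _ (mem_map_of_mem π haM))
    rw [hi]
    exact dvd_pow_self p fun e => a1 (by simpa [e] using hi)
  · intro g hg
    obtain ⟨g, rfl⟩ := hπ g
    obtain ⟨⟨x, hx⟩, x1⟩ := ne_bot_iff_exists_ne_one.1 h3
    obtain ⟨k, hk⟩ := h2 ⟨x, hx⟩
    obtain ⟨x0, h4, rfl⟩ := h1 hx
    obtain ⟨j, b, h5⟩ := H90.exists_pow_p_part (p := p) x0 k
    have h6 : π (x0 ^ (1 + p ^ k * j)) = π x0 := by
      have : π x0 ^ p ^ k = 1 := congrArg Subtype.val hk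
      rw [map_pow, pow_add, pow_mul, this]; simp
    refine mem_map_of_mem π (spe _ (M.pow_mem h4 _) g ⟨b, h5⟩ (h6 ▸ fun e => x1 (Subtype.ext e)) ?_)
    rw [← cm, mem_comap, map_mul, map_mul, map_inv, h6]
    exact h1 ((mem_normalizer_iff.1 hg _).1 hx)

theorem lin (h5 : 5 ≤ p) {A B V : Type*} [Group A] [Finite A] [Group B] [Finite B] [AddCommGroup V]
    [Module (ZMod p) V] [Finite V] (π : A →* B) (hπ : Function.Surjective π)
    (ρ : B →* End (ZMod p) V) (inj : Function.Injective ρ) {M T : Subgroup A} (hK : π.ker ≤ M)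
    (hM : M ≠ ⊤) (spe : ∀ x ∈ M, ∀ g, (∃ k, x ^ p ^ k = 1) → π x ≠ 1 → g * x * g⁻¹ ∈ M → g ∈ M)
    (hT : H68.SylowIn p T ⊤) {a : A} (haT : a ∈ T) (haM : a ∈ M) (a1 : π a ≠ 1)
    (qa : (ρ (π a) - 1) ^ 2 = 0) :
    ∃ τ : ℕ → A, (∀ k, ¬ p ∣ k → τ k * a * (τ k)⁻¹ ∈ T) ∧
      (∀ w, ρ (π a) w = w → ∃ u v, w = u + v ∧ ∀ k, ¬ p ∣ k →
        ρ (π (τ k)) u = k • u ∧ ρ (π (τ k)) v = v) ∧
      (∃ u, ρ (π a) u ≠ u ∧ ∀ k, ¬ p ∣ k → k • ρ (π (τ k)) u = u) ∧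
      ∀ z, ρ (π a) z = z → ρ (π (τ 2)) z = z → ∃ c, c ∉ M ∧ ρ (π c) z = z := by
  have ap : ∃ k, a ^ p ^ k = 1 := (hT.isPGroup ⟨a, haT⟩).imp fun k h => congrArg Subtype.val h
  have hM' := spe_map π hπ hK hM spe haM a1 ap
  have cm := comap_map_eq_self hK
  obtain ⟨g, hg⟩ : ∃ g, g ∉ M := not_forall.1 (mt (eq_top_iff' M).2 hM)
  obtain ⟨c, c1, qc, e1, e2⟩ := exists_partner h5 ρ inj hM' (b := π g * π a * (π g)⁻¹)
    (mem_map_of_mem π haM) (fun k => hg (spe a haM g ap a1 (by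
      rwa [← cm, mem_comap, map_mul, map_mul, map_inv]))) a1 qa (Q2.quad_conj ρ qa _)
  obtain ⟨c, rfl⟩ := hπ c
  obtain ⟨α, hα⟩ : ∃ α, ρ (π a) = 1 + α := ⟨ρ (π a) - 1, by abel⟩
  obtain ⟨β, hβ⟩ : ∃ β, ρ (π c) = 1 + β := ⟨ρ (π c) - 1, by abel⟩
  simp only [hα, hβ, add_sub_cancel_left, sq] at qa qc e1 e2
  have key : ∀ k : ℕ, ∃ τ : A, ¬ p ∣ k → τ * a * τ⁻¹ ∈ T ∧ ρ (π τ) =
      1 + ((k : ZMod p) - 1) • (-(α * β)) + ((k : ZMod p)⁻¹ - 1) • (-(β * α)) := fun k => by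
    by_cases hk : p ∣ k
    · exact ⟨1, fun h => absurd hk h⟩
    obtain ⟨τ, t1, t2⟩ := exists_torus_lin ρ inj hα hβ qa qc e1 e2 hk
    obtain ⟨τ, rfl⟩ := hπ τ
    obtain ⟨n, hn⟩ := ap
    obtain ⟨κ, k1, k2⟩ := H90.exists_conj_le_of_le_sup hT (C := π.ker) (X := zpowers (τ * a * τ⁻¹))
      le_top le_normalizer_of_normal (H68.isPGroup_zpowers (k := n) (by rw [conj_pow, hn]; simp))
      (zpowers_le.2 (by
        rw [← mul_inv_cancel_left (a ^ (k * k)) (τ * a * τ⁻¹)]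
        refine mul_mem_sup (T.pow_mem haT _) ?_
        rw [MonoidHom.mem_ker, map_mul, map_inv, map_pow, ← t1, map_mul, map_mul, map_inv,
          inv_mul_cancel]))
    refine ⟨κ * τ, fun _ => ⟨?_, ?_⟩⟩
    · simpa [mul_assoc] using k2 _ (mem_zpowers _)
    · rw [map_mul, MonoidHom.mem_ker.1 k1, one_mul, t2]
  choose τ hτ using key
  have aa : ∀ w, α (α w) = 0 := fun w => congrArg (fun f : End (ZMod p) V => f w) qa
  have bb : ∀ w, β (β w) = 0 := fun w => congrArg (fun f : End (ZMod p) V => f w) qc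
  have aba : ∀ w, α (β (α w)) = -α w := fun w => congrArg (fun f : End (ZMod p) V => f w) e1
  have bab : ∀ w, β (α (β w)) = -β w := fun w => congrArg (fun f : End (ZMod p) V => f w) e2
  have t : ∀ k, ¬ p ∣ k → ∀ w, ρ (π (τ k)) w =
      w - ((k : ZMod p) - 1) • α (β w) - ((k : ZMod p)⁻¹ - 1) • β (α w) := fun k hk w => by
    rw [(hτ k hk).2]
    simp [sub_eq_add_neg]
  have fa : ∀ w, ρ (π a) w = w ↔ α w = 0 := fun w => by rw [hα]; simp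
  refine ⟨τ, fun k hk => (hτ k hk).1, fun w hw => ⟨-α (β w), w + α (β w), by abel, fun k hk => ?_⟩,
    ?_, fun z h1 h2 => ⟨c, fun k => c1 (mem_map_of_mem π k), ?_⟩⟩
  · rw [fa] at hw
    rw [t k hk, t k hk, ← Nat.cast_smul_eq_nsmul (ZMod p)]
    simp only [map_neg, map_add, aa, aba, hw, map_zero]
    constructor <;> module
  · obtain ⟨w, hw⟩ : ∃ w, α (β w) ≠ 0 := by
      by_contra! k
      refine a1 (inj ?_)
      rw [map_one]
      ext w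
      rw [Module.End.one_apply, fa, ← neg_eq_zero, ← aba, k]
    refine ⟨β w, (fa _).not.2 hw, fun k hk => ?_⟩
    have k0 : (k : ZMod p) ≠ 0 := (ZMod.natCast_eq_zero_iff k p).not.2 hk
    rw [t k hk, ← Nat.cast_smul_eq_nsmul (ZMod p), bb, bab, map_zero]
    match_scalars
    field_simp
    ring
  · have p2 : ¬ p ∣ 2 := fun k => by have := Nat.le_of_dvd two_pos k; omega
    rw [fa] at h1
    rw [t 2 p2, h1, map_zero, smul_zero, sub_zero, sub_eq_self] at h2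
    have h3 : α (β z) = 0 := by simpa [show (2 : ZMod p) - 1 = 1 by ring] using h2
    have h4 := bab z
    rw [h3, map_zero, eq_comm, neg_eq_zero] at h4
    rw [hβ]
    simp [h4]

end TOR

theorem TOR.aux (h5 : 5 ≤ p) {A W : Type*} [Group A] [Finite A] [CommGroup W] [Finite W] [Module (ZMod p) (Additive W)]
    (r : A →* MulAut W) {M T : Subgroup A} (hK : r.ker ≤ M) (hM : M ≠ ⊤)
    (spe : ∀ x ∈ M, ∀ g, (∃ k, x ^ p ^ k = 1) → r x ≠ 1 → g * x * g⁻¹ ∈ M → g ∈ M)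
    (hT : H68.SylowIn p T ⊤) {a : A} (haT : a ∈ T) (haM : a ∈ M) (a1 : r a ≠ 1)
    (qa : ∀ w, r a (w⁻¹ * r a w) = w⁻¹ * r a w) :
    ∃ τ : ℕ → A, (∀ k, ¬ p ∣ k → τ k * a * (τ k)⁻¹ ∈ T) ∧
      (∀ w, r a w = w → ∃ u v, w = u * v ∧ ∀ k, ¬ p ∣ k → r (τ k) u = u ^ k ∧ r (τ k) v = v) ∧
      (∃ u, r a u ≠ u ∧ ∀ k, ¬ p ∣ k → r (τ k) u ^ k = u) ∧
      ∀ z, r a z = z → r (τ 2) z = z → ∃ c, c ∉ M ∧ r c z = z := by
  have inj : Function.Injective ((linAut (p := p) W).comp r.range.subtype) := fun x y e =>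
    Subtype.ext (MulEquiv.ext fun w =>
      (LinearMap.congr_fun e (Additive.ofMul w) :))
  obtain ⟨τ, h1, h2, ⟨u, h3, h4⟩, h6⟩ := TOR.lin h5 r.rangeRestrict r.rangeRestrict_surjective _ inj
    (M := M) (T := T) (by rwa [MonoidHom.ker_rangeRestrict]) hM
    (fun x hx g k1 k2 => spe x hx g k1 fun e => k2 (Subtype.ext e)) hT haT haM
    (fun e => a1 (congrArg Subtype.val e)) (LinearMap.ext fun w => by
      rw [sq, Module.End.mul_apply, LinearMap.sub_apply, LinearMap.zero_apply, sub_eq_zero,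
        LinearMap.sub_apply, sub_eq_neg_add]
      exact qa w.toMul)
  exact ⟨τ, h1, fun w hw => h2 (.ofMul w) hw, ⟨u.toMul, h3, h4⟩, fun z => h6 (.ofMul z)⟩

theorem exists_torus (h5 : 5 ≤ p) {A W : Type*} [Group A] [Finite A] [CommGroup W] [Finite W] (hW : ∀ w : W, w ^ p = 1)
    (r : A →* MulAut W) {M T : Subgroup A} (hK : r.ker ≤ M) (hM : M ≠ ⊤)
    (spe : ∀ x ∈ M, ∀ g, (∃ k, x ^ p ^ k = 1) → r x ≠ 1 → g * x * g⁻¹ ∈ M → g ∈ M)
    (hT : H68.SylowIn p T ⊤) {a : A} (haT : a ∈ T) (haM : a ∈ M) (a1 : r a ≠ 1)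
    (qa : ∀ w, r a (w⁻¹ * r a w) = w⁻¹ * r a w) :
    ∃ τ : ℕ → A, (∀ k, ¬ p ∣ k → τ k * a * (τ k)⁻¹ ∈ T) ∧
      (∀ w, r a w = w → ∃ u v, w = u * v ∧ ∀ k, ¬ p ∣ k → r (τ k) u = u ^ k ∧ r (τ k) v = v) ∧
      (∃ u, r a u ≠ u ∧ ∀ k, ¬ p ∣ k → r (τ k) u ^ k = u) ∧
      ∀ z, r a z = z → r (τ 2) z = z → ∃ c, c ∉ M ∧ r c z = z :=
  @TOR.aux p _ h5 A W _ _ _ _ (AddCommGroup.zmodModule fun w => hW w.toMul) r M T hK hM spe hT a haT haM a1 qa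

end H90.MX
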