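import Mathlib
import Cfsg.Agent.Base
import Cfsg.Agent.Lib.MX.FL
import Cfsg.Agent.Lib.MX.TOR
import Cfsg.Agent.Lib.MX.NX

/-!
# Essential subgroups of groups of maximal class: the case that is not exceptional (helper84)
-/

set_option autoImplicit false
set_option linter.unusedSectionVars false

namespace H90.MX

open Subgroup Cfsg Cfsg.FusionSystem H83.Krek H93
open scoped commutatorElement

universe u

namespace FN

/-- the central elements of order dividing `p` -/
def W (p : ℕ) (X : Type*) [Group X] : Subgroup X where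
  carrier := {x | x ∈ center X ∧ x ^ p = 1}
  one_mem' := ⟨one_mem _, one_pow _⟩
  mul_mem' := fun {a b} ha hb => ⟨mul_mem ha.1 hb.1, by
    rw [Commute.mul_pow (mem_center_iff.1 hb.1 a), ha.2, hb.2, one_mul]⟩
  inv_mem' := fun {a} ha => ⟨inv_mem ha.1, by rw [inv_pow, ha.2, inv_one]⟩

instance charW (p : ℕ) (X : Type*) [Group X] : (W p X).Characteristic :=
  characteristic_iff_le_comap.2 fun α x hx => ⟨mem_center_iff.2 fun y => by
    obtain ⟨y, rfl⟩ := α.surjective y
    exact (map_mul α y x).symm.trans ((congrArg α (mem_center_iff.1 hx.1 y)).trans (map_mul α x y)),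
    (map_pow α x p).symm.trans ((congrArg α hx.2).trans (map_one α))⟩

instance commW (p : ℕ) (X : Type*) [Group X] : CommGroup (W p X) :=
  { (inferInstance : Group (W p X)) with mul_comm := fun a b => Subtype.ext (mem_center_iff.1 b.2.1 a) }

theorem exists_last {G : Type u} [Group G] {E : Subgroup G} {n : ℕ} (h0 : ¬ ga G 0 ≤ E) (h : ga G n ≤ E) :
    ∃ j, ¬ ga G j ≤ E ∧ ga G (j + 1) ≤ E := by
  induction n with
  | zero => exact absurd h h0
  | succ n ih =>
    by_cases k : ga G n ≤ E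
    exacts [ih k, ⟨n, k, h⟩]

end FN

open FN

variable {p n : ℕ} [hp : Fact p.Prime] {G : Type u} [Group G] [Finite G] {F : FusionSystem (⊤ : Subgroup G)}
  {E : Subgroup G}

theorem Bad.nonexc (b : Bad p n F E) (hne : C2 G (n - 3) = C2 G 1)
    (hmax : ∀ R, F.IsEssential p R → Nat.card E < Nat.card R → R = C2 G 1) : False := by
  have h := b.mc
  have h4 := b.four
  have c := b.toCtx
  have hN : ∀ t ∈ normalizer (E : Set G), t ∈ C2 G 1 := fun t ht => by_contra fun k =>
    b.not_out ht (out_of_not_mem h k (hne ▸ k))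
  have hE : E ≤ C2 G 1 := fun x hx => hN x (le_normalizer hx)
  have hE' : ¬ C2 G 1 ≤ E := fun k => b.ne (by rw [le_antisymm hE k, card_C2 h h4 le_rfl h4])
  obtain ⟨g, hg, hg'⟩ := c.exists_not_mem_ext b.ess
  obtain ⟨z, hz, z1⟩ : ∃ z ∈ center G, z ≠ 1 := by
    by_contra! k
    have := h.card_center
    rw [show center G = ⊥ from eq_bot_iff.2 k, card_bot] at this
    exact hp.out.one_lt.ne this
  have zp : z ^ p = 1 := by
    rw [← h.card_center]
    exact congrArg Subtype.val (pow_card_eq_one' (x := (⟨z, hz⟩ : center G)))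
  have zE : z ∈ E := ess_center_le b.ess hz
  have cw := b.cent hg hg' hz z1
  have wE : extA E g z ∈ E := extA_mem g zE
  have wp : extA E g z ^ p = 1 := by rw [← (homOn_extA g).pow zE, zp, (homOn_extA g).one]
  generalize extA E g z = w at cw wE wp
  have nw : ¬ ∀ s ∈ C2 G 1, Commute s w := fun k =>
    hE' fun s hs => cw.le (mem_centralizer_singleton_iff.2 (k s hs))
  have hab : ¬ IsMulCommutative (C2 G 1) := fun k => nw fun s hs =>
    congrArg Subtype.val (k.is_comm.comm ⟨s, hs⟩ ⟨w, hE wE⟩)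
  have n5 : 5 ≤ n := not_lt.1 fun k => nw fun s hs => commutatorElement_eq_one_iff_commute.1
    (mem_bot.1 ((ga_eq_bot h h4 (by omega)).le (comm_C2_mem h h4 hs (hE wE))))
  have h5 : 5 ≤ p := not_lt.1 fun k => by
    have p4 : p ≠ 4 := fun e => absurd (e ▸ hp.out) (by norm_num)
    exact nw fun s hs => (mem_C_iff h h4).1 (hne ▸ hs) w
      (ga_anti (by omega) (mem_ga_of_pow h h4 hne (by omega) (hE wE) wp))
  have p2 : ¬ p ∣ 2 := fun k => by have := Nat.le_of_dvd two_pos k; omega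
  obtain ⟨j, j1, j2⟩ := exists_last (E := E) (n := n) (fun k => hE' ((ga_anti (G := G) (Nat.zero_le 1)).trans k
    |>.trans' (ga_one (G := G)).ge)) ((ga_eq_bot h h4 le_rfl).le.trans bot_le)
  have j3 : 2 ≤ j := not_lt.1 fun k => by
    have a : lc G 1 ≤ E := (ga_two (G := G)).ge.trans ((ga_anti (by omega)).trans j2)
    exact b.not_normal ⟨fun y hy g => by
      simpa [commutatorElement_def] using mul_mem (a (comm_mem_lc_succ g (mem_top y))) hy⟩
  obtain ⟨t, tj, tE⟩ := SetLike.not_le_iff_exists.1 j1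
  have ht : t ∈ normalizer (E : Set G) := mem_normalizer_of_conj_mem fun x hx => by
    simpa [commutatorElement_def] using
      mul_mem (j2 (comm_mem_comm (comm_mem_ga_succ x (by omega) tj))) hx
  let r : F.autGroup E →* MulAut (W p E) := (MulAut.characteristic (W p E)).comp (F.autGroup E).subtype
  let ι : W p E →* C2 G 1 := (inclusion hE).comp (W p E).subtype
  have ιi : Function.Injective ι := (inclusion_injective hE).comp (W p E).subtype_injective
  have hr : ∀ (α : F.autGroup E) (x : W p E), (ι (r α x) : G) = extA E α (ι x) := fun α x =>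
    (extA_coe α.1 x.1).symm
  have ext : ∀ {x y : W p E}, (ι x : G) = ι y → x = y := fun e => ιi (Subtype.ext e)
  let a : F.autGroup E := ⟨conjAut E t ht, conjAut_mem_aut ht⟩
  have ha : ∀ x : W p E, (ι (r a x) : G) = t * ι x * t⁻¹ := fun x => rfl
  let z₀ : W p E := ⟨⟨z, zE⟩, mem_center_iff.2 fun y => Subtype.ext (mem_center_iff.1 hz y), Subtype.ext zp⟩
  have fix : ∀ α : F.autGroup E, r α z₀ = z₀ → α.1 ∈ extAut F E := fun α k =>
    b.mem_ext_of_fix α.2 hz z1 (by
      have := hr α z₀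
      rw [k] at this
      exact this ▸ hz)
  obtain ⟨P, hP⟩ := (sylowIn_of_normalized c.pg c.sat b.ess.2.1).exists_sylow
  obtain ⟨τ, t1, t2, ⟨u, t3, t4⟩, t5⟩ := exists_torus h5 (fun x : W p E => Subtype.ext x.2.2) r
    (M := (extAut F E).subgroupOf (F.autGroup E)) (T := (autInducedBy ⊤ E).subgroupOf (F.autGroup E))
    (fun α k => fix α (by rw [MonoidHom.mem_ker.1 k]; rfl))
    (fun k => hg' (k.ge (mem_top (⟨g, hg⟩ : F.autGroup E))))
    (fun x hx y ⟨k, hk⟩ h1 h2 => c.mem_ext_of_conj b.ess hx ⟨k, congrArg Subtype.val hk⟩ (fun i => h1 (by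
      obtain ⟨e, he, i⟩ := mem_inn.1 i
      refine MulEquiv.ext fun v => ext ?_
      exact (hr _ _).trans ((i _ v.1.2).trans
        (mul_inv_eq_iff_eq_mul.2 (congrArg Subtype.val (mem_center_iff.1 v.2.1 ⟨e, he⟩)))))) y.2 h2)
    (hP ▸ H68.sylowIn_top P) (a := a) (conjAut_mem_top ht) (c.conjAut_mem_ext b.ess ht)
    (fun k => tE (cw.le (mem_centralizer_singleton_iff.2 (by
      have := ha ⟨⟨w, wE⟩, mem_center_iff.2 fun y => Subtype.ext
        (mem_centralizer_singleton_iff.1 (cw.ge y.2)), Subtype.ext wp⟩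
      rw [k] at this
      exact mul_inv_eq_iff_eq_mul.1 this.symm))))
    (fun v => ext (by
      rw [ha, mul_comm v⁻¹, map_mul, map_inv, coe_mul, coe_inv, ha]
      exact mul_inv_eq_iff_eq_mul.2 (quad_ga h h4 j3 tj (ι v).2 (congrArg (fun x => (ι x : G))
        (show v ^ p = 1 from Subtype.ext v.2.2)) fun y hy =>
          (congrArg Subtype.val (mem_center_iff.1 v.2.1 ⟨y, j2 hy⟩)).symm)))
  have hQ : E ⊔ zpowers t ≤ C2 G 1 := sup_le hE (zpowers_le.2 (hN t ht))
  have lt : Nat.card E < Nat.card (E ⊔ zpowers t : Subgroup G) :=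
    card_lt_of_lt (lt_of_le_of_ne le_sup_left fun e => tE (e.ge (mem_sup_right (mem_zpowers t))))
  have ex : ∀ k, ∃ φ : MulAut (C2 G 1), ¬ p ∣ k → φ ∈ F.autGroup (C2 G 1) ∧
      ∀ x : W p E, φ (ι x) = ι (r (τ k) x) := fun k => by
    by_cases hk : p ∣ k
    · exact ⟨1, fun e => absurd hk e⟩
    obtain ⟨f, f1, f2⟩ := c.exists_ext b.ess.2.1 (τ k).2 ht (t1 k hk)
    obtain ⟨φ, φ1, φ2⟩ := c.ext_gam f1 hQ fun R hR => (lt_or_ge (Nat.card E) (Nat.card R)).imp (hmax R hR)
      fun e => ((card_le_of_le inf_le_left).trans e).trans_lt lt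
    refine ⟨φ, fun _ => ⟨φ1, fun x => Subtype.ext ?_⟩⟩
    rw [hr, ← extA_coe φ]
    exact (φ2 _ (mem_sup_left x.1.2)).trans (f2 _ x.1.2)
  choose σ hσ using ex
  refine nx_end h h4 h5 hne hab c.syl_gam c.ext_of_gam σ (fun k hk => (hσ k hk).1) (fun y hy yp => ?_)
    ⟨ι z₀, hz, fun k => ?_⟩ ⟨ι u, ?_, ⟨t, ga_anti j3 tj, fun k => t3 (ext ?_)⟩, fun k hk => ?_⟩
  · have yc : ∀ x ∈ C2 G 1, x * y = y * x := fun x hx => congrArg Subtype.val (mem_center_iff.1 hy ⟨x, hx⟩)
    have yE : (y : G) ∈ E := ess_cent_le b.ess fun x hx => yc x (hE hx)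
    obtain ⟨u, v, e1, e2⟩ := t2 ⟨⟨y, yE⟩, mem_center_iff.2 fun x => Subtype.ext (yc x (hE x.2)),
      Subtype.ext (congrArg Subtype.val yp :)⟩ (ext (by
        rw [ha]; exact mul_inv_eq_iff_eq_mul.2 (yc t (hN t ht))))
    refine ⟨ι u, ι v, (congrArg ι e1).trans (map_mul ι u v), ?_, fun k hk => ?_⟩
    · rw [← map_pow, show u ^ p = 1 from Subtype.ext u.2.2, map_one]
    · rw [(hσ k hk).2, (hσ k hk).2, (e2 k hk).1, (e2 k hk).2, map_pow]
      exact ⟨rfl, rfl⟩
  · rw [(hσ 2 p2).2] at k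
    obtain ⟨d, d1, d2⟩ := t5 z₀ (ext (by
      rw [ha]; exact mul_inv_eq_iff_eq_mul.2 (mem_center_iff.1 hz t))) (ιi k)
    exact d1 (fix d d2)
  · rw [← map_pow, show u ^ p = 1 from Subtype.ext u.2.2, map_one]
  · rw [ha]; exact mul_inv_eq_iff_eq_mul.2 k
  · rw [(hσ k hk).2, ← map_pow, t4 k hk]

omit hp [Finite G] in
theorem eqns_fn : True := by
  have := @FN.W.eq_1.{0}
  trivial

end H90.MX
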