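import Mathlib
import Cfsg.Agent.Base
import Cfsg.Agent.Lib.MX.FD
import Cfsg.Agent.Lib.MX.PW
import Cfsg.Agent.Lib.Fusion.R2

/-! Essential subgroups outside `γ₁` in the exceptional case (helper16). -/

set_option autoImplicit false
set_option linter.unusedSectionVars false

namespace H90.MX

open Subgroup Cfsg Cfsg.FusionSystem H83.Krek H93
open scoped commutatorElement

universe u

variable {p n : ℕ} [hp : Fact p.Prime] {G : Type u} [Group G] [Finite G] {F : FusionSystem (⊤ : Subgroup G)}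
  {E : Subgroup G}

namespace FP

variable {j : ℕ} {x y : G}

theorem ext_comm (α : MulAut E) (hz : x ∈ E) (c : ∀ u ∈ E, Commute u x) :
    ∀ u ∈ E, Commute u (extA E α x) := fun u hu => by
  have : Commute (α⁻¹ ⟨u, hu⟩) ⟨x, hz⟩ := Subtype.ext (c _ (α⁻¹ ⟨u, hu⟩).2)
  have := (this.map α).map E.subtype
  rwa [MulAut.apply_inv_self, coe_subtype, ← extA_of_mem α hz] at this

variable (h : MC p n G) (h4 : 4 ≤ n)
include h h4

theorem dec (hx : x ∈ E) (hx' : x ∉ C2 G 1) (e : E ⊓ C2 G 1 = ga G j) (hy : y ∈ E) :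
    ∃ k : ℤ, ∃ v ∈ ga G j, y = x ^ k * v := by
  obtain ⟨k, v, hv, rfl⟩ := exists_zpow_mul h h4 (i := 0) (u := x) (x := y) (ga_zero (G := G) ▸ mem_top _)
    (by rwa [zero_add, ga_one]) (ga_zero (G := G) ▸ mem_top _)
  exact ⟨k, v, e.le ⟨(mul_mem_cancel_left (zpow_mem hx k)).1 hy, by rwa [zero_add, ga_one] at hv⟩, rfl⟩

theorem card_eq (hx : ¬ E ≤ C2 G 1) (e : E ⊓ C2 G 1 = ga G j) (hj : j ≤ n) :
    Nat.card E = p ^ (n - j + 1) := by
  have a : (C2 G 1).relIndex E = p :=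
    ((Nat.dvd_prime hp.out).1 (index_C2 h le_rfl h4 ▸ relIndex_dvd_index_of_normal _ _)).resolve_left
      fun k => hx (relIndex_eq_one.1 k)
  rw [← ((C2 G 1).subgroupOf E).card_mul_index, ← relIndex, a, ← inf_subgroupOf_left,
    H1.card_subgroupOf_of_le inf_le_left, e, card_ga h h4 hj, pow_succ]

theorem ab (hx : x ∈ E) (hx' : x ∉ C2 G 1) (e : E ⊓ C2 G 1 = ga G j) (hj : n ≤ j + j)
    (c : ∀ v ∈ ga G j, Commute x v) : IsMulCommutative E := ⟨⟨fun a b => Subtype.ext (by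
  obtain ⟨k, v, hv, e1⟩ := dec h h4 hx hx' e a.2
  obtain ⟨l, w, hw, e2⟩ := dec h h4 hx hx' e b.2
  rw [coe_mul, coe_mul, e1, e2]
  exact (((Commute.refl x).zpow_zpow k l).mul_right ((c w hw).zpow_left k)).mul_left
    (((c v hv).symm.zpow_right l).mul_right (commute_of_mem_ga h h4 hv hw hj)))⟩⟩

theorem comm_mem (hx : x ∈ E) (hx' : x ∉ C2 G 1) (e : E ⊓ C2 G 1 = ga G j) (hj : 1 ≤ j) {a b : G}
    (ha : a ∈ E) (hb : b ∈ E) : ⁅a, b⁆ ∈ ga G (j + 1) := by
  obtain ⟨k, v, hv, rfl⟩ := dec h h4 hx hx' e ha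
  obtain ⟨l, w, hw, rfl⟩ := dec h h4 hx hx' e hb
  have c : ∀ g, ∀ v ∈ ga G j, Commute (QuotientGroup.mk' (ga G (j + 1)) g) (QuotientGroup.mk' _ v) :=
    fun g v hv => by
      rw [← commutatorElement_eq_one_iff_commute, ← map_commutatorElement]
      exact (QuotientGroup.eq_one_iff _).2 (comm_mem_ga_succ g hj hv)
  rw [← QuotientGroup.eq_one_iff, ← QuotientGroup.mk'_apply, map_commutatorElement,
    commutatorElement_eq_one_iff_commute, map_mul]
  refine Commute.mul_left ?_ (c _ v hv).symm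
  rw [map_mul]
  refine Commute.mul_right ?_ (c _ w hw)
  rw [map_zpow, map_zpow]
  exact (Commute.refl _).zpow_zpow k l

end FP

theorem Ctx.par (c : Ctx p n F) (hne : C2 G (n - 3) ≠ C2 G 1) (hE : F.IsEssential p E) {j : ℕ}
    (hj : j + 2 = n ∨ j + 3 = n) (hx : ¬ E ≤ C2 G 1) (e : E ⊓ C2 G 1 = ga G j) (hΦ : ∀ y ∈ E, y ^ p ∈ ga G (j + 1))
    (hN : ∀ α ∈ F.autGroup E, ∀ y ∈ ga G (j + 1), extA E α y ∈ ga G (j + 1))
    (hext : ∀ (Q : Subgroup G) (f : G → G), E < Q → Map F Q f → ∃ φ : MulAut G, ∀ y ∈ Q, φ y = f y) : False := by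
  have h := c.mc
  have h4 := c.four
  have h6 := exc_six h h4 hne
  obtain ⟨i, rfl⟩ : ∃ i, j = i + 1 := ⟨j - 1, by omega⟩
  have jE : ga G (i + 1) ≤ E := e.ge.trans inf_le_left
  have NE' : ga G (i + 1 + 1) ≤ E := (ga_anti (Nat.le_succ _)).trans jE
  obtain ⟨x, hxE, hx'⟩ := SetLike.not_le_iff_exists.1 hx
  obtain ⟨t, t1, t2⟩ := exists_ga_gen h h4 (i := i) (by omega)
  have tE : t ∉ E := fun k => t2 (e.le ⟨k, ga_le_C2 (by omega) t1⟩)
  have ht : t ∈ normalizer (E : Set G) := mem_normalizer_fintype fun y hy => by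
    simpa [commutatorElement_def] using
      mul_mem (jE (comm_mem_comm (comm_mem_ga_succ y (by omega) t1))) hy
  have hP : IsPGroup p E := h.isPGroup.to_subgroup E
  have hN' : ∀ α ∈ F.autGroup E, ∀ y ∈ (ga G (i + 1 + 1)).subgroupOf E,
      α y ∈ (ga G (i + 1 + 1)).subgroupOf E := fun α hα y hy => by
    rw [mem_subgroupOf, ← extA_coe]
    exact hN α hα y hy
  have τ0 : ∀ y ∈ (ga G (i + 1 + 1)).subgroupOf E, conjAut E t ht y = y := fun y hy => Subtype.ext (by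
    rw [conjAut_apply, (commute_of_mem_ga h h4 t1 (mem_subgroupOf.1 hy) (by omega)).eq,
      mul_inv_cancel_right])
  have r := exists_r2 hP (A := F.autGroup E)
    (A₀ := fixingSubgroup (MulAut E) ((ga G (i + 1 + 1)).subgroupOf E : Set E))
    (sylowIn_of_normalized c.pg c.sat hE.2.1).isPGroup (sylowIn_of_normalized c.pg c.sat hE.2.1).le
    (conjAut_mem_top ht) ((mem_fixingSubgroup_iff _).2 τ0)
    (fun α hα => mem_normalizer_fintype fun β hβ => (mem_fixingSubgroup_iff _).2 fun y hy => by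
      have := (mem_fixingSubgroup_iff _).1 hβ _ (hN' _ (inv_mem hα) y hy)
      change α (β (α⁻¹ y)) = y
      rw [show β (α⁻¹ y) = α⁻¹ y from this, MulAut.apply_inv_self])
    (fun k => tE (mem_of_conjAut_mem_pCoreOf hE.1 (isRadical_of_isEssential c.pg hE)
      (g := t) ⟨mem_top t, ht⟩ k))
    (N := (ga G (i + 1 + 1)).subgroupOf E)
    (map_le_iff_le_comap.1 ((H5.map_frattini_le_iff hP).2
      ⟨commutator_le.2 fun a ha b hb => FP.comm_mem h h4 hxE hx' e (by omega) ha hb, hΦ⟩)) hN'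
    (by
      have := ((ga G (i + 1 + 1)).subgroupOf E).card_mul_index
      rw [H1.card_subgroupOf_of_le NE', card_ga h h4 (by omega), FP.card_eq h h4 hx e (by omega),
        show n - (i + 1) + 1 = n - (i + 1 + 1) + 2 by omega, pow_add,
        mul_right_inj' (pow_ne_zero _ hp.out.ne_zero)] at this
      exact this.le)
    fun α hα hc => H5.aut_eq_one_of_stabilizes hP α hc _ ((mem_fixingSubgroup_iff _).1 hα.2)
  obtain ⟨δ, ⟨hδ, δ0⟩, δn⟩ := r.neg
  replace δ0 : ∀ y ∈ (ga G (i + 1 + 1)).subgroupOf E, δ y = y := (mem_fixingSubgroup_iff _).1 δ0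
  have τA := conjAut_mem_aut (F := F) ht
  have τT := conjAut_mem_top ht
  have hβ : δ * conjAut E t ht * δ⁻¹ * (conjAut E t ht)⁻¹ ∈ Inn E := by
    generalize conjAut E t ht = τ at τ0 τA
    refine c.inn_of_stab hE (N := ga G (i + 1 + 1)) (fun α hα y _ => hN α hα y)
      (mul_mem (mul_mem (mul_mem hδ τA) (inv_mem hδ)) (inv_mem τA)) (mem_stab2.2 ⟨fun y hy k => ?_, fun y hy => ?_⟩)
    · rw [extA_of_mem _ hy]
      have a : τ⁻¹ ⟨y, hy⟩ = ⟨y, hy⟩ := (MulEquiv.symm_apply_eq τ).2 (τ0 _ k).symm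
      have b : δ⁻¹ ⟨y, hy⟩ = ⟨y, hy⟩ := (MulEquiv.symm_apply_eq δ).2 (δ0 _ k).symm
      rw [MulAut.mul_apply, MulAut.mul_apply, MulAut.mul_apply, a, b, τ0 _ k, δ0 _ k]
    · rw [extA_of_mem _ hy]
      have a := hN' τ τA _ (δn (δ⁻¹ (τ⁻¹ ⟨y, hy⟩)))
      rw [MulAut.apply_inv_self, map_mul, MulAut.apply_inv_self] at a
      have b := mul_mem (inv_mem a) (δn (τ (δ⁻¹ (τ⁻¹ ⟨y, hy⟩))))
      rw [mul_inv_rev, mul_assoc, inv_mul_cancel_left] at b
      exact b
  obtain ⟨f, hf, ef⟩ := c.exists_ext hE.2.1 hδ ht (by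
    obtain ⟨g, hg⟩ := hβ
    have : MulAut.conj g ∈ autInducedBy ⊤ E := subset_closure ⟨g, mem_top _, fun _ => rfl⟩
    simpa [hg] using mul_mem this τT)
  obtain ⟨φ, hφ⟩ := hext _ f (lt_of_le_of_ne le_sup_left fun k =>
    tE (k.ge (mem_sup_right (mem_zpowers t)))) hf
  have eφ : ∀ y (hy : y ∈ E), φ y = δ ⟨y, hy⟩ := fun y hy => by
    rw [hφ y (mem_sup_left hy), ef y hy, extA_of_mem _ hy]
  have nφ : ∀ y ∈ E, y * φ y ∈ ga G (i + 1 + 1) := fun y hy => by
    rw [eφ y hy]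
    exact δn ⟨y, hy⟩
  obtain ⟨y, y1, y2⟩ := exists_ga_gen h h4 (i := i + 1) (by omega)
  exact w_par h h4 hne φ hj hx' (ga_le_C2 (by omega) (nφ x hxE)) y1 y2 (nφ y (jE y1)) fun z hz => by
    rw [eφ z (NE' hz), δ0 _ hz]

theorem Ctx.not_exsp (c : Ctx p n F) (hne : C2 G (n - 3) ≠ C2 G 1) (hE : F.IsEssential p E)
    (hc : Nat.card E = p ^ 3) (hab : ¬ IsMulCommutative E) : False := by
  have h := c.mc
  have h4 := c.four
  obtain ⟨s, hsE, hs⟩ := c.out_of_ps hE (Or.inr ⟨hc, hab⟩)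
  have s1 := hs.not_mem h4
  have hx : ¬ E ≤ C2 G 1 := fun k => s1 (k hsE)
  obtain ⟨j, -, j2, e⟩ := hs.eq_ga' h h4 (D := E ⊓ C2 G 1) inf_le_right fun y hy =>
    ⟨E.mul_mem (E.mul_mem hsE hy.1) (E.inv_mem hsE), Normal.conj_mem inferInstance y hy.2 s⟩
  have a := FP.card_eq h h4 hx e j2
  rw [hc, Nat.pow_right_inj hp.out.one_lt] at a
  have jE : ga G j ≤ E := e.ge.trans inf_le_left
  have nc : ∀ y ∈ E, y ∉ C2 G 1 → ¬ ∀ v ∈ ga G j, Commute y v := fun y hy y1 k =>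
    hab (FP.ab h h4 hy y1 e (by omega) k)
  have e1 : j + 1 = n - 1 := by omega
  refine c.par hne hE (.inl (by omega)) hx e (fun y hy => ?_) (fun α _ z hz => ?_) fun Q f hQ hf => ?_
  · by_cases y1 : y ∈ C2 G 1
    · exact pow_mem_ga h h4 (e.le ⟨hy, y1⟩)
    have o : Out n y := (out_iff h h4).2 ⟨y1, fun k => nc y hy y1 (by
      rw [show j = n - 2 by omega]; exact (mem_C_iff h h4).1 k)⟩
    rw [e1]
    refine o.mem_ga_of_commute h h4 y1 (by omega) ?_ ((Commute.refl y).pow_right p)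
    rw [← ga_one]
    exact pow_mem_ga h h4 (i := 0) (ga_zero (G := G) ▸ mem_top _)
  · have zE := jE (ga_anti j.le_succ hz)
    rw [e1] at hz ⊢
    have k := FP.ext_comm α zE fun u _ => mem_center_iff.1 ((ga_center h h4).le hz) u
    refine hs.mem_ga_of_commute h h4 s1 (by omega) (by_contra fun w1 => ?_) (k s hsE)
    exact nc _ (extA_mem α zE) w1 fun v hv => (k v (jE hv)).symm
  · refine c.ext_top (X := {x | Out n x}) (fun φ x hx => Out.aut hx φ) hf ⟨s, hQ.le hsE, hs⟩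
      fun R hR hle x hx o => ?_
    have := (c.ps_of_out hR o hx).le
    have := card_lt_of_lt hQ
    omega

theorem st1_of (h : MC p n G) (h4 : 4 ≤ n)
    (ha : ∀ D : FusionSystem (⊤ : Subgroup G), D.IsSaturated p → D.StronglyClosed (center G) → ∀ E,
      D.IsEssential p E → E = C2 G 1 ∨ ¬ E ≤ C2 G 1 ∧ Nat.card E ≤ p ^ 4) : St1 p n G := by
  intro D hD hZ E₀ hE₀
  refine or_iff_not_imp_right.2 fun n0 => by_contra fun n1 => ?_
  have x0 := ((ha D hD hZ E₀ hE₀).resolve_left n0).1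
  have c : Ctx p n D := ⟨h, h4, hD⟩
  by_cases hne : C2 G (n - 3) = C2 G 1
  · obtain ⟨x, hx, hx'⟩ := SetLike.not_le_iff_exists.1 x0
    exact n1 ⟨x, hx, (ne_of_eq h h4 hne).out hx'⟩
  obtain ⟨E, ⟨hE, hx, no⟩, mx⟩ := Set.exists_max_image
    {E : Subgroup G | D.IsEssential p E ∧ ¬ E ≤ C2 G 1 ∧ ∀ x ∈ E, ¬ Out n x} (fun E => Nat.card E)
    (Set.toFinite _) ⟨E₀, hE₀, x0, fun x hx o => n1 ⟨x, hx, o⟩⟩
  have h6 := exc_six h h4 hne
  have EC : ∀ y ∈ E, ∀ z ∈ ga G (n - 2), Commute y z := fun y hy =>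
    (mem_C_iff h h4).1 ((le_or_le_of_not_out h h4 no).resolve_left hx hy)
  have ZE : ga G (n - 2) ≤ E := fun z hz => ess_cent_le hE fun y hy => EC y hy z hz
  have Zi : ga G (n - 2) ≤ E ⊓ C2 G 1 := le_inf ZE (ga_le_C2 (by omega))
  obtain ⟨x, hxE, x1⟩ := SetLike.not_le_iff_exists.1 hx
  have ou : ∀ {y : G}, y ∉ C2 G 1 → Out (n - 1) y := fun k => (ne_pred h h4).out k
  obtain ⟨j, -, j2, e⟩ := (ou x1).eq_ga h h4 x1 (by omega) (D := E ⊓ C2 G 1)
    ((ga_anti (by omega)).trans Zi) inf_le_right fun y hy =>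
      ⟨E.mul_mem (E.mul_mem hxE hy.1) (E.inv_mem hxE), Normal.conj_mem inferInstance y hy.2 x⟩
  have j3 : j ≤ n - 2 := le_of_ga_le h h4 (by omega) (Zi.trans e.le)
  have a := FP.card_eq h h4 hx e (by omega)
  have b := ((ha D hD hZ E hE).resolve_left fun k => hx k.le).2
  rw [a, Nat.pow_le_pow_iff_right hp.out.one_lt] at b
  have jE : ga G j ≤ E := e.ge.trans inf_le_left
  have hext : ∀ (Q : Subgroup G) (f : G → G), E < Q → Map D Q f →
      ∃ φ : MulAut G, ∀ y ∈ Q, φ y = f y := fun Q f hQ hf => by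
    refine c.ext_top (X := {x | x ∉ C2 G 1}) (fun φ x hx k => hx ?_) hf ⟨x, hQ.le hxE, x1⟩
      fun R hR hle y hy y1 => ?_
    · rw [← ga_one] at k ⊢
      exact (aut_mem_ga φ).1 k
    have q := card_lt_of_lt hQ
    have : p ^ 3 ≤ Nat.card E := a ▸ Nat.pow_le_pow_right hp.out.pos (by omega)
    have := mx R ⟨hR, fun k => y1 (k hy), fun z hz o => by
      have := (c.ps_of_out hR o hz).le
      omega⟩
    omega
  rcases (by omega : j + 2 = n ∨ j + 3 = n) with hj | hj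
  · have e1 : j + 1 = n - 1 := by omega
    refine c.par hne hE (.inl hj) hx e (fun y hy => ?_) (fun α hα z hz => ?_) hext
    · rw [c.pow_eq_one_of_comm hE (by rw [a]; congr 1; omega)
        (FP.ab h h4 hxE x1 e (by omega) fun v hv => EC x hxE v (by rwa [show n - 2 = j by omega])) y hy]
      exact one_mem _
    · have zE := jE (ga_anti j.le_succ hz)
      rw [e1, ga_center h h4] at hz ⊢
      exact ((mem_autGroup le_top).1 hα).mem_of_stronglyClosed hZ zE hz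
  have e1 : j + 1 = n - 1 - 1 := by omega
  refine c.par hne hE (.inr hj) hx e (fun y hy => ?_) (fun α _ z hz => ?_) hext
  · by_cases y1 : y ∈ C2 G 1
    · exact pow_mem_ga h h4 (e.le ⟨hy, y1⟩)
    rw [e1]
    refine (ou y1).mem_ga_of_commute h h4 y1 (by omega) ?_ ((Commute.refl y).pow_right p)
    rw [← ga_one]
    exact pow_mem_ga h h4 (i := 0) (ga_zero (G := G) ▸ mem_top _)
  · have zE := jE (ga_anti j.le_succ hz)
    have k := FP.ext_comm α zE fun u hu => EC u hu z (by rwa [show n - 2 = j + 1 by omega])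
    rw [e1]
    refine (ou x1).mem_ga_of_commute h h4 x1 (by omega) (by_contra fun w1 => ?_) (k x hxE)
    obtain ⟨t, t1, t2⟩ := exists_ga_gen h h4 (i := j) (by omega)
    exact t2 (e1 ▸ (ou w1).mem_ga_of_commute h h4 w1 (by omega) (ga_le_C2 (by omega) t1)
      (k t (jE t1)).symm)

end H90.MX
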