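import Mathlib
import Cfsg.Agent.Base
import Cfsg.Agent.Lib.MX.FD
import Cfsg.Agent.Lib.Fusion.CentPre

set_option autoImplicit false
set_option linter.unusedSectionVars false

namespace H90.MX

open Subgroup Cfsg Cfsg.FusionSystem H83.Krek H93
open scoped commutatorElement

universe u

variable {p n : ℕ} [hp : Fact p.Prime] {G : Type u} [Group G] [Finite G] {F : FusionSystem (⊤ : Subgroup G)}
  {E : Subgroup G}

theorem FQ.ker_le {Ω Ω' : Type*} [Group Ω] [Group Ω'] {S P : Subgroup Ω} [Finite S] {F : FusionSystem S}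
    {θ : S →* Ω'} (hS : IsPGroup p S) (hF : F.IsSaturated p) (hc : F.StronglyClosed (H91.kerIn θ))
    (hK : H91.kerIn θ ≤ centralizer (S : Set Ω)) (hP : F.IsEssential p P) {β : MulAut P}
    (hβ : β ∈ F.autGroup P) (e : ∀ x ∈ P, H91.ex θ (extA P β x) = H91.ex θ x) : β ∈ extAut F P := by
  have h1 := lt_of_isEssential hS hF hP
  have := finite_of_le h1.le
  have := finite_mulAut_of_le h1.le
  obtain ⟨t, ht, ht'⟩ := SetLike.exists_of_lt (lt_normalizerIn hS h1)
  have hA := autInducedBy_le_autGroup F h1.le (conjAut_mem ht.1 ht.2)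
  have sc : ∀ ρ ∈ F.autGroup P, ∀ x ∈ P, extA P ρ x ∈ H91.kerIn θ ↔ x ∈ H91.kerIn θ := fun ρ hρ x hx =>
    H91.SC.mem_iff hc ((mem_autGroup h1.le).1 hρ) hx
  have k1 : stab2 P (H91.kerIn θ) ⊓ F.autGroup P ≤ pCoreOf p (F.autGroup P) :=
    H1.le_pCoreOf inf_le_right (fun ρ hρ => mem_normalizer_fintype fun α hα =>
      ⟨conj_mem_stab2 (sc ρ hρ) hα.1, Subgroup.mul_mem _ (Subgroup.mul_mem _ hρ hα.2) (Subgroup.inv_mem _ hρ)⟩)
      (isPGroup_stab2 (hS.to_le h1.le) _).to_inf_left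
  have k2 : (conjAut P t ht.2)⁻¹ * (β * conjAut P t ht.2 * β⁻¹) ∈ stab2 P (H91.kerIn θ) := by
    refine mem_stab2.2 ⟨fun x hx hx' => ?_, fun x hx => ?_⟩
    · have a : ∀ y ∈ P, y ∈ H91.kerIn θ → extA P (conjAut P t ht.2) y = y := fun y hy hy' => by
        rw [extA_conjAut ht.2 hy, hK hy' t ht.1, mul_inv_cancel_right]
      rw [extA_mul_apply, extA_mul_apply, extA_mul_apply,
        a _ (extA_mem _ hx) ((sc _ (inv_mem hβ) x hx).2 hx'), ← extA_mul_apply _ β⁻¹, mul_inv_cancel,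
        map_one, Equiv.Perm.one_apply, extA_inv_apply, Equiv.Perm.inv_eq_iff_eq, a x hx hx']
    · refine (H91.ex_eq_iff (h1.le hx) (h1.le (extA_mem _ hx))).1 ?_
      have hy := extA_mem β⁻¹ hx
      have a : H91.ex θ (extA P β⁻¹ x) = H91.ex θ x := by
        rw [← e _ hy, ← extA_mul_apply, mul_inv_cancel, map_one, Equiv.Perm.one_apply]
      rw [extA_mul_apply, extA_mul_apply, extA_mul_apply, ← conjAut_inv,
        extA_conjAut _ (extA_mem _ (extA_mem _ hy)),
        H91.ex_conj θ (inv_mem ht.1) (h1.le (extA_mem _ (extA_mem _ hy))), e _ (extA_mem _ hy),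
        extA_conjAut _ hy, H91.ex_conj θ ht.1 (h1.le hy), a, H91.ex_inv θ ht.1]
      group
  have k3 := inn_le_autInducedBy h1.le ((isRadical_iff.1 (isRadical_of_isEssential hS hP)).2.le
    (k1 ⟨k2, Subgroup.mul_mem _ (Subgroup.inv_mem _ hA)
      (Subgroup.mul_mem _ (Subgroup.mul_mem _ hβ hA) (Subgroup.inv_mem _ hβ))⟩))
  exact mem_extAut_of_conj_mem (receptive_of_normalized hS hF hP.2.1) hβ (conjAut_mem ht.1 ht.2)
    (fun k => ht' (mem_of_conjAut_mem_inn h1.le (hP.1.2 P (isConj_refl F h1.le)) ht k))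
    ((mul_mem_cancel_left (inv_mem (conjAut_mem ht.1 ht.2))).1 k3)

open H91 in
theorem ess_quot {Ω Ω' : Type*} [Group Ω] [Group Ω'] {S P : Subgroup Ω} [Finite S] {S' : Subgroup Ω'}
    {F : FusionSystem S} {F' : FusionSystem S'} {θ : S →* Ω'} (hS : IsPGroup p S) (hF : F.IsSaturated p)
    (h : H91.Quot F F' θ) (hK : H91.kerIn θ ≤ centralizer (S : Set Ω)) (hP : F.IsEssential p P) :
    F'.IsEssential p (imageAlong θ P) := by
  have := h.finite
  have h1 := lt_of_isEssential hS hF hP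
  have := finite_of_le h1.le
  have k : kerIn θ ≤ P := fun x hx => hP.1.2 P (isConj_refl F h1.le)
    ⟨kerIn_le θ hx, fun y hy => hK hx y (h1.le hy)⟩
  have m : ∀ {x}, x ∈ S → ex θ x ∈ imageAlong θ P → x ∈ P := fun a b =>
    (preimage_image h1.le k).le (H91.mem_preimageAlong.2 ⟨a, b⟩)
  have h2 : ∀ Q' ≤ S', imageAlong θ P < Q' → P < preimageAlong θ Q' := fun Q' hQ' e =>
    lt_of_le_not_ge ((le_preimage_image θ h1.le).trans (preimageAlong_mono θ e.le)) fun e' =>
      e.not_ge ((image_preimage (hQ'.trans h.range.ge)).ge.trans (imageAlong_mono θ e'))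
  refine (isEssential_iff_extAut_ne (h.isPGroup hS) (h.isSaturated hS hF) (lt_of_le_not_ge
    (h.image_le P) fun e => h1.not_ge fun x hx => m hx (e (h.range.le (ex_mem_range θ hx))))
    (H90.Quot.isFullyNormalized_image hS hF h k hP.2.1)).2 fun e => extAut_ne_of_isEssential hS hF hP
      (le_antisymm (extAut_le F P) fun α hα => ?_)
  obtain ⟨π, hπ⟩ := exists_indHom h.sc h1.le
  have h3 := h.range_indHom h1.le k hπ
  obtain ⟨β, hβ, e1⟩ := (extAut_le_iff (K := ((extAut F P).subgroupOf _).map π)).2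
    (fun β Q' f' hQ' hf' e1 => by
      obtain ⟨f, hf, e2⟩ := h.lifts Q' f' hf'
      have h5 := h2 Q' hf'.le hQ'
      obtain ⟨σ, hσ, e3⟩ := hf.exists_perm
      have e4 : ∀ x ∈ P, ex θ (σ x) = extA _ β (ex θ x) := fun x hx => by
        rw [e3 x (h5.le hx), ← e2 x (h5.le hx), e1 _ (ex_mem_imageAlong hx (h1.le hx))]
      obtain ⟨γ, hγ, e5⟩ := ((hσ.mono h5.le).iso_self fun x hx => m (hσ.mem (h5.le hx))
        (e4 x hx ▸ extA_mem _ (ex_mem_imageAlong hx (h1.le hx)))).exists_aut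
      exact ⟨⟨γ, hγ⟩, mem_extAut h5 hσ e5, mulAut_ext_image h1.le fun x hx => by
        rw [hπ _ x hx, ← e4 x hx, ← e5 x hx]⟩)
    (e.ge (h3.le ⟨⟨α, hα⟩, rfl⟩))
  have h4 := FQ.ker_le hS hF h.sc hK hP (β⁻¹ * ⟨α, hα⟩ : F.autGroup P).2 fun x hx => by
    rw [← hπ _ x hx, map_mul, map_inv, e1, inv_mul_cancel, map_one, Equiv.Perm.one_apply]
  exact (mul_mem_cancel_left (inv_mem (show (β : MulAut P) ∈ extAut F P from hβ))).1 h4

theorem exists_top {Ω : Type*} [Group Ω] {S : Subgroup Ω} [Finite S] (hS : IsPGroup p S) {F : FusionSystem S}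
    (hF : F.IsSaturated p) : ∃ F' : FusionSystem (⊤ : Subgroup S), F'.IsSaturated p ∧
      ∀ E, F.IsEssential p E → F'.IsEssential p (E.subgroupOf S) := by
  have h0 : F.StronglyClosed ⊥ := ⟨bot_le, fun R hR φ _ x => by
    rw [show x = 1 from Subtype.ext (mem_bot.1 (hR x.2)), map_one]; exact one_mem _⟩
  have hK : H91.kerIn (MonoidHom.id S) = ⊥ := H91.kerIn_eq_of_iff bot_le fun s => by simp
  obtain ⟨F', h⟩ := H91.exists_factorSystem F h0 (MonoidHom.id S) hK ⊤
    (MonoidHom.range_eq_top.2 Function.surjective_id)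
  have q := H91.Quot.of_factor h0 h
  refine ⟨F', q.isSaturated hS hF, fun E hE => ?_⟩
  have := ess_quot hS hF q (hK.le.trans bot_le) hE
  rwa [imageAlong, Subgroup.map_id] at this

theorem Ctx.step_a (c : Ctx p n F) (h5 : 5 ≤ n) (hZ : F.StronglyClosed (center G))
    (ih : ∀ F' : FusionSystem (⊤ : Subgroup (G ⧸ center G)), Ctx p (n - 1) F' → ∀ E', F'.IsEssential p E' →
      (∃ s ∈ E', Out (n - 1) s) ∨ E' = C2 (G ⧸ center G) 1 ∨ E' = C2 (G ⧸ center G) (n - 1 - 3))
    (hE : F.IsEssential p E) : E = C2 G 1 ∨ ¬ E ≤ C2 G 1 ∧ Nat.card E ≤ p ^ 4 := by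
  let θ : (⊤ : Subgroup G) →* G ⧸ center G := (QuotientGroup.mk' _).comp (⊤ : Subgroup G).subtype
  have hK : H91.kerIn θ = center G := H91.kerIn_eq_of_iff le_top fun s => QuotientGroup.eq_one_iff _
  have hr : θ.range = ⊤ := MonoidHom.range_eq_top.2 fun y => by
    obtain ⟨x, rfl⟩ := QuotientGroup.mk'_surjective _ y
    exact ⟨⟨x, mem_top x⟩, rfl⟩
  obtain ⟨F', h⟩ := H91.exists_factorSystem F hZ θ hK ⊤ hr
  have q := H91.Quot.of_factor hZ h
  have c' : Ctx p (n - 1) F' := ⟨c.mc.quot (j := 1) (by omega) (by omega) (by rw [pow_one, c.mc.card_center]),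
    by omega, q.isSaturated c.pg c.sat⟩
  have hE' := ess_quot c.pg c.sat q (hK.le.trans (center_le_centralizer _)) hE
  have pre := H91.preimage_image (θ := θ) (P := E) le_top (hK.le.trans (ess_center_le hE))
  have m : ∀ x, x ∈ E ↔ QuotientGroup.mk' (center G) x ∈ imageAlong θ E := fun x => by
    conv_lhs => rw [← pre, H91.mem_preimageAlong, H91.ex_of_mem θ (mem_top x)]
    exact and_iff_right (mem_top x)
  have t : ∀ i, i + 4 ≤ n → ∀ x, QuotientGroup.mk' (center G) x ∈ C2 _ i ↔ x ∈ C2 G i := fun i hi x =>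
    mem_C2_map_iff (QuotientGroup.mk'_surjective _) (by
      rw [QuotientGroup.ker_mk', c.mc.center_eq]; exact lc_anti (by omega))
  rcases ih F' c' _ hE' with ⟨s, hs, hs'⟩ | e | e
  · obtain ⟨s, rfl⟩ := QuotientGroup.mk'_surjective _ s
    refine Or.inr ⟨fun k => hs'.not_mem (by omega) ((t 1 h5 s).2 (k ((m s).2 hs))), ?_⟩
    have a := H91.card_preimageAlong (θ := θ) (P' := imageAlong θ E) (hr ▸ le_top)
    have b : Nat.card θ.ker = p := (card_map_of_injective (subtype_injective _)).symm.trans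
      ((congrArg (fun K : Subgroup G => Nat.card K) hK).trans c.mc.card_center)
    rw [pre, b] at a
    rw [a, pow_succ]
    exact Nat.mul_le_mul_right _ (c'.ps_of_out hE' hs' hs).le
  · exact Or.inl (ext fun x => by rw [m, e, t 1 h5])
  · exact Or.inl (ext fun x => by rw [m, e, t _ (by omega), blackburn c.mc (by omega) (by omega)])

end H90.MX
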