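import Mathlib
import Cfsg.Agent.Base
import Cfsg.Agent.Lib.MX.FQ
import Cfsg.Agent.Lib.MX.FP
import Cfsg.Agent.Lib.MX.FN
import Cfsg.Agent.Lib.MX.FE
import Cfsg.Agent.Lib.MX.FC

/-!
# Essential subgroups of fusion systems on `p`-groups of maximal class (helper90)
-/

set_option autoImplicit false
set_option linter.unusedSectionVars false

namespace H90.MX

open Subgroup Cfsg Cfsg.FusionSystem H83.Krek H93

universe u

variable {p n : ℕ} [hp : Fact p.Prime] {G : Type u} [Group G] [Finite G] {F : FusionSystem (⊤ : Subgroup G)}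
  {E : Subgroup G}

theorem Ctx.of_not_bad (c : Ctx p n F) (st : St1 p n G) (hE : F.IsEssential p E) (h : ¬ Bad p n F E) :
    (∃ s ∈ E, Out n s) ∨ E = C2 G 1 ∨ E = C2 G (n - 3) := or_iff_not_imp_left.2 fun k => by
  have := c.four
  exact c.eq_of_normal hE (H5.normal_of_index_eq c.mc.isPGroup ((c.mc.index_eq (i := 1) (by omega) (by_contra fun e =>
    h ⟨c, st, hE, fun a => k (c.out_of_ps hE a), e⟩)).trans (pow_one p))) fun x hx e => k ⟨x, hx, e⟩

theorem not_bad (b : Bad p n F E) : False := by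
  by_cases hne : C2 G (n - 3) = C2 G 1
  · obtain ⟨R, hR, hm⟩ := exists_max_of_bdd (s := Bad p n F) (f := fun R => Nat.card R)
      (fun R _ => R.card_le_card_group) ⟨E, b⟩
    refine hR.nonexc hne fun Q hQ hc => ?_
    obtain ⟨s, hs, hs'⟩ | e | e := b.toCtx.of_not_bad b.st hQ fun k => (hm Q k).not_gt hc
    · exact absurd ((b.toCtx.ps_of_out hQ hs' hs).le.trans hR.le_card) hc.not_ge
    · exact e
    · exact e.trans hne
  by_cases h : E ≤ C2 G 1
  · exact b.exc_gam hne h
  · exact b.exc_C hne ((le_or_le_of_not_out b.mc b.four fun x hx => b.not_out (le_normalizer hx)).resolve_left h) h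

theorem st1_four (h : MC p 4 G) : St1 p 4 G := fun _ _ _ E hE => or_iff_not_imp_left.2 fun k => by
  have a : E ≤ C2 G 1 := (le_or_le_of_not_out h le_rfl fun x hx e => k ⟨x, hx, e⟩).elim id id
  exact le_antisymm a fun x hx => ess_cent_le hE fun y hy => commutatorElement_eq_one_iff_mul_comm.1
    (mem_bot.1 ((ga_eq_bot h le_rfl le_rfl).le (comm_C2_mem h le_rfl (a hy) hx)))

theorem ess_cases (n : ℕ) : ∀ (G : Type u) [Group G] [Finite G] (F : FusionSystem (⊤ : Subgroup G)), Ctx p n F →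
    ∀ E, F.IsEssential p E → (∃ s ∈ E, Out n s) ∨ E = C2 G 1 ∨ E = C2 G (n - 3) := by
  induction n using Nat.strong_induction_on with
  | _ n ih =>
    intro G _ _ F c E hE
    refine c.of_not_bad ?_ hE not_bad
    obtain rfl | h5 := eq_or_lt_of_le c.four
    · exact st1_four c.mc
    · exact st1_of c.mc c.four fun D hD hZ E hE =>
        Ctx.step_a ⟨c.mc, c.four, hD⟩ h5 hZ (ih (n - 1) (by omega) _) hE

variable {Ω : Type u} [Group Ω] {S P : Subgroup Ω} [Finite S] {D : FusionSystem S}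

theorem ess_main (h : MC p n S) (h4 : 4 ≤ n) (hD : D.IsSaturated p) (hP : D.IsEssential p P) :
    ((Nat.card P = p ^ 2 ∧ IsElementaryAbelian p P) ∨ (Nat.card P = p ^ 3 ∧ IsExtraspecial p P ∧
      (p ≠ 2 → Monoid.exponent P = p) ∧ (p = 2 → Nonempty (P ≃* QuaternionGroup 2))) ∨
      P.subgroupOf S = C2 S 1 ∨ P.subgroupOf S = C2 S (n - 3)) ∧
    (C2 S (n - 3) ≠ C2 S 1 → Nat.card P = p ^ 3 → IsMulCommutative P) := by
  obtain ⟨F, hF, k⟩ := exists_top h.isPGroup hD
  have c : Ctx p n F := ⟨h, h4, hF⟩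
  have hE := k P hP
  have e := subgroupOfEquivOfLe hP.1.1
  have hc := Nat.card_congr e.toEquiv
  haveI := finite_of_le hP.1.1
  have ab : IsMulCommutative (P.subgroupOf S) → IsMulCommutative P := fun a =>
    ⟨⟨fun x y => e.symm.injective (by rw [map_mul, map_mul]; exact mul_comm' _ _)⟩⟩
  refine ⟨?_, fun hne h3 => by_contra fun a => c.not_exsp hne hE (hc.trans h3) (mt ab a)⟩
  obtain ⟨s, hs, hs'⟩ | a := ess_cases n S F c _ hE
  · have ps := c.ps_of_out hE hs' hs
    obtain ⟨a, b⟩ | ⟨a, -, b, d⟩ := c.pearl_of_ps hE ps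
    · exact .inl ⟨hc ▸ a, ab b.1, fun x hx => congrArg Subtype.val (b.2 ⟨x, hP.1.1 hx⟩ hx)⟩
    · obtain f | f := ps.of_equiv e
      · exact absurd (Nat.pow_right_injective hp.out.two_le (f.symm.trans (hc.symm.trans a))) (by decide)
      · exact .inr (.inl ⟨f.1, isExtraspecial_of_card_cube f.1 (mt (commutator_eq_bot_iff P).1 f.2),
          fun g => (Monoid.exponent_eq_of_mulEquiv e).symm.trans (b g), fun g => ⟨e.symm.trans (d g).some⟩⟩)
  · exact .inr (.inr a)

end H90.MX
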